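import Groth.Agent.BMCoh.K876.Geom2
import Mathlib.CategoryTheory.Limits.ConcreteCategory.Basic
import Mathlib.CategoryTheory.Limits.ConcreteCategory.WithAlgebraicStructures
import Mathlib.CategoryTheory.Limits.FunctorCategory.Basic
import Mathlib.Algebra.Category.ModuleCat.FilteredColimits

/-!
# Elements of the open-system colimits
-/

set_option autoImplicit false
universe u

open TopologicalSpace Topology AlgebraicGeometry CategoryTheory BMCoh Opposite CategoryTheory.Limits

namespace K876.Colim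

open K876.Dim K876.Geom

variable {V : ObjectProperty Scheme.{u}} [IsConstructible V] {R : Type u} [CommRing R] {A : Coefs R}
variable (T : PreTheory V R A)

/-! ### Morphisms of objects -/

omit [IsConstructible V] in
theorem hom_cancel {W S X : Obj V} (g : S ⟶ X) {f f' : W ⟶ S} (h : f ≫ g = f' ≫ g) : f = f' := by
  apply BMCoh.Hom.ext
  rw [← cancel_mono g.hom]
  exact congrArg BMCoh.Hom.hom h

/-- Lifting a morphism of objects along another one with larger range. -/
noncomputable def liftHom {S S' X : Obj V} (g : S ⟶ X) (g' : S' ⟶ X)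
    (h : Set.range g'.hom ⊆ Set.range g.hom) : S' ⟶ S :=
  ⟨IsOpenImmersion.lift g.hom g'.hom h, by
    have h1 : IsOpenImmersion (IsOpenImmersion.lift g.hom g'.hom h ≫ g.hom) := by
      rw [IsOpenImmersion.lift_fac]; infer_instance
    exact IsOpenImmersion.of_comp _ g.hom, g'.dim_eq.trans g.dim_eq.symm⟩

omit [IsConstructible V] in
@[simp] theorem liftHom_comp {S S' X : Obj V} (g : S ⟶ X) (g' : S' ⟶ X)
    (h : Set.range g'.hom ⊆ Set.range g.hom) : liftHom g g' h ≫ g = g' :=
  BMCoh.Hom.ext (IsOpenImmersion.lift_fac _ _ _)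

/-- The restriction of classes. -/
abbrev rs {X Y : Obj V} (f : X ⟶ Y) {M : A.Cat} {i n : ℤ} (a : T.gp Y M i n) : T.gp X M i n :=
  (T.pull f M i n).hom a

omit [IsConstructible V] in
theorem rs_comp {X Y Z : Obj V} (f : X ⟶ Y) (g : Y ⟶ Z) {M : A.Cat} {i n : ℤ}
    (a : T.gp Z M i n) : rs T (f ≫ g) a = rs T f (rs T g a) := by
  unfold rs
  have h : T.pull (f ≫ g) M i n = T.pull g M i n ≫ T.pull f M i n := by
    simp only [PreTheory.pull, op_comp, Functor.map_comp, NatTrans.comp_app]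
  rw [h]
  rfl

omit [IsConstructible V] in
theorem rs_id (X : Obj V) {M : A.Cat} {i n : ℤ} (a : T.gp X M i n) : rs T (𝟙 X) a = a := by
  unfold rs
  have h : T.pull (𝟙 X) M i n = 𝟙 _ :=
    congrArg (fun φ => φ.app M) ((T.H i n).map_id (op X))
  rw [h]
  rfl

omit [IsConstructible V] in
theorem rs_congr {X Y : Obj V} {f f' : X ⟶ Y} (h : f = f') {M : A.Cat} {i n : ℤ}
    (a : T.gp Y M i n) : rs T f a = rs T f' a := by rw [h]

/-! ### Representatives -/

/-- The property is stable under intersections (with the dimension condition) and holds for the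
whole space. -/
structure Dir (X : Obj V) (P : X.scheme.Opens → Prop) : Prop where
  top : P ⊤
  inf : ∀ U U' : Idx X P, P (U.1 ⊓ U'.1) ∧
    WeilCoh.dim ((U.1 ⊓ U'.1 : X.scheme.Opens) : Scheme.{u}) = WeilCoh.dim X.scheme

theorem dir_fj (X : Obj V) (j : ℕ) : Dir X (ContainsFj X j) where
  top := fun _ _ => trivial
  inf := fun U U' => by
    have h : ContainsFj X j (U.1 ⊓ U'.1) := fun y hy => ⟨U.2.1 y hy, U'.2.1 y hy⟩
    exact ⟨h, dim_res_eq_of_containsFj X j _ h⟩

theorem dir_ne (X : Obj V) [IrreducibleSpace X.scheme] :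
    Dir X (fun U => (U : Set X.scheme).Nonempty) where
  top := ⟨genericPoint X.scheme, trivial⟩
  inf := fun U U' => by
    have h : ((U.1 ⊓ U'.1 : X.scheme.Opens) : Set X.scheme).Nonempty :=
      nonempty_preirreducible_inter U.1.isOpen U'.1.isOpen U.2.1 U'.2.1
    exact ⟨h, IsConstructible.dim_open X.mem inferInstance _ h⟩

omit [IsConstructible V] in
theorem Dir.isFiltered {X : Obj V} {P : X.scheme.Opens → Prop} (h : Dir X P) :
    IsFiltered (Idx X P)ᵒᵖ := by
  have h1 : Nonempty (Idx X P) := ⟨⟨⊤, h.top, dim_top _⟩⟩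
  have h2 : IsDirected (Idx X P) (· ≥ ·) := ⟨fun U U' =>
    ⟨⟨U.1 ⊓ U'.1, h.inf U U'⟩, (inf_le_left : U.1 ⊓ U'.1 ≤ U.1), (inf_le_right : U.1 ⊓ U'.1 ≤ U'.1)⟩⟩
  have h3 : IsCofiltered (Idx X P) := inferInstance
  infer_instance

/-- The evaluated colimit cocone is a colimit. -/
noncomputable def isColimitEval (X : Obj V) (P : X.scheme.Opens → Prop) (M : A.Cat) (i n : ℤ) :
    IsColimit (((evaluation A.Cat (ModuleCat.{u} R)).obj M).mapCocone
      (colimit.cocone ((idxDiag X P).op ⋙ T.H i n))) :=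
  isColimitOfPreserves _ (colimit.isColimit _)

theorem ocolim_rep (X : Obj V) (P : X.scheme.Opens → Prop) (hP : Dir X P) (M : A.Cat) (i n : ℤ)
    (ξ : (T.ocolim X P i n).obj M) :
    ∃ (U : Idx X P) (a : T.gp (X.res U.1) M i n), ((T.ocolimι X P i n U).app M).hom a = ξ := by
  have := hP.isFiltered
  obtain ⟨U, a, h⟩ := Concrete.isColimit_exists_rep
    (((idxDiag X P).op ⋙ T.H i n) ⋙ (evaluation A.Cat (ModuleCat.{u} R)).obj M)
    (isColimitEval T X P M i n) ξ
  exact ⟨U.unop, a, h⟩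

theorem ocolimι_res (X : Obj V) (P : X.scheme.Opens → Prop) (M : A.Cat) (i n : ℤ)
    (U U' : Idx X P) (h : U' ≤ U) (a : T.gp (X.res U.1) M i n) :
    ((T.ocolimι X P i n U').app M).hom (rs T (X.resLE h (U'.2.2.trans U.2.2.symm)) a) =
      ((T.ocolimι X P i n U).app M).hom a := by
  have h1 := colimit.w ((idxDiag X P).op ⋙ T.H i n) (homOfLE h).op
  have h2 := congrArg (fun φ => (φ.app M).hom a) h1
  exact h2

theorem ocolim_zero (X : Obj V) (P : X.scheme.Opens → Prop) (hP : Dir X P) (M : A.Cat) (i n : ℤ)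
    (U : Idx X P) (a : T.gp (X.res U.1) M i n)
    (ha : ((T.ocolimι X P i n U).app M).hom a = 0) :
    ∃ (U' : Idx X P) (h : U' ≤ U), rs T (X.resLE h (U'.2.2.trans U.2.2.symm)) a = 0 := by
  have := hP.isFiltered
  obtain ⟨W, f, g, h⟩ := Concrete.isColimit_exists_of_rep_eq
    (((idxDiag X P).op ⋙ T.H i n) ⋙ (evaluation A.Cat (ModuleCat.{u} R)).obj M)
    (isColimitEval T X P M i n) (i := op U) (j := op U) a (0 : T.gp (X.res U.1) M i n)
    (by
      have h1 : ((T.ocolimι X P i n U).app M).hom (0 : T.gp (X.res U.1) M i n) = 0 := map_zero _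
      exact ha.trans h1.symm)
  refine ⟨W.unop, leOfHom f.unop, ?_⟩
  have h2 : rs T (X.resLE (leOfHom f.unop) (W.unop.2.2.trans U.2.2.symm)) a =
      rs T (X.resLE (leOfHom g.unop) (W.unop.2.2.trans U.2.2.symm)) 0 := h
  rw [h2]
  exact map_zero _

/-! ### Classes along a morphism of objects -/

/-- The range of a morphism of objects, as an object, maps isomorphically to the source. -/
noncomputable def toRange {S X : Obj V} (g : S ⟶ X) : X.res g.hom.opensRange ⟶ S :=
  ⟨IsOpenImmersion.lift g.hom g.hom.opensRange.ι (by rw [Scheme.Opens.range_ι]; rfl), by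
    have h1 : IsOpenImmersion (IsOpenImmersion.lift g.hom g.hom.opensRange.ι
        (by rw [Scheme.Opens.range_ι]; rfl) ≫ g.hom) := by
      rw [IsOpenImmersion.lift_fac]; infer_instance
    exact IsOpenImmersion.of_comp _ g.hom, by
    have e : ((g.hom.opensRange : X.scheme.Opens) : Scheme.{u}) ≅ S.scheme :=
      IsOpenImmersion.isoOfRangeEq g.hom.opensRange.ι g.hom (by rw [Scheme.Opens.range_ι]; rfl)
    exact dim_eq_of_iso e⟩

theorem toRange_hom {S X : Obj V} (g : S ⟶ X) :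
    (toRange g).hom ≫ g.hom = g.hom.opensRange.ι := IsOpenImmersion.lift_fac _ _ _

theorem dim_range {S X : Obj V} (g : S ⟶ X) :
    WeilCoh.dim ((g.hom.opensRange : X.scheme.Opens) : Scheme.{u}) = WeilCoh.dim X.scheme :=
  (toRange g).dim_eq.trans g.dim_eq

/-- The class in an open-system colimit of a class on the source of a morphism of objects. -/
noncomputable def oc {X : Obj V} (P : X.scheme.Opens → Prop) {S : Obj V} (g : S ⟶ X)
    (hg : P g.hom.opensRange) {M : A.Cat} {i n : ℤ} (a : T.gp S M i n) :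
    (T.ocolim X P i n).obj M :=
  ((T.ocolimι X P i n ⟨g.hom.opensRange, hg, dim_range g⟩).app M).hom (rs T (toRange g) a)

theorem oc_add {X : Obj V} (P : X.scheme.Opens → Prop) {S : Obj V} (g : S ⟶ X)
    (hg : P g.hom.opensRange) {M : A.Cat} {i n : ℤ} (a b : T.gp S M i n) :
    oc T P g hg (a + b) = oc T P g hg a + oc T P g hg b := by
  simp [oc, rs]

theorem oc_zero {X : Obj V} (P : X.scheme.Opens → Prop) {S : Obj V} (g : S ⟶ X)
    (hg : P g.hom.opensRange) {M : A.Cat} {i n : ℤ} :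
    oc T P g hg (0 : T.gp S M i n) = 0 := by
  simp [oc, rs]

theorem oc_sub {X : Obj V} (P : X.scheme.Opens → Prop) {S : Obj V} (g : S ⟶ X)
    (hg : P g.hom.opensRange) {M : A.Cat} {i n : ℤ} (a b : T.gp S M i n) :
    oc T P g hg (a - b) = oc T P g hg a - oc T P g hg b := by
  simp [oc, rs]

theorem oc_rs {X : Obj V} (P : X.scheme.Opens → Prop) {S' S : Obj V} (k : S' ⟶ S) (g : S ⟶ X)
    (g' : S' ⟶ X) (hk : k ≫ g = g') (hg : P g.hom.opensRange) (hg' : P g'.hom.opensRange)
    {M : A.Cat} {i n : ℤ} (a : T.gp S M i n) :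
    oc T P g' hg' (rs T k a) = oc T P g hg a := by
  subst hk
  have hle : (k ≫ g).hom.opensRange ≤ g.hom.opensRange := by
    rintro _ ⟨x, rfl⟩
    exact ⟨k.hom x, rfl⟩
  unfold oc
  rw [← ocolimι_res T X P M i n ⟨g.hom.opensRange, hg, dim_range g⟩
    ⟨(k ≫ g).hom.opensRange, hg', dim_range _⟩ hle, ← rs_comp, ← rs_comp]
  congr 2
  apply hom_cancel g
  apply BMCoh.Hom.ext
  simp only [comp_hom, Category.assoc, toRange_hom, Obj.resLE]
  exact (toRange_hom (k ≫ g)).trans (Scheme.homOfLE_ι _ _).symm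

theorem oc_ι {X : Obj V} (P : X.scheme.Opens → Prop) (U : Idx X P)
    (hg : P (X.resι U.1 U.2.2).hom.opensRange) {M : A.Cat} {i n : ℤ}
    (a : T.gp (X.res U.1) M i n) :
    oc T P (X.resι U.1 U.2.2) hg a = ((T.ocolimι X P i n U).app M).hom a := by
  have hle : (X.resι U.1 U.2.2).hom.opensRange ≤ U.1 := by
    rintro _ ⟨x, rfl⟩
    exact x.2
  unfold oc
  rw [← ocolimι_res T X P M i n U ⟨(X.resι U.1 U.2.2).hom.opensRange, hg, dim_range _⟩ hle]
  congr 1

theorem opensRange_resι (X : Obj V) (U : X.scheme.Opens)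
    (hU : WeilCoh.dim (U : Scheme.{u}) = WeilCoh.dim X.scheme) :
    (X.resι U hU).hom.opensRange = U := Scheme.Opens.opensRange_ι U

theorem oc_rep {X : Obj V} {P : X.scheme.Opens → Prop} (hP : Dir X P) {M : A.Cat} {i n : ℤ}
    (ξ : (T.ocolim X P i n).obj M) :
    ∃ (U : Idx X P) (a : T.gp (X.res U.1) M i n),
      oc T P (X.resι U.1 U.2.2) (by rw [opensRange_resι]; exact U.2.1) a = ξ := by
  obtain ⟨U, a, h⟩ := ocolim_rep T X P hP M i n ξ
  exact ⟨U, a, by rw [oc_ι, h]⟩

theorem oc_eq_zero {X : Obj V} {P : X.scheme.Opens → Prop} (hP : Dir X P) {S : Obj V} (g : S ⟶ X)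
    (hg : P g.hom.opensRange) {M : A.Cat} {i n : ℤ} (a : T.gp S M i n)
    (ha : oc T P g hg a = 0) :
    ∃ (U : Idx X P) (k : X.res U.1 ⟶ S), k ≫ g = X.resι U.1 U.2.2 ∧ rs T k a = 0 := by
  obtain ⟨U, h, h0⟩ := ocolim_zero T X P hP M i n _ _ ha
  refine ⟨U, X.resLE h (U.2.2.trans (dim_range g).symm) ≫ toRange g, ?_, ?_⟩
  · apply BMCoh.Hom.ext
    simp only [comp_hom, Category.assoc, toRange_hom, Obj.resLE]
    exact Scheme.homOfLE_ι _ _
  · rw [rs_comp]
    exact h0

theorem map_oc {X : Obj V} {P Q : X.scheme.Opens → Prop} (h : ∀ U, P U → Q U) {S : Obj V}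
    (g : S ⟶ X) (hg : P g.hom.opensRange) {M : A.Cat} {i n : ℤ} (a : T.gp S M i n) :
    ((T.ocolimMap X h i n).app M).hom (oc T P g hg a) = oc T Q g (h _ hg) a := by
  have h1 := colimit.ι_pre ((idxDiag X Q).op ⋙ T.H i n) (idxIncl X h).op
    (op ⟨g.hom.opensRange, hg, dim_range g⟩)
  have h2 := congrArg (fun φ => (φ.app M).hom (rs T (toRange g) a)) h1
  exact h2

end K876.Colim
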