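import Groth.Prelude.Def_BMCoh

/-!
# Dimensions of points, opens and closed subspaces for objects of a constructible class
-/

set_option autoImplicit false
universe u

open TopologicalSpace Topology AlgebraicGeometry CategoryTheory

namespace K876.Dim

section Top

variable {T : Type u} [TopologicalSpace T]

theorem krullDim_spec [QuasiSober T] [T0Space T] :
    topologicalKrullDim T = @Order.krullDim T (specializationPreorder T) := by
  let _ := specializationOrder T
  exact Order.krullDim_eq_of_orderIso (irreducibleSetEquivPoints (α := T))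

theorem krullDim_closure [QuasiSober T] [T0Space T] (x : T) :
    topologicalKrullDim (closure {x} : Set T) =
      (@Order.height T (specializationPreorder T) x : WithBot ℕ∞) := by
  have : QuasiSober (closure {x} : Set T) :=
    (isClosed_closure (s := {x})).isClosedEmbedding_subtypeVal.quasiSober
  rw [krullDim_spec]
  let _ := specializationPreorder T
  change _ = ((Order.height x : ℕ∞) : WithBot ℕ∞)
  rw [Order.height_eq_krullDim_Iic]
  exact @Order.krullDim_eq_of_orderIso _ _ (specializationPreorder (closure {x} : Set T)) _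
    { toFun := fun y => ⟨y.1, specializes_iff_mem_closure.2 y.2⟩
      invFun := fun y => ⟨y.1, specializes_iff_mem_closure.1 y.2⟩
      left_inv := fun _ => rfl
      right_inv := fun _ => rfl
      map_rel_iff' := fun {a b} => (subtype_specializes_iff (x := b) (y := a)).symm }

end Top

section Sch

variable {X : Scheme.{u}}

theorem height_lt_top (hX : topologicalKrullDim X < ⊤) (x : X) : Order.height x < ⊤ := by
  have h : (Order.height x : WithBot ℕ∞) ≤ topologicalKrullDim X := by
    rw [krullDim_spec]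
    exact Order.height_le_krullDim x
  exact WithBot.coe_lt_coe.1 (lt_of_le_of_lt h hX)

theorem coe_pdim (hX : topologicalKrullDim X < ⊤) (x : X) :
    (WeilCoh.pdim X x : ℕ∞) = Order.height x := by
  unfold WeilCoh.pdim WeilCoh.natDim
  rw [krullDim_closure x, WithBot.unbotD_coe]
  exact ENat.natCast_toNat (height_lt_top hX x).ne

theorem coe_dim (hX : topologicalKrullDim X < ⊤) [Nonempty X] :
    ((WeilCoh.dim X : ℕ∞) : WithBot ℕ∞) = topologicalKrullDim X := by
  unfold WeilCoh.dim WeilCoh.natDim
  have h : topologicalKrullDim X ≠ ⊥ := by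
    rw [krullDim_spec]
    exact Order.bot_lt_krullDim.ne'
  obtain ⟨n, hn⟩ := WithBot.ne_bot_iff_exists.1 h
  rw [← hn] at hX ⊢
  rw [WithBot.unbotD_coe]
  have : n < ⊤ := WithBot.coe_lt_coe.1 hX
  rw [ENat.natCast_toNat this.ne]

theorem pdim_le_dim (hX : topologicalKrullDim X < ⊤) (x : X) :
    WeilCoh.pdim X x ≤ WeilCoh.dim X := by
  have : Nonempty X := ⟨x⟩
  have h : (Order.height x : WithBot ℕ∞) ≤ topologicalKrullDim X := by
    rw [krullDim_spec]
    exact Order.height_le_krullDim x
  rw [← coe_pdim hX, ← coe_dim hX] at h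
  exact_mod_cast h

theorem pdim_lt (hX : topologicalKrullDim X < ⊤) {x y : X} (h : x ⤳ y) (hne : y ≠ x) :
    WeilCoh.pdim X y < WeilCoh.pdim X x := by
  have h1 : y < x := by
    refine lt_of_le_not_ge h ?_
    intro h2
    exact hne (Specializes.antisymm (show y ⤳ x from h2) h).eq
  have h2 := Order.height_add_one_le h1
  rw [← coe_pdim hX, ← coe_pdim hX] at h2
  have h3 : WeilCoh.pdim X y + 1 ≤ WeilCoh.pdim X x := by exact_mod_cast h2
  omega

theorem pdim_le (hX : topologicalKrullDim X < ⊤) {x y : X} (h : x ⤳ y) :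
    WeilCoh.pdim X y ≤ WeilCoh.pdim X x := by
  by_cases hne : y = x
  · rw [hne]
  · exact (pdim_lt hX h hne).le

theorem eq_of_specializes (hX : topologicalKrullDim X < ⊤) {x y : X} (h : x ⤳ y)
    (hd : WeilCoh.pdim X x ≤ WeilCoh.pdim X y) : y = x := by
  by_contra hne
  have := pdim_lt hX h hne
  omega

theorem dim_eq_of_isEmpty [h : IsEmpty X] : WeilCoh.dim X = 0 := by
  unfold WeilCoh.dim WeilCoh.natDim
  have : IsEmpty (IrreducibleCloseds X) := ⟨fun C => by
    obtain ⟨x, -⟩ := C.isIrreducible.nonempty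
    exact h.elim x⟩
  have : topologicalKrullDim X = ⊥ := Order.krullDim_eq_bot
  rw [this]
  rfl

theorem exists_series (hX : topologicalKrullDim X < ⊤) [Nonempty X] :
    ∃ p : LTSeries X, p.length = WeilCoh.dim X ∧ ∀ i, Order.height (p i) = i := by
  have h1 : Order.krullDim X = topologicalKrullDim X := krullDim_spec.symm
  rw [← coe_dim hX] at h1
  have : FiniteDimensionalOrder X := by
    rw [Order.finiteDimensionalOrder_iff_krullDim_ne_bot_and_top, h1]
    refine ⟨WithBot.coe_ne_bot, ?_⟩
    exact_mod_cast ENat.natCast_ne_top _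
  obtain ⟨p, hp⟩ : ∃ p : LTSeries X, (p.length : WithBot ℕ∞) = Order.krullDim X :=
    ⟨LTSeries.longestOf X, (Order.krullDim_eq_length_of_finiteDimensionalOrder).symm⟩
  have h2 : p.length = WeilCoh.dim X := by
    rw [h1] at hp
    exact_mod_cast hp
  refine ⟨p, h2, fun i => ?_⟩
  apply Order.height_eq_index_of_length_eq_height_last
  apply le_antisymm Order.length_le_height_last
  have h3 := Order.height_le_krullDim p.last
  rw [h1, ← h2] at h3
  exact_mod_cast h3

theorem exists_pdim_eq (hX : topologicalKrullDim X < ⊤) [Nonempty X] {n : ℕ}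
    (hn : n ≤ WeilCoh.dim X) : ∃ x : X, WeilCoh.pdim X x = n := by
  obtain ⟨p, h1, h2⟩ := exists_series hX
  refine ⟨p ⟨n, by omega⟩, ?_⟩
  have := h2 ⟨n, by omega⟩
  rw [← coe_pdim hX] at this
  exact_mod_cast this

theorem exists_codim_eq (hX : topologicalKrullDim X < ⊤) [Nonempty X] {j : ℕ}
    (hj : j ≤ WeilCoh.dim X) : ∃ x : X, WeilCoh.codim X x = j := by
  obtain ⟨x, hx⟩ := exists_pdim_eq hX (n := WeilCoh.dim X - j) (by omega)
  refine ⟨x, ?_⟩
  unfold WeilCoh.codim
  omega

theorem dim_le_of (hX : topologicalKrullDim X < ⊤) {n : ℕ}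
    (h : ∀ x : X, WeilCoh.pdim X x ≤ n) : WeilCoh.dim X ≤ n := by
  cases isEmpty_or_nonempty X with
  | inl h => rw [dim_eq_of_isEmpty]; exact Nat.zero_le _
  | inr h' =>
    obtain ⟨x, hx⟩ := exists_pdim_eq hX (n := WeilCoh.dim X) le_rfl
    rw [← hx]
    exact h x

/-- Going down along closed maps. -/
theorem height_le_of_isClosedMap {Y : Scheme.{u}} (f : X ⟶ Y) (hf : IsClosedMap f) :
    ∀ (n : ℕ) (x : X), (n : ℕ∞) ≤ Order.height (f x) → (n : ℕ∞) ≤ Order.height x
  | 0, _, _ => by simp
  | n + 1, x, h => by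
    obtain ⟨p, hp1, hp2⟩ := Order.exists_series_of_le_height (f x) h
    obtain ⟨y, hy, hny⟩ : ∃ y : Y, y < f x ∧ (n : ℕ∞) ≤ Order.height y := by
      refine ⟨p.eraseLast.last, ?_, ?_⟩
      · rw [← hp1]
        exact p.eraseLast_last_rel_last (by omega)
      · refine le_trans ?_ Order.length_le_height_last
        simp [hp2]
    have h1 : y ∈ f '' closure {x} := by
      have h2 : IsClosed (f '' closure {x}) := hf _ isClosed_closure
      have h3 : f x ∈ f '' closure {x} := ⟨x, subset_closure rfl, rfl⟩
      have h4 : f x ⤳ y := hy.le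
      exact h4.mem_closed h2 h3
    obtain ⟨x', hx', rfl⟩ := h1
    have h5 : x' < x := by
      refine lt_of_le_not_ge (specializes_iff_mem_closure.2 hx') ?_
      intro h6
      have h7 : x' ⤳ x := h6
      exact hy.not_ge (h7.map f.continuous)
    have h8 := height_le_of_isClosedMap f hf n x' hny
    calc ((n + 1 : ℕ) : ℕ∞) = (n : ℕ∞) + 1 := by push_cast; rfl
      _ ≤ Order.height x' + 1 := by gcongr
      _ ≤ Order.height x := Order.height_add_one_le h5

theorem pdim_le_of_isClosedMap {Y : Scheme.{u}} (f : X ⟶ Y) (hf : IsClosedMap f)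
    (hX : topologicalKrullDim X < ⊤) (hY : topologicalKrullDim Y < ⊤) (x : X) :
    WeilCoh.pdim Y (f x) ≤ WeilCoh.pdim X x := by
  have := height_le_of_isClosedMap f hf (WeilCoh.pdim Y (f x)) x (coe_pdim hY _).le
  rw [← coe_pdim hX] at this
  exact_mod_cast this

theorem pdim_closedImmersion {Z : Scheme.{u}} (f : Z ⟶ X) [IsClosedImmersion f] (z : Z) :
    WeilCoh.pdim Z z = WeilCoh.pdim X (f z) := by
  unfold WeilCoh.pdim WeilCoh.natDim
  have hf : IsClosedEmbedding f := f.isClosedEmbedding
  have h1 : f '' closure {z} = closure {f z} := by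
    rw [← hf.closure_image_eq, Set.image_singleton]
  let g : closure {z} → closure {f z} := fun y => ⟨f y.1, by rw [← h1]; exact ⟨_, y.2, rfl⟩⟩
  have hg : IsHomeomorph g := by
    rw [isHomeomorph_iff_isEmbedding_surjective]
    constructor
    · refine IsEmbedding.of_comp (g := Subtype.val) ?_ continuous_subtype_val ?_
      · exact (hf.continuous.comp continuous_subtype_val).subtype_mk _
      · exact hf.isEmbedding.comp IsEmbedding.subtypeVal
    · rintro ⟨y, hy⟩
      rw [← h1] at hy
      obtain ⟨w, hw, rfl⟩ := hy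
      exact ⟨⟨w, hw⟩, rfl⟩
  rw [hg.topologicalKrullDim_eq]

end Sch

end K876.Dim
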