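import Groth.Agent.BMCoh.K876.PushTot

/-!
# Exactness at the group of `F_{j+1} X`
-/

set_option autoImplicit false
set_option linter.unusedSectionVars false
universe u

open TopologicalSpace Topology AlgebraicGeometry CategoryTheory BMCoh Opposite CategoryTheory.Limits

namespace K876.ExactPush

open K876.Dim K876.Geom K876.Colim K876.Gysin K876.Union K876.Restr K876.Points K876.PushUniq
  K876.ResComp K876.Ext K876.PtVan K876.NegVan K876.FjBij K876.GenClass K876.PushTot

variable {V : ObjectProperty Scheme.{u}} [IsConstructible V] {R : Type u} [CommRing R] {A : Coefs R}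
variable (T : PreTheory V R A)

theorem fjRes_cpt {X : Obj V} {j : ℕ} (P : T.PushData X (j + 1)) {M : A.Cat} {i n i' n' : ℤ}
    (hi : i' = i + 2 * ((j + 1 : ℕ) : ℤ)) (hn : n' = n + ((j + 1 : ℕ) : ℤ)) (x : X.cdPt (j + 1))
    (ξ : T.ptGp X x.1 M i n) :
    ((T.fjRes X (Nat.le_succ j) i' n').app M).hom ((P.cpt x M i n i' n' hi hn).hom ξ) = 0 := by
  obtain ⟨O, hx, hO, b, rfl⟩ := pt_rep T X x.1 ξ
  have hO' := containsFj_of_compl X x.1 x.2 O hx hO
  have hO'' := containsFj_mono X (Nat.le_succ j) O hO'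
  have hc := relCodim_pc X x.1 x.2 O hx (dim_res_eq_of_containsFj X _ O hO')
  rw [push_pc T P x O hx hO' hi hn (by rw [hc]; exact hi) (by rw [hc]; exact hn), fjRes_fj,
    ← fj_rs T (decPt X x.1 x.2 O hO'').j (X.resι O (dim_res_eq_of_containsFj X j O hO'')) _ rfl _
    (containsFj_decPt X x.1 x.2 O hO'')]
  have h1 := rs_j_ps T (decPt X x.1 x.2 O hO'') (i := i) (n := n) (i' := i') (n' := n')
    (by rw [hc]; exact hi) (by rw [hc]; exact hn) b
  refine (congrArg _ h1).trans ?_
  exact oc_zero T _ _ _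

theorem fjRes_tot {X : Obj V} {j : ℕ} (P : T.PushData X (j + 1)) {M : A.Cat} {i n i' n' : ℤ}
    (hi : i' = i + 2 * ((j + 1 : ℕ) : ℤ)) (hn : n' = n + ((j + 1 : ℕ) : ℤ))
    (η : T.ptSum X (j + 1) M i n) :
    ((T.fjRes X (Nat.le_succ j) i' n').app M).hom ((P.tot M i n i' n' hi hn).hom η) = 0 := by
  classical
  have h : ((T.fjRes X (Nat.le_succ j) i' n').app M).hom.comp
      (P.tot M i n i' n' hi hn).hom = 0 := by
    refine DirectSum.linearMap_ext R fun x => ?_
    ext ξ
    change ((T.fjRes X (Nat.le_succ j) i' n').app M).hom ((P.tot M i n i' n' hi hn).hom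
      (DirectSum.lof R (X.cdPt (j + 1)) (fun y : X.cdPt (j + 1) => T.ptGp X y.1 M i n) x ξ)) = 0
    rw [P.tot_lof]
    exact fjRes_cpt T P hi hn x ξ
  exact congrArg (fun φ => φ η) h

theorem exists_tot_eq {X : Obj V} {j : ℕ} (P : T.PushData X (j + 1)) {M : A.Cat} {i n i' n' : ℤ}
    (hi : i' = i + 2 * ((j + 1 : ℕ) : ℤ)) (hn : n' = n + ((j + 1 : ℕ) : ℤ))
    (ξ : T.fjGp X (j + 1) M i' n')
    (h : ((T.fjRes X (Nat.le_succ j) i' n').app M).hom ξ = 0) :
    ∃ η, (P.tot M i n i' n' hi hn).hom η = ξ := by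
  obtain ⟨U, hU, a, rfl⟩ := fj_rep T ξ
  rw [fjRes_fj] at h
  obtain ⟨U', hU', k, hk, h0⟩ := fj_eq_zero T _ _ a h
  by_cases hx : ∃ x : X.scheme, WeilCoh.codim X.scheme x = j + 1 ∧ x ∉ U'
  · obtain ⟨x, hx, hxU⟩ := hx
    have hdU := dim_res_eq_of_containsFj X (j + 1) U hU
    let e := X.resι U hdU
    have he := containsFj_range X U hU hdU
    have hkc : ∀ s, e.hom (k.hom s) = U'.ι s := fun s =>
      congrArg (fun φ => φ.hom s) hk
    have hxU1 : x ∈ U := hU x hx.le
    have hk1 : ContainsFj (X.res U) j k.hom.opensRange := by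
      intro y hy
      have h1 : e.hom y ∈ U' := hU' _ (by rw [← codim_hom e]; exact hy)
      refine ⟨lp X U' _ h1, ?_⟩
      apply e.hom.isOpenEmbedding.injective
      exact hkc _
    have hd1 : WeilCoh.dim (decOf k).Z.scheme + (j + 1) = WeilCoh.dim (X.res U).scheme :=
      dim_decOf k hk1 (lp X U x hxU1) (by rw [codim_hom e]; exact hx) (by
        rintro ⟨s, hs⟩
        have h2 := hkc s
        rw [hs] at h2
        have h3 : x = U'.ι s := h2
        rw [h3] at hxU
        exact hxU s.2)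
    have hd : WeilCoh.dim (decOf k).Z.scheme + (j + 1) = WeilCoh.dim X.scheme :=
      hd1.trans hdU
    have hc : relCodim (decOf k).Z.scheme (X.res U).scheme = ((j + 1 : ℕ) : ℤ) :=
      codim_eq_of_dim hd1
    obtain ⟨b, rfl⟩ := exists_of_rs_j_eq_zero T (decOf k) (i := i) (n := n)
      (by rw [hc]; exact hi) (by rw [hc]; exact hn) a h0
    obtain ⟨η, hη⟩ := exists_val T (X := X) (j := j + 1) ((decOf k).i ≫ e.hom) hd b
    exact ⟨η, tot_val T P e he (decOf k).i hd hi hn _ _ b η hη⟩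
  · push Not at hx
    have hU'' : ContainsFj X (j + 1) U' := by
      intro y hy
      by_cases h1 : WeilCoh.codim X.scheme y ≤ j
      · exact hU' y h1
      · exact hx y (by omega)
    refine ⟨0, ?_⟩
    rw [map_zero, ← fj_rs T k _ _ hk _ (containsFj_range X U' hU'' _) a, h0]
    exact (oc_zero T _ _ _).symm

end K876.ExactPush
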