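import Groth.Agent.BMCoh.K876.Rep

/-!
# Exactness at the sum of the groups of points
-/

set_option autoImplicit false
set_option linter.unusedSectionVars false
universe u

open TopologicalSpace Topology AlgebraicGeometry CategoryTheory BMCoh Opposite CategoryTheory.Limits

namespace K876.ExactRes

open K876.Dim K876.Geom K876.Colim K876.Gysin K876.Union K876.Restr K876.Points K876.PushUniq
  K876.ResComp K876.Ext K876.PtVan K876.NegVan K876.FjBij K876.GenClass K876.PushTot K876.Rep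

variable {V : ObjectProperty Scheme.{u}} [IsConstructible V] {R : Type u} [CommRing R] {A : Coefs R}
variable (T : PreTheory V R A)

/-- The family of residues of a class on an open is the family of values of its residue on the
complement. -/
theorem val_res {X : Obj V} {j : ℕ} (Q : T.ResData X j) {S : Obj V} (g : S ⟶ X)
    (hg : ContainsFj X j g.hom.opensRange) {M : A.Cat} {i n i' n' : ℤ}
    (hi : i' = i + 1 - 2 * ((j : ℤ) + 1)) (hn : n' = n - ((j : ℤ) + 1))
    (hi' : i' = i + 1 - 2 * (decOf g).codim) (hn' : n' = n - (decOf g).codim) (a : T.gp S M i n) :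
    Val T (Z := (decOf g).Z) (X := X) (j := j + 1) ((decOf g).i ≫ (𝟙 X : X ⟶ X).hom)
      (rd T (decOf g) hi' hn' a) ((Q.tot M i n i' n' hi hn).hom (fj T j g hg a)) where
  at_pt := by
    intro x W k w hw h
    refine (Q.tot_apply M i n i' n' hi hn _ x).trans ?_
    exact res_spec T Q x (𝟙 X) (decOf g) w hw k h.symm g (Category.comp_id _) hg hi hn hi' hn' a
  off := by
    intro x hx
    refine (Q.tot_apply M i n i' n' hi hn _ x).trans ?_
    refine res_zero' T Q x g hg ?_ hi hn a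
    rw [id_hom, Category.comp_id] at hx
    exact (not_mem_range_i (decOf g) _).1 hx

theorem tot_tot {X : Obj V} {j : ℕ} (Q : T.ResData X j) (P : T.PushData X (j + 1)) {M : A.Cat}
    {i n i' n' : ℤ} (hi : i' = i + 1 - 2 * ((j : ℤ) + 1)) (hn : n' = n - ((j : ℤ) + 1))
    (hi2 : i + 1 = i' + 2 * ((j + 1 : ℕ) : ℤ)) (hn2 : n = n' + ((j + 1 : ℕ) : ℤ))
    (ξ : T.fjGp X j M i n) :
    (P.tot M i' n' (i + 1) n hi2 hn2).hom ((Q.tot M i n i' n' hi hn).hom ξ) = 0 := by
  obtain ⟨U, hU, a, rfl⟩ := fj_rep T ξ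
  by_cases hx : ∃ x : X.scheme, WeilCoh.codim X.scheme x = j + 1 ∧ x ∉ U
  · obtain ⟨x, hx, hxU⟩ := hx
    let g := X.resι U (dim_res_eq_of_containsFj X j U hU)
    have hg := containsFj_range X U hU (dim_res_eq_of_containsFj X j U hU)
    have hd : WeilCoh.dim (decOf g).Z.scheme + (j + 1) = WeilCoh.dim X.scheme :=
      dim_decOf g hg x hx (by
        change x ∉ Set.range U.ι
        rw [Scheme.Opens.range_ι]
        exact hxU)
    have hc : (decOf g).codim = (j : ℤ) + 1 := (codim_eq_of_dim hd).trans (by push_cast; rfl)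
    have hc' : relCodim (decOf g).Z.scheme X.scheme = ((j + 1 : ℕ) : ℤ) := codim_eq_of_dim hd
    have hi' : i' = i + 1 - 2 * (decOf g).codim := by rw [hc]; exact hi
    have hn' : n' = n - (decOf g).codim := by rw [hc]; exact hn
    have hi3 : i + 1 = i' + 2 * relCodim (decOf g).Z.scheme X.scheme := by rw [hc']; exact hi2
    have hn3 : n = n' + relCodim (decOf g).Z.scheme X.scheme := by rw [hc']; exact hn2
    have hid : ContainsFj X (j + 1) (𝟙 X : X ⟶ X).hom.opensRange := fun y _ => ⟨y, rfl⟩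
    rw [tot_val T P (𝟙 X) hid (decOf g).i hd hi2 hn2 hi3 hn3 _ _
      (val_res T Q g hg hi hn hi' hn' a)]
    refine (congrArg _ (ps_rd T (decOf g) hi' hn' rfl hi3 hn3 a)).trans ?_
    exact oc_zero T _ _ _
  · push Not at hx
    have h0 : (Q.tot M i n i' n' hi hn).hom (fj T j (X.resι U (dim_res_eq_of_containsFj X j U hU))
        (containsFj_range X U hU _) a) = 0 := by
      refine DFinsupp.ext fun x => ?_
      refine (Q.tot_apply M i n i' n' hi hn _ x).trans ?_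
      exact res_zero T Q x U hU (hx x.1 x.2) hi hn a
    refine (congrArg _ h0).trans ?_
    exact map_zero _

theorem exists_tot_res_eq {X : Obj V} {j : ℕ} (Q : T.ResData X j) (P : T.PushData X (j + 1))
    {M : A.Cat} {i n i' n' : ℤ} (hi : i' = i + 1 - 2 * ((j : ℤ) + 1)) (hn : n' = n - ((j : ℤ) + 1))
    (hi2 : i + 1 = i' + 2 * ((j + 1 : ℕ) : ℤ)) (hn2 : n = n' + ((j + 1 : ℕ) : ℤ))
    (η : T.ptSum X (j + 1) M i' n') (h : (P.tot M i' n' (i + 1) n hi2 hn2).hom η = 0) :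
    ∃ ξ, (Q.tot M i n i' n' hi hn).hom ξ = η := by
  by_cases hη0 : η = 0
  · exact ⟨0, by rw [hη0]; exact map_zero _⟩
  obtain ⟨Z, Y, hZr, e, he, ι, hι, hd, c, hval, hoff⟩ := exists_rep T η hη0
  have hdY : WeilCoh.dim Z.scheme + (j + 1) = WeilCoh.dim Y.scheme := hd.trans e.dim_eq.symm
  have hc : relCodim Z.scheme Y.scheme = ((j + 1 : ℕ) : ℤ) := codim_eq_of_dim hdY
  have hi3 : i + 1 = i' + 2 * relCodim Z.scheme Y.scheme := by rw [hc]; exact hi2
  have hn3 : n = n' + relCodim Z.scheme Y.scheme := by rw [hc]; exact hn2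
  rw [tot_val T P e he ι hd hi2 hn2 hi3 hn3 c η hval] at h
  obtain ⟨U, hU, k, hk, h0⟩ := fj_eq_zero T e he _ h
  -- the open of `Y`
  let O := k.hom.opensRange
  have hdO : WeilCoh.dim (O : Scheme.{u}) = WeilCoh.dim Y.scheme := dim_range k
  have h0' : rs T (Y.resι O hdO) (ps T ι hi3 hn3 c) = 0 := rs_range_eq_zero T k _ h0
  let Y'' := Y.res O
  let e'' : Y'' ⟶ X := Y.resι O hdO ≫ e
  have hmemO : ∀ y : Y.scheme, WeilCoh.codim Y.scheme y ≤ j + 1 → y ∈ O := by
    intro y hy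
    have h1 : e.hom y ∈ U := hU _ (by rw [← codim_hom e]; exact hy)
    refine ⟨lp X U _ h1, ?_⟩
    apply e.hom.isOpenEmbedding.injective
    exact congrArg (fun φ => φ.hom (lp X U _ h1)) hk
  have he'' : ContainsFj X (j + 1) e''.hom.opensRange := by
    intro y hy
    obtain ⟨y', rfl⟩ := he y hy
    exact ⟨lp Y O y' (hmemO y' (by rw [codim_hom e]; exact hy)), rfl⟩
  have hF : ContainsFj Z 0 (ι ⁻¹ᵁ O) := by
    intro z hz
    refine hmemO _ ?_
    have := codim_add ι (j + 1) hdY z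
    omega
  have hdZ := dim_res_eq_of_contains Z _ hF
  let Z'' := Z.res (ι ⁻¹ᵁ O)
  let ι'' : Z''.scheme ⟶ Y''.scheme := ι ∣_ O
  have hι'' : IsClosedImmersion ι'' := inferInstanceAs (IsClosedImmersion (ι ∣_ O))
  have hcomp : ι'' ≫ (Y.resι O hdO).hom = (ι ⁻¹ᵁ O).ι ≫ ι := morphismRestrict_ι _ _
  have hdY'' : WeilCoh.dim Z''.scheme + (j + 1) = WeilCoh.dim Y''.scheme := by
    rw [show WeilCoh.dim Z''.scheme = WeilCoh.dim Z.scheme from hdZ,
      show WeilCoh.dim Y''.scheme = WeilCoh.dim Y.scheme from hdO]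
    exact hdY
  have hc'' : relCodim Z''.scheme Y''.scheme = ((j + 1 : ℕ) : ℤ) := codim_eq_of_dim hdY''
  let c'' := rs T (Z.resι (ι ⁻¹ᵁ O) hdZ) c
  have hi4 : i + 1 = i' + 2 * relCodim Z''.scheme Y''.scheme := by rw [hc'']; exact hi2
  have hn4 : n = n' + relCodim Z''.scheme Y''.scheme := by rw [hc'']; exact hn2
  have h1 : ps T ι'' hi4 hn4 c'' = 0 := by
    rw [← h0']
    refine (rs_ps T ι (X' := Z'') (Y' := Y'') ι'' (Y.resι O hdO)
      (Z.resι (ι ⁻¹ᵁ O) hdZ) hcomp.symm ?_ hi3 hn3 _ _ c).symm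
    intro z hz
    have h1 : ι z ∈ Set.range O.ι := hz
    rw [Scheme.Opens.range_ι] at h1
    change z ∈ Set.range (ι ⁻¹ᵁ O).ι
    rw [Scheme.Opens.range_ι]
    exact h1
  -- the decomposition of `Y''`
  let N : Y''.scheme.Opens := ⟨(Set.range ι'')ᶜ, ι''.isClosedEmbedding.isClosed_range.isOpen_compl⟩
  have hN : ContainsFj Y'' j N := by
    rintro y hy ⟨z, rfl⟩
    have := codim_add ι'' (j + 1) hdY'' z
    omega
  let D : Decomp Y'' := decCl ι'' N rfl (dim_res_eq_of_containsFj Y'' j N hN)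
  have hcD : D.codim = (j : ℤ) + 1 := hc''.trans (by push_cast; rfl)
  have hi5 : i' = i + 1 - 2 * D.codim := by rw [hcD]; exact hi
  have hn5 : n' = n - D.codim := by rw [hcD]; exact hn
  obtain ⟨a, ha⟩ := exists_of_ps_eq_zero T D hi5 hn5 rfl hi4 hn4 c'' h1
  have hg : ContainsFj X j (D.j ≫ e'').hom.opensRange := by
    intro y hy
    obtain ⟨y', rfl⟩ := he'' y (by omega)
    have : y' ∈ N := hN y' (by rw [codim_hom e'']; exact hy)
    exact ⟨lp Y'' N y' this, rfl⟩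
  refine ⟨fj T j (D.j ≫ e'') hg a, ?_⟩
  refine DFinsupp.ext fun x => ?_
  refine (Q.tot_apply M i n i' n' hi hn _ x).trans ?_
  by_cases hx : η x = 0
  · rw [hx]
    refine res_zero' T Q x (D.j ≫ e'') hg ?_ hi hn a
    obtain ⟨y, hy⟩ := he'' x.1 x.2.le
    have hyN : y ∈ N := by
      rintro ⟨z, rfl⟩
      refine hoff x hx ⟨(ι ⁻¹ᵁ O).ι z, ?_⟩
      rw [← hy]
      exact congrArg (fun φ => e.hom (φ z)) hcomp.symm
    exact ⟨lp Y'' N y hyN, hy⟩
  · have hxr : x.1 ∈ Set.range (ι ≫ e.hom) := by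
      by_contra h
      exact hx (hval.off x h)
    obtain ⟨z, hz⟩ := exists_gpt (ι ≫ e.hom) hd x hxr
    have hzO : z.1 ∈ ι ⁻¹ᵁ O := hF z.1 z.2.le
    let z'' : Z''.scheme := lp Z _ z.1 hzO
    have hz''0 : WeilCoh.codim Z''.scheme z'' = 0 := by
      rw [codim_hom (Z.resι (ι ⁻¹ᵁ O) hdZ)]
      exact z.2
    have hz'' : (ι'' ≫ e''.hom) z'' = x.1 := by
      rw [← hz]
      exact congrArg (fun φ => e.hom (φ z'')) hcomp
    obtain ⟨w, hw⟩ := exists_piece (Z := Z'') (X := X) (ι'' ≫ e''.hom) z'' (nb Z'' z'') le_rfl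
      (mem_nb Z'' z'' hz''0)
    have key : ∀ (y : X.scheme) (w : Z''.res (nb Z'' z'') ⟶ X.ptSub y)
        (_ : w.hom ≫ X.ptSubι y = (nb Z'' z'').ι ≫ (ι'' ≫ e''.hom)) (hy : y = x.1),
        ∃ w' : Z''.res (nb Z'' z'') ⟶ X.ptSub x.1,
          w'.hom ≫ X.ptSubι x.1 = (nb Z'' z'').ι ≫ (ι'' ≫ e''.hom) := by
      rintro y w hw rfl
      exact ⟨w, hw⟩
    obtain ⟨w, hw⟩ := key _ w hw hz''
    have hwn := nonempty_range_of_mem (mem_nb Z'' z'' hz''0) w
    let κ := Z''.resι (nb Z'' z'') (dim_res_eq Z'' _ z'' hz''0 (mem_nb Z'' z'' hz''0))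
    rw [res_spec T Q x e'' D w hwn κ hw.symm (D.j ≫ e'') rfl hg hi hn hi5 hn5 a, ha]
    rw [hval.at_pt x _ (κ ≫ Z.resι (ι ⁻¹ᵁ O) hdZ) w hwn ?_, rs_comp]
    have h6 : ι'' ≫ e''.hom = (ι ⁻¹ᵁ O).ι ≫ ι ≫ e.hom := by
      change ι'' ≫ (Y.resι O hdO).hom ≫ e.hom = _
      rw [← Category.assoc, hcomp, Category.assoc]
    exact (hw.trans (congrArg (κ.hom ≫ ·) h6)).trans (Category.assoc _ _ _).symm

end K876.ExactRes
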