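import Groth.Agent.BMCoh.K876.ResComp

/-!
# Extending and killing classes
-/

set_option autoImplicit false
set_option linter.unusedSectionVars false
universe u

open TopologicalSpace Topology AlgebraicGeometry CategoryTheory BMCoh Opposite CategoryTheory.Limits

namespace K876.Ext

open K876.Dim K876.Geom K876.Colim K876.Gysin K876.Union K876.Restr K876.Points K876.PushUniq
  K876.ResComp

variable {V : ObjectProperty Scheme.{u}} [IsConstructible V] {R : Type u} [CommRing R] {A : Coefs R}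
variable (T : PreTheory V R A)

theorem fj_rs {X : Obj V} {j : ℕ} {S' S : Obj V} (k : S' ⟶ S) (g : S ⟶ X)
    (g' : S' ⟶ X) (hk : k ≫ g = g') (hg : ContainsFj X j g.hom.opensRange)
    (hg' : ContainsFj X j g'.hom.opensRange)
    {M : A.Cat} {i n : ℤ} (a : T.gp S M i n) :
    fj T j g' hg' (rs T k a) = fj T j g hg a := oc_rs T _ k g g' hk hg hg' a

theorem fjRes_fj {X : Obj V} {j m : ℕ} (h : j ≤ m) {S : Obj V} (g : S ⟶ X)
    (hg : ContainsFj X m g.hom.opensRange) {M : A.Cat} {i n : ℤ} (a : T.gp S M i n) :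
    ((T.fjRes X h i n).app M).hom (fj T m g hg a) = fj T j g (containsFj_mono X h _ hg) a :=
  map_oc T (containsFj_mono X h) g hg a

theorem fj_rep {X : Obj V} {j : ℕ} {M : A.Cat} {i n : ℤ} (ξ : T.fjGp X j M i n) :
    ∃ (U : X.scheme.Opens) (hU : ContainsFj X j U) (a : T.gp (X.res U) M i n),
      fj T j (X.resι U (dim_res_eq_of_containsFj X j U hU)) (containsFj_range X U hU _) a = ξ := by
  obtain ⟨U, a, h⟩ := oc_rep T (dir_fj X j) ξ
  exact ⟨U.1, U.2.1, a, h⟩

theorem fj_eq_zero {X : Obj V} {j : ℕ} {S : Obj V} (g : S ⟶ X)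
    (hg : ContainsFj X j g.hom.opensRange) {M : A.Cat} {i n : ℤ} (a : T.gp S M i n)
    (h : fj T j g hg a = 0) :
    ∃ (U : X.scheme.Opens) (hU : ContainsFj X j U) (k : X.res U ⟶ S),
      k ≫ g = X.resι U (dim_res_eq_of_containsFj X j U hU) ∧ rs T k a = 0 := by
  obtain ⟨U, k, h1, h2⟩ := oc_eq_zero T (dir_fj X j) g hg a h
  exact ⟨U.1, U.2.1, k, h1, h2⟩

/-- Extension of classes whose residue vanishes on an open of the closed part. -/
theorem exists_ext {X S : Obj V} (g : S ⟶ X) {M : A.Cat} {i n i' n' : ℤ}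
    (hi : i' = i + 1 - 2 * (decOf g).codim) (hn : n' = n - (decOf g).codim) (a : T.gp S M i n)
    (N : (decOf g).Z.scheme.Opens)
    (hN : WeilCoh.dim (N : Scheme.{u}) = WeilCoh.dim (decOf g).Z.scheme)
    (h : rs T ((decOf g).Z.resι N hN) (rd T (decOf g) hi hn a) = 0) (m : ℕ)
    (hm : ∀ z : (decOf g).Z.scheme, z ∉ N → m < WeilCoh.codim X.scheme ((decOf g).i z)) :
    ∃ (O : X.scheme.Opens) (hO : ContainsFj X m O) (b : T.gp (X.res O) M i n) (k : S ⟶ X.res O),
      k ≫ X.resι O (dim_res_eq_of_containsFj X m O hO) = g ∧ rs T k b = a := by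
  obtain ⟨O, hO1, rfl⟩ := exists_open (decOf g) N
  have hO : ContainsFj X m O := by
    intro y hy
    by_contra hyO
    obtain ⟨z, rfl⟩ := (not_mem_range_j (decOf g) y).1 (fun h => hyO (hO1 h))
    have := hm z hyO
    omega
  obtain ⟨b, hb⟩ := exists_lift T (decOf g) O hO1 hN hi hn a h
  exact ⟨O, hO, b, (restr (decOf g) O hO1).j, restr_j (decOf g) O hO1, hb⟩

/-- The restriction to `F_j` of the extension. -/
theorem fjRes_ext {X S : Obj V} {j m : ℕ} (hjm : j ≤ m) (g : S ⟶ X)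
    (hg : ContainsFj X j g.hom.opensRange) {M : A.Cat} {i n : ℤ} (a : T.gp S M i n)
    {O : X.scheme.Opens} (hO : ContainsFj X m O) (b : T.gp (X.res O) M i n)
    (k : S ⟶ X.res O) (hk : k ≫ X.resι O (dim_res_eq_of_containsFj X m O hO) = g)
    (hb : rs T k b = a) :
    ((T.fjRes X hjm i n).app M).hom (fj T m (X.resι O (dim_res_eq_of_containsFj X m O hO))
      (containsFj_range X O hO _) b) = fj T j g hg a := by
  rw [fjRes_fj, ← hb]
  exact (fj_rs T k _ g hk _ hg b).symm

/-- Killing: a class vanishing on the open part of a decomposition vanishes wherever the class on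
the closed part vanishes. -/
theorem fj_kill {X Y : Obj V} {j : ℕ} (e : Y ⟶ X) (he : ContainsFj X j e.hom.opensRange)
    (D : Decomp Y) (N : D.Z.scheme.Opens)
    (hN : WeilCoh.dim (N : Scheme.{u}) = WeilCoh.dim D.Z.scheme)
    (hm : ∀ z : D.Z.scheme, z ∉ N → j < WeilCoh.codim X.scheme (e.hom (D.i z)))
    {M : A.Cat} {i n i' n' : ℤ}
    (hi : i' = i + 2 * relCodim D.Z.scheme Y.scheme) (hn : n' = n + relCodim D.Z.scheme Y.scheme)
    (b : T.gp D.Z M i n) (hb : rs T (D.Z.resι N hN) b = 0) :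
    fj T j e he (ps T D.i hi hn b) = 0 := by
  obtain ⟨O, hO1, rfl⟩ := exists_open D N
  have hO : ContainsFj X j (Y.resι O (dim_eq_of_range D.j O hO1) ≫ e).hom.opensRange := by
    intro y hy
    obtain ⟨y', rfl⟩ := he y hy
    by_cases hyO : y' ∈ O
    · exact ⟨lp Y O y' hyO, rfl⟩
    · exfalso
      obtain ⟨z, rfl⟩ := (not_mem_range_j D y').1 (fun h => hyO (hO1 h))
      have := hm z hyO
      omega
  rw [← fj_rs T (Y.resι O (dim_eq_of_range D.j O hO1)) e _ rfl he hO,
    rs_eq_zero T D O hO1 hN hi hn b hb]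
  exact oc_zero T _ _ _

end K876.Ext
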