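import Groth.Agent.BMCoh.K876.PushUniq
import Groth.Prelude.Def_BMCoh4

/-!
# Push-forward data between groups of points
-/

set_option autoImplicit false
set_option linter.unusedSectionVars false
universe u

open TopologicalSpace Topology AlgebraicGeometry CategoryTheory BMCoh Opposite CategoryTheory.Limits

namespace K876.PtP

open K876.Dim K876.Geom K876.Colim K876.Gysin K876.Union K876.Restr K876.Points K876.PushUniq
open Groth.Agent.Ega1.ReducedSub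

variable {V : ObjectProperty Scheme.{u}} [IsConstructible V] {R : Type u} [CommRing R] {A : Coefs R}
variable (T : PreTheory V R A)

/-- The compatibility of push-forward data between groups of points in flexible form. -/
theorem ptPush_spec {Y X : Obj V} {φ : Y.scheme ⟶ X.scheme} {y : Y.scheme} {x : X.scheme}
    (L : T.PtPush φ y x) {W : Obj V} (w : W ⟶ Y.ptSub y)
    (hw : (w.hom.opensRange : Set (Y.ptSub y).scheme).Nonempty)
    {W' : Obj V} (w' : W' ⟶ X.ptSub x)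
    (hw' : (w'.hom.opensRange : Set (X.ptSub x).scheme).Nonempty)
    (f : W.scheme ⟶ W'.scheme) [IsProper f]
    (hf : f ≫ w'.hom ≫ X.ptSubι x = w.hom ≫ Y.ptSubι y ≫ φ)
    {M : A.Cat} {i n : ℤ}
    (hi' : i = i + 2 * relCodim W.scheme W'.scheme) (hn' : n = n + relCodim W.scheme W'.scheme)
    (b : T.gp W M i n) :
    (L.cpt M i n).hom (pt T y w hw b) = pt T x w' hw' (ps T f hi' hn' b) := by
  obtain ⟨eW, heW, heW'⟩ := exists_toRange w
  obtain ⟨eS, heS, heS'⟩ := exists_toRange w'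
  let f₀ : ((Y.ptSub y).res w.hom.opensRange).scheme ⟶
      ((X.ptSub x).res w'.hom.opensRange).scheme := eW.inv ≫ f ≫ eS.hom
  have hf₀ : f₀ ≫ w'.hom.opensRange.ι ≫ X.ptSubι x =
      w.hom.opensRange.ι ≫ Y.ptSubι y ≫ φ := by
    have h1 : eW.inv ≫ w.hom = w.hom.opensRange.ι := (Iso.inv_comp_eq eW).2 heW'.symm
    have h2 : eS.hom ≫ w'.hom.opensRange.ι ≫ X.ptSubι x = w'.hom ≫ X.ptSubι x := by
      rw [← Category.assoc]
      exact congrArg (· ≫ _) heS'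
    change (eW.inv ≫ f ≫ eS.hom) ≫ _ = _
    rw [← h1, Category.assoc, Category.assoc, Category.assoc, ← hf, h2]
  have hd1 : WeilCoh.dim ((Y.ptSub y).res w.hom.opensRange).scheme = WeilCoh.dim W.scheme :=
    (toRange w).dim_eq
  have hd2 : WeilCoh.dim ((X.ptSub x).res w'.hom.opensRange).scheme = WeilCoh.dim W'.scheme :=
    (toRange w').dim_eq
  have hc : relCodim ((Y.ptSub y).res w.hom.opensRange).scheme
      ((X.ptSub x).res w'.hom.opensRange).scheme = relCodim W.scheme W'.scheme := by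
    unfold relCodim
    rw [hd1, hd2]
  have h1 := congrArg (fun φ => φ.hom (rs T (toRange w) b))
    (L.cpt_spec M i n ⟨w.hom.opensRange, hw, dim_range w⟩
      ⟨w'.hom.opensRange, hw', dim_range w'⟩ f₀ hf₀ (by rw [hc]; exact hi') (by rw [hc]; exact hn'))
  refine h1.trans ?_
  have h2 : rs T (toRange w') (ps T f hi' hn' b) =
      ps T f₀ (by rw [hc]; exact hi') (by rw [hc]; exact hn') (rs T (toRange w) b) := by
    refine rs_ps T f f₀ (toRange w') (toRange w) ?_ ?_ hi' hn' _ _ b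
    · rw [← heW, ← heS]
      change _ = (eW.inv ≫ f ≫ eS.hom) ≫ _
      rw [Category.assoc, Category.assoc, Iso.hom_inv_id, Category.comp_id]
    · intro y _
      rw [← heW]
      exact ⟨eW.hom y, by rw [← Scheme.Hom.comp_apply, Iso.hom_inv_id]; rfl⟩
  exact congrArg (fun c => ((T.ptι X x i n ⟨w'.hom.opensRange, hw', dim_range w'⟩).app M).hom c)
    h2.symm

/-- The morphism between reduced closures. -/
theorem exists_fac {Y X : Obj V} (φ : Y.scheme ⟶ X.scheme) [IsProper φ] (y : Y.scheme)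
    (x : X.scheme) (h : φ y = x) :
    ∃ ψ : (Y.ptSub y).scheme ⟶ (X.ptSub x).scheme, IsProper ψ ∧
      ψ ≫ X.ptSubι x = Y.ptSubι y ≫ φ := by
  obtain ⟨ψ, hψ⟩ := exists_factor_of_range_subset (Y.ptSubι y ≫ φ) (X.ptSubι x) (by
    rw [range_ptSubι]
    rintro _ ⟨c, rfl⟩
    have h1 : Y.ptSubι y c ∈ closure {y} := by rw [← range_ptSubι]; exact ⟨c, rfl⟩
    have h2 : y ⤳ Y.ptSubι y c := specializes_iff_mem_closure.2 h1
    have h3 := h2.map φ.continuous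
    rw [h] at h3
    exact specializes_iff_mem_closure.1 h3)
  refine ⟨ψ, ?_, hψ⟩
  have h1 : IsProper (ψ ≫ X.ptSubι x) := by rw [hψ]; infer_instance
  exact IsProper.of_comp ψ (X.ptSubι x)

/-- Points over the generic point. -/
theorem eq_of_map_eq {Y X : Obj V} (φ : Y.scheme ⟶ X.scheme) [IsProper φ] (y : Y.scheme)
    (x : X.scheme)
    (hd : WeilCoh.pdim Y.scheme y ≤ WeilCoh.pdim X.scheme x) (z : Y.scheme) (hz : y ⤳ z)
    (h : φ z = x) : z = y := by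
  have h1 := pdim_le_of_isClosedMap φ φ.isClosedMap (fin Y) (fin X) z
  rw [h] at h1
  exact eq_of_specializes (fin Y) hz (hd.trans h1)

theorem pdim_eq {Y X : Obj V} {φ : Y.scheme ⟶ X.scheme} {y : Y.scheme} {x : X.scheme}
    (L : T.PtPush φ y x) : WeilCoh.pdim Y.scheme y = WeilCoh.pdim X.scheme x := by
  have h := L.codim_eq
  unfold relCodim at h
  rw [dim_ptSub, dim_ptSub] at h
  omega

theorem exists_open_le {Y X : Obj V} (φ : Y.scheme ⟶ X.scheme) [IsProper φ] (y : Y.scheme)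
    (x : X.scheme)
    (hd : WeilCoh.pdim Y.scheme y ≤ WeilCoh.pdim X.scheme x)
    (ψ : (Y.ptSub y).scheme ⟶ (X.ptSub x).scheme) [IsProper ψ]
    (hψ : ψ ≫ X.ptSubι x = Y.ptSubι y ≫ φ) (N : (Y.ptSub y).scheme.Opens)
    (hN : (N : Set (Y.ptSub y).scheme).Nonempty) :
    ∃ O : (X.ptSub x).scheme.Opens, gpt X x ∈ O ∧ ψ ⁻¹ᵁ O ≤ N := by
  have hc : IsClosed (ψ '' (N : Set (Y.ptSub y).scheme)ᶜ) :=
    ψ.isClosedMap _ N.isOpen.isClosed_compl
  refine ⟨⟨(ψ '' (N : Set (Y.ptSub y).scheme)ᶜ)ᶜ, hc.isOpen_compl⟩, ?_, ?_⟩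
  · rintro ⟨c, hc, hcx⟩
    have h1 : φ (Y.ptSubι y c) = x := by
      rw [← Scheme.Hom.comp_apply, ← hψ, Scheme.Hom.comp_apply, hcx, ptSubι_gpt]
    have h2 : y ⤳ Y.ptSubι y c := specializes_iff_mem_closure.2 (by
      rw [← range_ptSubι]; exact ⟨c, rfl⟩)
    have h3 := eq_of_map_eq φ y x hd _ h2 h1
    have h4 : c = gpt Y y := (Y.ptSubι y).isClosedEmbedding.injective (by
      rw [h3]; exact (ptSubι_gpt Y y).symm)
    exact hc (h4 ▸ gpt_mem Y y N hN)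
  · intro c hc
    by_contra h
    exact hc ⟨c, h, rfl⟩

theorem gpt_map {Y X : Obj V} (φ : Y.scheme ⟶ X.scheme) (y : Y.scheme)
    (x : X.scheme) (h : φ y = x)
    (ψ : (Y.ptSub y).scheme ⟶ (X.ptSub x).scheme)
    (hψ : ψ ≫ X.ptSubι x = Y.ptSubι y ≫ φ) : ψ (gpt Y y) = gpt X x := by
  apply (X.ptSubι x).isClosedEmbedding.injective
  change (ψ ≫ X.ptSubι x) (gpt Y y) = _
  rw [hψ, ptSubι_gpt, Scheme.Hom.comp_apply, ptSubι_gpt, h]

/-- The inclusion of a nonempty open of the reduced closure. -/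
noncomputable abbrev oi (X : Obj V) (x : X.scheme) (O : (X.ptSub x).scheme.Opens)
    (hO : (O : Set (X.ptSub x).scheme).Nonempty) : (X.ptSub x).res O ⟶ X.ptSub x :=
  (X.ptSub x).resι O (IsConstructible.dim_open (X.ptSub x).mem inferInstance _ hO)

theorem oi_ne (X : Obj V) (x : X.scheme) (O : (X.ptSub x).scheme.Opens)
    (hO : (O : Set (X.ptSub x).scheme).Nonempty) :
    ((oi X x O hO).hom.opensRange : Set (X.ptSub x).scheme).Nonempty := by
  unfold oi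
  rw [opensRange_resι]
  exact hO

theorem pre_ne {Y X : Obj V} (φ : Y.scheme ⟶ X.scheme) (y : Y.scheme)
    (x : X.scheme) (h : φ y = x)
    (ψ : (Y.ptSub y).scheme ⟶ (X.ptSub x).scheme)
    (hψ : ψ ≫ X.ptSubι x = Y.ptSubι y ≫ φ) (O : (X.ptSub x).scheme.Opens)
    (hO : (O : Set (X.ptSub x).scheme).Nonempty) :
    ((ψ ⁻¹ᵁ O : (Y.ptSub y).scheme.Opens) : Set (Y.ptSub y).scheme).Nonempty :=
  ⟨gpt Y y, by
    change ψ (gpt Y y) ∈ O
    rw [gpt_map φ y x h ψ hψ]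
    exact gpt_mem X x O hO⟩

/-- Representatives over opens of the target. -/
theorem exists_rep {Y X : Obj V} (φ : Y.scheme ⟶ X.scheme) [IsProper φ] (y : Y.scheme)
    (x : X.scheme) (h : φ y = x)
    (hd : WeilCoh.pdim Y.scheme y ≤ WeilCoh.pdim X.scheme x)
    (ψ : (Y.ptSub y).scheme ⟶ (X.ptSub x).scheme) [IsProper ψ]
    (hψ : ψ ≫ X.ptSubι x = Y.ptSubι y ≫ φ) {M : A.Cat} {i n : ℤ} (ξ : T.ptGp Y y M i n)
    (N₀ : (X.ptSub x).scheme.Opens) (hN₀ : (N₀ : Set (X.ptSub x).scheme).Nonempty) :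
    ∃ (O : (X.ptSub x).scheme.Opens) (hO : (O : Set (X.ptSub x).scheme).Nonempty) (_ : O ≤ N₀)
      (b : T.gp ((Y.ptSub y).res (ψ ⁻¹ᵁ O)) M i n),
      pt T y (oi Y y (ψ ⁻¹ᵁ O) (pre_ne φ y x h ψ hψ O hO)) (oi_ne Y y _ _) b = ξ := by
  obtain ⟨U, b, rfl⟩ := oc_rep T (dir_ne (Y.ptSub y)) ξ
  obtain ⟨O', hO'1, hO'2⟩ := exists_open_le φ y x hd ψ hψ U.1 U.2.1
  have hO : ((O' ⊓ N₀ : (X.ptSub x).scheme.Opens) : Set (X.ptSub x).scheme).Nonempty :=
    ⟨gpt X x, hO'1, gpt_mem X x N₀ hN₀⟩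
  have hle : ψ ⁻¹ᵁ (O' ⊓ N₀) ≤ U.1 := le_trans (fun c hc => hc.1) hO'2
  let k : (Y.ptSub y).res (ψ ⁻¹ᵁ (O' ⊓ N₀)) ⟶ (Y.ptSub y).res U.1 :=
    (Y.ptSub y).resLE hle ((IsConstructible.dim_open (Y.ptSub y).mem inferInstance _
      (pre_ne φ y x h ψ hψ _ hO)).trans U.2.2.symm)
  refine ⟨O' ⊓ N₀, hO, inf_le_right, rs T k b, ?_⟩
  have hk : k ≫ (Y.ptSub y).resι U.1 U.2.2 =
      oi Y y (ψ ⁻¹ᵁ (O' ⊓ N₀)) (pre_ne φ y x h ψ hψ _ hO) :=
    BMCoh.Hom.ext (Scheme.homOfLE_ι (Y.ptSub y).scheme hle)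
  exact oc_rs T _ k _ _ hk _ _ b

/-- The computation of push-forward data between groups of points on representatives. -/
theorem cpt_rep {Y X : Obj V} {φ : Y.scheme ⟶ X.scheme} {y : Y.scheme} {x : X.scheme}
    (L : T.PtPush φ y x) (ψ : (Y.ptSub y).scheme ⟶ (X.ptSub x).scheme) [IsProper ψ]
    (hψ : ψ ≫ X.ptSubι x = Y.ptSubι y ≫ φ) (O : (X.ptSub x).scheme.Opens)
    (hO : (O : Set (X.ptSub x).scheme).Nonempty) {M : A.Cat} {i n : ℤ}
    (hi' : i = i + 2 * relCodim ((Y.ptSub y).res (ψ ⁻¹ᵁ O)).scheme ((X.ptSub x).res O).scheme)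
    (hn' : n = n + relCodim ((Y.ptSub y).res (ψ ⁻¹ᵁ O)).scheme ((X.ptSub x).res O).scheme)
    (b : T.gp ((Y.ptSub y).res (ψ ⁻¹ᵁ O)) M i n) :
    (L.cpt M i n).hom (pt T y (oi Y y (ψ ⁻¹ᵁ O) (pre_ne φ y x L.maps_pt ψ hψ O hO))
      (oi_ne Y y _ _) b) = pt T x (oi X x O hO) (oi_ne X x _ _)
        (ps T (X := (Y.ptSub y).res (ψ ⁻¹ᵁ O)) (Y := (X.ptSub x).res O) (ψ ∣_ O) hi' hn' b) := by
  refine ptPush_spec T L _ _ _ _ (ψ ∣_ O) ?_ hi' hn' b
  change (ψ ∣_ O) ≫ O.ι ≫ X.ptSubι x = (ψ ⁻¹ᵁ O).ι ≫ Y.ptSubι y ≫ φ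
  rw [← hψ, ← Category.assoc, morphismRestrict_ι, Category.assoc]

theorem relCodim_rep {Y X : Obj V} {φ : Y.scheme ⟶ X.scheme} {y : Y.scheme} {x : X.scheme}
    (L : T.PtPush φ y x) (ψ : (Y.ptSub y).scheme ⟶ (X.ptSub x).scheme)
    (hψ : ψ ≫ X.ptSubι x = Y.ptSubι y ≫ φ) (O : (X.ptSub x).scheme.Opens)
    (hO : (O : Set (X.ptSub x).scheme).Nonempty) :
    relCodim ((Y.ptSub y).res (ψ ⁻¹ᵁ O)).scheme ((X.ptSub x).res O).scheme = 0 := by
  have h := L.codim_eq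
  unfold relCodim at h ⊢
  rw [(oi X x O hO).dim_eq, (oi Y y (ψ ⁻¹ᵁ O) (pre_ne φ y x L.maps_pt ψ hψ O hO)).dim_eq]
  exact h

theorem subsingleton {Y X : Obj V} (φ : Y.scheme ⟶ X.scheme) [IsProper φ] (y : Y.scheme)
    (x : X.scheme) : Subsingleton (T.PtPush φ y x) := by
  refine ⟨fun L L' => ?_⟩
  have h : ∀ (M : A.Cat) (i n : ℤ), L.cpt M i n = L'.cpt M i n := by
    intro M i n
    apply ModuleCat.hom_ext
    apply LinearMap.ext
    intro ξ
    obtain ⟨ψ, _, hψ⟩ := exists_fac φ y x L.maps_pt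
    obtain ⟨O, hO, -, b, rfl⟩ := exists_rep T φ y x L.maps_pt (pdim_eq T L).le ψ hψ ξ ⊤
      ⟨gpt X x, trivial⟩
    have hc := relCodim_rep T L ψ hψ O hO
    rw [cpt_rep T L ψ hψ O hO (by rw [hc]; ring) (by rw [hc]; ring) b]
    exact (cpt_rep T L' ψ hψ O hO (by rw [hc]; ring) (by rw [hc]; ring) b).symm
  cases L
  cases L'
  congr
  funext M i n
  exact h M i n

end K876.PtP
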