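import Groth.Agent.BMCoh.K876.ExactRes
import Groth.Agent.BMCoh.K876.PtP

/-!
# The total push-forward between groups of points on the values of a class on a closed piece
-/

set_option autoImplicit false
set_option linter.unusedSectionVars false
universe u

open TopologicalSpace Topology AlgebraicGeometry CategoryTheory BMCoh Opposite CategoryTheory.Limits
open DirectSum

namespace K876.FamTot

open K876.Dim K876.Geom K876.Colim K876.Gysin K876.Union K876.Restr K876.Points K876.PushUniq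
  K876.ResComp K876.Ext K876.PtVan K876.NegVan K876.FjBij K876.GenClass K876.PushTot K876.Rep
  K876.PtP

variable {V : ObjectProperty Scheme.{u}} [IsConstructible V] {R : Type u} [CommRing R] {A : Coefs R}
variable (T : PreTheory V R A)

/-- The covering of an open by disjoint neighbourhoods of some points of codimension zero. -/
noncomputable def genCov' (Z : Obj V) {K : Type u} (g : K → Gpt Z) (hg : Function.Injective g)
    (N : Z.scheme.Opens) (Nz : K → Z.scheme.Opens)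
    (hle : ∀ z, Nz z ≤ N) (hcov : ∀ y ∈ N, ∃ z, y ∈ Nz z) (hnb : ∀ z, Nz z ≤ nb Z (g z).1)
    (hz : ∀ z, (g z).1 ∈ Nz z) : Cov (Z.res N) (fun z => Z.res (Nz z)) where
  w := fun z => Z.resLE (hle z) ((dim_res_eq Z _ (g z).1 (g z).2 (hz z)).trans
    (dim_res_eq Z _ (g z).1 (g z).2 (hle z (hz z))).symm)
  disj := by
    intro z z' hne
    rw [Set.disjoint_left]
    rintro _ ⟨x, rfl⟩ ⟨x', hx'⟩
    have h1 : N.ι ((Z.scheme.homOfLE (hle z)) x) = (Nz z).ι x := homOfLE_ι_apply (hle z) x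
    have h2 : N.ι ((Z.scheme.homOfLE (hle z')) x') = (Nz z').ι x' := homOfLE_ι_apply (hle z') x'
    have h3 : (Nz z).ι x = (Nz z').ι x' := by
      rw [← h1, ← h2]
      exact congrArg _ hx'.symm
    have h4 : (Nz z).ι x ∈ nb Z (g z).1 := hnb z x.2
    have h5 : (Nz z).ι x ∈ nb Z (g z').1 := by rw [h3]; exact hnb z' x'.2
    exact Set.disjoint_left.1 (nb_disjoint Z (g z).2 (g z').2
      (fun h => hne (hg (Subtype.ext h)))) h4 h5
  cov := by
    intro x
    obtain ⟨z, hz⟩ := hcov x.1 x.2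
    refine ⟨z, ⟨⟨x.1, hz⟩, ?_⟩⟩
    apply N.ι.isOpenEmbedding.injective
    exact homOfLE_ι_apply (hle z) ⟨x.1, hz⟩

theorem pt_sum {X : Obj V} (x : X.scheme) {W : Obj V} (w : W ⟶ X.ptSub x)
    (hw : (w.hom.opensRange : Set (X.ptSub x).scheme).Nonempty) {M : A.Cat} {i n : ℤ}
    {K : Type*} (s : Finset K) (b : K → T.gp W M i n) :
    pt T x w hw (∑ k ∈ s, b k) = ∑ k ∈ s, pt T x w hw (b k) := by
  simp [oc, rs]

theorem famTot_apply {Y X : Obj V} {φ : Y.scheme ⟶ X.scheme} {j k : ℕ} [DecidableEq (X.cdPt k)]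
    (t : Y.cdPt j → X.cdPt k) (F : ∀ y : Y.cdPt j, T.PtPush φ y.1 (t y).1) {M : A.Cat} {i n : ℤ}
    (η : T.ptSum Y j M i n) (x : X.cdPt k) (s : Finset (Y.cdPt j))
    (hs : ∀ y, t y = x → η y ≠ 0 → y ∈ s) :
    ((PreTheory.PtPush.famTot t F M i n).hom η : ⨁ x : X.cdPt k, T.ptGp X x.1 M i n) x =
      ∑ y ∈ s, (DirectSum.lof R (X.cdPt k) (fun z : X.cdPt k => T.ptGp X z.1 M i n) (t y)
        (((F y).cpt M i n).hom (η y))) x := by
  classical
  let G : Y.cdPt j → T.ptGp X x.1 M i n := fun y =>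
    (DirectSum.lof R (X.cdPt k) (fun z : X.cdPt k => T.ptGp X z.1 M i n) (t y)
        (((F y).cpt M i n).hom (η y))) x
  let s₀ : Finset (Y.cdPt j) := DFinsupp.support η
  have hη : η = ∑ y ∈ s₀, DirectSum.lof R (Y.cdPt j) (fun z : Y.cdPt j => T.ptGp Y z.1 M i n) y
      (η y) := (DirectSum.sum_support_of (β := fun z : Y.cdPt j => T.ptGp Y z.1 M i n) η).symm
  have h1 : ((PreTheory.PtPush.famTot t F M i n).hom η : ⨁ x : X.cdPt k, T.ptGp X x.1 M i n) x =
      ∑ y ∈ s₀, G y := by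
    conv_lhs => rw [hη]
    rw [map_sum]
    have h2 : ∀ y ∈ s₀, (PreTheory.PtPush.famTot t F M i n).hom
        (DirectSum.lof R (Y.cdPt j) (fun z : Y.cdPt j => T.ptGp Y z.1 M i n) y (η y)) =
        DirectSum.lof R (X.cdPt k) (fun z : X.cdPt k => T.ptGp X z.1 M i n) (t y)
        (((F y).cpt M i n).hom (η y)) := fun y _ =>
      PreTheory.PtPush.famTot_lof t F M i n y (η y)
    rw [Finset.sum_congr rfl h2]
    exact DirectSum.sum_apply _ _ _
  rw [h1]
  have h3 : ∑ y ∈ s₀, G y = ∑ y ∈ s₀ ∪ s, G y := by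
    refine Finset.sum_subset Finset.subset_union_left fun y _ hy => ?_
    have h4 : η y = 0 := by
      by_contra h
      exact hy (DFinsupp.mem_support_iff.2 h)
    change (DirectSum.lof R (X.cdPt k) (fun z : X.cdPt k => T.ptGp X z.1 M i n) (t y)
        (((F y).cpt M i n).hom (η y))) x = 0
    rw [h4, map_zero, map_zero]
    rfl
  have h5 : ∑ y ∈ s, G y = ∑ y ∈ s₀ ∪ s, G y := by
    refine Finset.sum_subset Finset.subset_union_right fun y hy hy' => ?_
    have h6 : y ∈ s₀ := by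
      rcases Finset.mem_union.1 hy with h | h
      · exact h
      · exact absurd h hy'
    have h7 : t y ≠ x := fun h => hy' (hs y h (DFinsupp.mem_support_iff.1 h6))
    exact DirectSum.of_eq_of_ne _ _ _ (fun h => h7 h.symm)
  rw [h3, ← h5]

theorem lof_cpt {Y X : Obj V} {φ : Y.scheme ⟶ X.scheme} {k : ℕ} [DecidableEq (X.cdPt k)]
    {y : Y.scheme} (x' x : X.cdPt k) (hx : x' = x) (L : T.PtPush φ y x'.1) {W : Obj V}
    (w : W ⟶ Y.ptSub y)
    (hw : (w.hom.opensRange : Set (Y.ptSub y).scheme).Nonempty)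
    {W' : Obj V} (w' : W' ⟶ X.ptSub x.1)
    (hw' : (w'.hom.opensRange : Set (X.ptSub x.1).scheme).Nonempty)
    (f : W.scheme ⟶ W'.scheme) [IsProper f]
    (hf : f ≫ w'.hom ≫ X.ptSubι x.1 = w.hom ≫ Y.ptSubι y ≫ φ)
    {M : A.Cat} {i n : ℤ}
    (hi' : i = i + 2 * relCodim W.scheme W'.scheme) (hn' : n = n + relCodim W.scheme W'.scheme)
    (b : T.gp W M i n) :
    (DirectSum.lof R (X.cdPt k) (fun z : X.cdPt k => T.ptGp X z.1 M i n) x'
      ((L.cpt M i n).hom (pt T y w hw b))) x = pt T x.1 w' hw' (ps T f hi' hn' b) := by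
  subst hx
  refine (DirectSum.lof_apply (M := fun z : X.cdPt k => T.ptGp X z.1 M i n) R x' _).trans ?_
  exact ptPush_spec T L w hw w' hw' f hf hi' hn' b

/-- The total push-forward of the family of values of a class. -/
theorem famTot_val {Z'' Y Z X : Obj V} [IsReduced Z''.scheme] [IsReduced Z.scheme] {j k : ℕ}
    {φ : Y.scheme ⟶ X.scheme} (t : Y.cdPt j → X.cdPt k)
    (F : ∀ y : Y.cdPt j, T.PtPush φ y.1 (t y).1)
    (f'' : Z''.scheme ⟶ Y.scheme) [IsImmersion f'']
    (hd'' : WeilCoh.dim Z''.scheme + j = WeilCoh.dim Y.scheme)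
    (f : Z.scheme ⟶ X.scheme) [IsImmersion f]
    (hd : WeilCoh.dim Z.scheme + k = WeilCoh.dim X.scheme)
    (h : Z''.scheme ⟶ Z.scheme) [IsProper h] (hh : h ≫ f = f'' ≫ φ)
    (hdim : WeilCoh.dim Z''.scheme = WeilCoh.dim Z.scheme)
    (hsurj : ∀ z : Gpt Z, ∃ z'' : Z''.scheme, h z'' = z.1)
    {M : A.Cat} {i n : ℤ} (hi : i = i + 2 * relCodim Z''.scheme Z.scheme)
    (hn : n = n + relCodim Z''.scheme Z.scheme)
    (b : T.gp Z'' M i n) (η : T.ptSum Y j M i n) (hη : Val T f'' b η) :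
    Val T f (ps T h hi hn b) ((PreTheory.PtPush.famTot t F M i n).hom η) := by
  classical
  refine Val.of T f hd _ _ ?_ ?_
  · intro z
    let K : Type u := {z'' : Gpt Z'' // h z''.1 = z.1}
    have hK : Finite K := inferInstance
    have := Fintype.ofFinite K
    have hfib : ∀ z'' : Z''.scheme, h z'' = z.1 → WeilCoh.codim Z''.scheme z'' = 0 := by
      intro z'' hz''
      have h1 := pdim_le_of_isClosedMap h h.isClosedMap (fin Z'') (fin Z) z''
      rw [hz''] at h1
      have h2 := pdim_add_codim Z z.1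
      have h3 := pdim_add_codim Z'' z''
      have h4 := z.2
      omega
    -- the neighbourhood
    let N₀ : Z''.scheme.Opens := ⨆ k : K, nb Z'' k.1.1
    have hc : IsClosed (h '' (N₀ : Set Z''.scheme)ᶜ) :=
      h.isClosedMap _ N₀.isOpen.isClosed_compl
    let N : Z.scheme.Opens := nb Z z.1 ⊓ ⟨(h '' (N₀ : Set Z''.scheme)ᶜ)ᶜ, hc.isOpen_compl⟩
    have hzN : z.1 ∈ N := by
      refine ⟨mem_nb Z z.1 z.2, ?_⟩
      rintro ⟨z'', hz'', e⟩
      exact hz'' (TopologicalSpace.Opens.mem_iSup.2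
        ⟨⟨⟨z'', hfib z'' e⟩, e⟩, mem_nb Z'' _ (hfib z'' e)⟩)
    have hdN : WeilCoh.dim (N : Scheme.{u}) = WeilCoh.dim Z.scheme :=
      dim_res_eq Z N z.1 z.2 hzN
    have hN'' : h ⁻¹ᵁ N ≤ N₀ := by
      intro y hy
      by_contra h'
      exact hy.2 ⟨y, h', rfl⟩
    let Nz : K → Z''.scheme.Opens := fun k => h ⁻¹ᵁ N ⊓ nb Z'' k.1.1
    have hmem : ∀ k : K, k.1.1 ∈ Nz k := fun k => ⟨by
      change h k.1.1 ∈ N
      rw [k.2]
      exact hzN, mem_nb Z'' _ k.1.2⟩
    have hdz : ∀ k : K, WeilCoh.dim (Nz k : Scheme.{u}) = WeilCoh.dim Z''.scheme :=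
      fun k => dim_res_eq Z'' _ k.1.1 k.1.2 (hmem k)
    obtain ⟨z₀, hz₀⟩ := hsurj z
    let k₀ : K := ⟨⟨z₀, hfib z₀ hz₀⟩, hz₀⟩
    have hdN'' : WeilCoh.dim ((h ⁻¹ᵁ N : Z''.scheme.Opens) : Scheme.{u}) =
        WeilCoh.dim Z''.scheme := dim_res_eq Z'' _ k₀.1.1 k₀.1.2 (hmem k₀).1
    let C := genCov' Z'' (fun k : K => k.1) Subtype.val_injective (h ⁻¹ᵁ N) Nz
      (fun k => inf_le_left) (fun y hy => by
        obtain ⟨k, hk⟩ := TopologicalSpace.Opens.mem_iSup.1 (hN'' hy)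
        exact ⟨k, hy, hk⟩) (fun k => inf_le_right) hmem
    have hproper : ∀ z, IsProper (C.w z).hom := fun z => by
      have := C.isClosedImmersion z
      infer_instance
    have hr0 : ∀ k : K, relCodim (Z''.res (Nz k)).scheme (Z''.res (h ⁻¹ᵁ N)).scheme = 0 :=
      fun k => relCodim_hom (C.w k)
    have hrZ : relCodim Z''.scheme Z.scheme = 0 := by
      unfold relCodim
      rw [hdim]
      exact sub_self _
    have hrN : relCodim (Z''.res (h ⁻¹ᵁ N)).scheme (Z.res N).scheme = 0 := by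
      unfold relCodim
      rw [show WeilCoh.dim (Z''.res (h ⁻¹ᵁ N)).scheme = WeilCoh.dim Z''.scheme from hdN'',
        show WeilCoh.dim (Z.res N).scheme = WeilCoh.dim Z.scheme from hdN, hdim]
      exact sub_self _
    have hrk : ∀ k : K, relCodim (Z''.res (Nz k)).scheme (Z.res N).scheme = 0 := by
      intro k
      unfold relCodim
      rw [show WeilCoh.dim (Z''.res (Nz k)).scheme = WeilCoh.dim Z''.scheme from hdz k,
        show WeilCoh.dim (Z.res N).scheme = WeilCoh.dim Z.scheme from hdN, hdim]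
      exact sub_self _
    obtain ⟨w, hw⟩ := exists_piece (Z := Z) (X := X) f z.1 N inf_le_left hzN
    have hwn := nonempty_range_of_mem hzN w
    refine ⟨Z.res N, Z.resι N hdN, w, hwn, hw, ?_⟩
    -- the right-hand side
    have e1 : rs T (Z.resι N hdN) (ps T h hi hn b) =
        ps T (X := Z''.res (h ⁻¹ᵁ N)) (Y := Z.res N) (h ∣_ N) (by rw [hrN]; ring)
          (by rw [hrN]; ring) (rs T (Z''.resι (h ⁻¹ᵁ N) hdN'') b) := by
      refine rs_ps T h (X' := Z''.res (h ⁻¹ᵁ N)) (Y' := Z.res N) (h ∣_ N) (Z.resι N hdN)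
        (Z''.resι (h ⁻¹ᵁ N) hdN'') (morphismRestrict_ι _ _).symm ?_ hi hn _ _ b
      intro z hz
      have h1 : h z ∈ Set.range N.ι := hz
      rw [Scheme.Opens.range_ι] at h1
      change z ∈ Set.range (h ⁻¹ᵁ N).ι
      rw [Scheme.Opens.range_ι]
      exact h1
    have e2 := C.sum_eq T (M := M) (i := i) (n := n) (fun k => by rw [hr0 k]; ring)
      (fun k => by rw [hr0 k]; ring) (rs T (Z''.resι (h ⁻¹ᵁ N) hdN'') b)
    rw [e1, e2, ps_sum, pt_sum]
    -- the left-hand side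
    let s : Finset (Y.cdPt j) := Finset.univ.image (fun k : K => gim f'' hd'' k.1)
    have hinj : Function.Injective (fun k : K => gim f'' hd'' k.1) :=
      (gim_injective f'' hd'').comp Subtype.val_injective
    have hs : ∀ y, t y = gim f hd z → η y ≠ 0 → y ∈ s := by
      intro y hy hne
      have h1 : y.1 ∈ Set.range f'' := by
        by_contra h
        exact hne (hη.off y h)
      obtain ⟨z'', hz''⟩ := exists_gpt f'' hd'' y h1
      have h2 : h z''.1 = z.1 := by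
        apply f.isEmbedding.injective
        have h3 : φ y.1 = (t y).1 := (F y).maps_pt
        have h4 : (h ≫ f) z''.1 = (f'' ≫ φ) z''.1 := by rw [hh]
        have h5 : f (h z''.1) = φ (f'' z''.1) := h4
        rw [h5, hz'', h3, hy]
        rfl
      refine Finset.mem_image.2 ⟨⟨z'', h2⟩, Finset.mem_univ _, ?_⟩
      exact Subtype.ext hz''
    refine (famTot_apply T t F η (gim f hd z) s hs).trans ?_
    rw [Finset.sum_image (fun a _ b _ hab => hinj hab)]
    refine Finset.sum_congr rfl fun k _ => ?_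
    obtain ⟨wk, hwk⟩ := exists_piece (Z := Z'') (X := Y) f'' k.1.1 (Nz k) inf_le_right (hmem k)
    have hwkn := nonempty_range_of_mem (hmem k) wk
    have h1 := hη.at_pt (gim f'' hd'' k.1) (Z''.res (Nz k)) (Z''.resι (Nz k) (hdz k)) wk hwkn hwk
    rw [h1]
    have h2 : C.w k ≫ Z''.resι (h ⁻¹ᵁ N) hdN'' = Z''.resι (Nz k) (hdz k) :=
      BMCoh.Hom.ext (Scheme.homOfLE_ι Z''.scheme (show Nz k ≤ h ⁻¹ᵁ N from inf_le_left))
    have hpr : IsProper ((C.w k).hom ≫ (h ∣_ N)) := inferInstance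
    have hx : t (gim f'' hd'' k.1) = gim f hd z := by
      apply Subtype.ext
      have h3 : φ (f'' k.1.1) = (t (gim f'' hd'' k.1)).1 := (F (gim f'' hd'' k.1)).maps_pt
      rw [← h3]
      have h4 : (h ≫ f) k.1.1 = (f'' ≫ φ) k.1.1 := by rw [hh]
      have h5 : f (h k.1.1) = φ (f'' k.1.1) := h4
      rw [← h5, k.2]
      rfl
    have hcomp : (C.w k).hom ≫ (h ⁻¹ᵁ N).ι = (Nz k).ι := congrArg BMCoh.Hom.hom h2
    refine (lof_cpt T _ _ hx (F (gim f'' hd'' k.1)) wk hwkn (W' := Z.res N) w hwn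
      ((C.w k).hom ≫ (h ∣_ N)) ?_ (by rw [hrk k]; ring) (by rw [hrk k]; ring) _).trans ?_
    · have h6 : wk.hom ≫ Y.ptSubι (f'' k.1.1) ≫ φ = (Nz k).ι ≫ f'' ≫ φ := by
        rw [← Category.assoc, hwk, Category.assoc]
      refine Eq.trans ?_ h6.symm
      have h7 : w.hom ≫ X.ptSubι (f z.1) = N.ι ≫ f := hw
      refine (congrArg (((C.w k).hom ≫ (h ∣_ N)) ≫ ·) h7).trans ?_
      rw [← hcomp, Category.assoc, Category.assoc, ← hh]
      congr 1
      rw [← Category.assoc, ← Category.assoc]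
      exact congrArg (· ≫ f) (morphismRestrict_ι h N)
    · congr 1
      rw [← rs_comp, h2]
      exact (ps_comp T (X := Z''.res (Nz k)) (Y := Z''.res (h ⁻¹ᵁ N)) (Z := Z.res N)
        (C.w k).hom (h ∣_ N) _ rfl _ _ _ _ _ _ _).symm
  · intro x hx
    refine (famTot_apply T t F η x ∅ ?_).trans Finset.sum_empty
    intro y hy hne
    exfalso
    have h1 : y.1 ∈ Set.range f'' := by
      by_contra h
      exact hne (hη.off y h)
    obtain ⟨z'', hz''⟩ := h1
    refine hx ⟨h z'', ?_⟩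
    have h3 : φ y.1 = (t y).1 := (F y).maps_pt
    have h4 : (h ≫ f) z'' = (f'' ≫ φ) z'' := by rw [hh]
    have h5 : f (h z'') = φ (f'' z'') := h4
    rw [h5, hz'', h3, hy]

/-- The family of values of a class is unique. -/
theorem val_unique {Z X : Obj V} [IsReduced Z.scheme] {j : ℕ} (f : Z.scheme ⟶ X.scheme)
    [IsImmersion f] (hd : WeilCoh.dim Z.scheme + j = WeilCoh.dim X.scheme) {M : A.Cat} {i n : ℤ}
    (c : T.gp Z M i n) (η η' : T.ptSum X j M i n) (h : Val T f c η) (h' : Val T f c η') :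
    η = η' := by
  refine DFinsupp.ext fun x => ?_
  by_cases hx : x.1 ∈ Set.range f
  · obtain ⟨z, hz⟩ := exists_gpt f hd x hx
    obtain ⟨x, hx'⟩ := x
    subst hz
    obtain ⟨w, hw⟩ := exists_piece (Z := Z) (X := X) f z.1 (nb Z z.1) le_rfl (mem_nb Z z.1 z.2)
    have hwn := nonempty_range_of_mem (mem_nb Z z.1 z.2) w
    have hdn := dim_res_eq Z _ z.1 z.2 (mem_nb Z z.1 z.2)
    exact (h.at_pt ⟨f z.1, hx'⟩ _ (Z.resι (nb Z z.1) hdn) w hwn hw).trans
      (h'.at_pt ⟨f z.1, hx'⟩ _ (Z.resι (nb Z z.1) hdn) w hwn hw).symm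
  · exact (h.off x hx).trans (h'.off x hx).symm

end K876.FamTot
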