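import Groth.Agent.BMCoh.K876.NegVan

/-!
# Bijectivity criteria for the restriction maps between the groups of `F_j X`
-/

set_option autoImplicit false
set_option linter.unusedSectionVars false
universe u

open TopologicalSpace Topology AlgebraicGeometry CategoryTheory BMCoh Opposite CategoryTheory.Limits

namespace K876.FjBij

open K876.Dim K876.Geom K876.Colim K876.Gysin K876.Union K876.Restr K876.Points K876.PushUniq
  K876.ResComp K876.Ext K876.PtVan K876.NegVan

variable {V : ObjectProperty Scheme.{u}} [IsConstructible V] {R : Type u} [CommRing R] {A : Coefs R}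
variable (T : PreTheory V R A)

/-- The open `U` minus the closure of `x`. -/
def cut (X : Obj V) (x : X.scheme) (U : X.scheme.Opens) : X.scheme.Opens :=
  U ⊓ ⟨(closure {x})ᶜ, isClosed_closure.isOpen_compl⟩

omit [IsConstructible V] in
theorem cut_le (X : Obj V) (x : X.scheme) (U : X.scheme.Opens) : cut X x U ≤ U := inf_le_left

omit [IsConstructible V] in
theorem not_mem_cut (X : Obj V) (x : X.scheme) (U : X.scheme.Opens) : x ∉ cut X x U :=
  fun h => h.2 (subset_closure rfl)

theorem containsFj_cut (X : Obj V) {j : ℕ} (x : X.scheme) (hj : WeilCoh.codim X.scheme x = j + 1)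
    (U : X.scheme.Opens) (hU : ContainsFj X j U) : ContainsFj X j (cut X x U) := by
  intro y hy
  refine ⟨hU y hy, fun h => ?_⟩
  have h2 : x ⤳ y := specializes_iff_mem_closure.2 h
  have := pdim_le (fin X) h2
  have := pdim_add_codim X x
  have := pdim_add_codim X y
  omega

/-- Either every point has codimension at most `j` or there is one of codimension `j + 1`. -/
theorem codim_cases (X : Obj V) (j : ℕ) :
    (∀ y : X.scheme, WeilCoh.codim X.scheme y ≤ j) ∨
      ∃ x : X.scheme, WeilCoh.codim X.scheme x = j + 1 := by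
  cases isEmpty_or_nonempty X.scheme with
  | inl h => exact Or.inl fun y => h.elim y
  | inr h =>
    by_cases hd : j + 1 ≤ WeilCoh.dim X.scheme
    · exact Or.inr (exists_codim_eq (fin X) hd)
    · left
      intro y
      have := pdim_add_codim X y
      omega

theorem rs_range_eq_zero {S' S : Obj V} (k : S' ⟶ S) {M : A.Cat} {i n : ℤ} (b : T.gp S M i n)
    (h : rs T k b = 0) : rs T (S.resι k.hom.opensRange (dim_range k)) b = 0 := by
  have h5 : toRange k ≫ k = S.resι k.hom.opensRange (dim_range k) :=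
    BMCoh.Hom.ext (toRange_hom k)
  rw [← h5, rs_comp, h, rs_zero]

theorem injective_aux (X : Obj V) (M : A.Cat) (j m : ℕ) (i n : ℤ)
    (hZ : ∀ (Z : Obj V) (ι : Z.scheme ⟶ X.scheme) [IsClosedImmersion ι] [IsReduced Z.scheme],
      WeilCoh.dim Z.scheme + (j + 1) = WeilCoh.dim X.scheme →
      IsZero (T.fjGp Z m M (i - 2 * ((j : ℤ) + 1)) (n - ((j : ℤ) + 1))))
    (ξ : T.fjGp X (j + 1 + m) M i n)
    (h : ((T.fjRes X ((Nat.le_succ j).trans (Nat.le_add_right (j + 1) m)) i n).app M).hom ξ = 0) :
    ξ = 0 := by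
  obtain ⟨U, hU, a, rfl⟩ := fj_rep T ξ
  rw [fjRes_fj] at h
  obtain ⟨U', hU', k, hk, h0⟩ := fj_eq_zero T _ _ a h
  rcases codim_cases X j with hc | ⟨x, hx⟩
  · have hU'' : ContainsFj X (j + 1 + m) U' := fun y _ => hU' y (hc y)
    rw [← fj_rs T k _ _ hk _ (containsFj_range X U' hU'' _) a, h0]
    exact oc_zero T _ _ _
  · have hle : U' ≤ U := by
      intro y hy
      have h1 : k.hom ≫ U.ι = U'.ι := congrArg BMCoh.Hom.hom hk
      have h2 : U.ι (k.hom (lp X U' y hy)) = y := congrArg (fun φ => φ (lp X U' y hy)) h1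
      rw [← h2]
      exact (k.hom (lp X U' y hy)).2
    let U'' := cut X x U'
    have hU'' : ContainsFj X j U'' := containsFj_cut X x hx U' hU'
    let g := X.resι U'' (dim_res_eq_of_containsFj X j U'' hU'')
    have hgU : Set.range g.hom = U'' := U''.range_ι
    have hd : WeilCoh.dim (decOf g).Z.scheme + (j + 1) = WeilCoh.dim X.scheme :=
      dim_decOf g (containsFj_range X U'' hU'' _) x hx (by
        rw [hgU]; exact not_mem_cut X x U')
    have hgU2 : Set.range (decOf g).j.hom ⊆ U :=
      Set.Subset.trans hgU.subset (Set.Subset.trans (cut_le X x U') hle)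
    let D := restr (decOf g) U hgU2
    have hF : ContainsFj (decOf g).Z m ((decOf g).i ⁻¹ᵁ U) := by
      intro z hz
      refine hU _ ?_
      have := codim_add (decOf g).i (j + 1) hd z
      omega
    have hdZ := dim_res_eq_of_containsFj _ m _ hF
    have hcD : D.codim = (j : ℤ) + 1 :=
      (restr_codim (decOf g) U hgU2 hdZ).trans ((codim_eq_of_dim hd).trans (by push_cast; rfl))
    have h1 : rs T D.j a = 0 := by
      let l : X.res U'' ⟶ X.res U' := X.resLE (cut_le X x U')
          ((dim_res_eq_of_containsFj X j U'' hU'').trans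
            (dim_res_eq_of_containsFj X j U' hU').symm)
      have hl : l ≫ X.resι U' (dim_res_eq_of_containsFj X j U' hU') = g :=
        BMCoh.Hom.ext (Scheme.homOfLE_ι X.scheme (cut_le X x U'))
      have h2 : (D.j : X.res U'' ⟶ X.res U) = l ≫ k := by
        apply hom_cancel (X.resι U (dim_eq_of_range (decOf g).j U hgU2))
        refine (restr_j (decOf g) U hgU2).trans ?_
        refine Eq.trans ?_ (Category.assoc _ _ _).symm
        exact Eq.trans hl.symm (congrArg (l ≫ ·) hk).symm
      refine (congrArg (fun φ => rs T φ a) h2).trans ?_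
      change rs T (l ≫ k) a = 0
      rw [rs_comp, h0, rs_zero]
    obtain ⟨b, rfl⟩ := exists_of_rs_j_eq_zero T D (i := i - 2 * ((j : ℤ) + 1))
      (n := n - ((j : ℤ) + 1)) (by change i = _ + 2 * D.codim; rw [hcD]; ring)
      (by change n = _ + D.codim; rw [hcD]; ring) a h1
    have hb := eq_zero_of_isZero (hZ (decOf g).Z (decOf g).i hd)
      (fj T m ((decOf g).Z.resι ((decOf g).i ⁻¹ᵁ U) hdZ) (containsFj_range _ _ hF _) b)
    obtain ⟨W, hW, k', hk', h0'⟩ := fj_eq_zero T _ _ b hb
    refine fj_kill T (X.resι U (dim_res_eq_of_containsFj X _ U hU)) (containsFj_range X U hU _) D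
      k'.hom.opensRange (dim_range k') ?_ _ _ b (rs_range_eq_zero T k' b h0')
    intro z hz
    by_contra hlt
    refine hz ?_
    have h3 : (X.resι U (dim_res_eq_of_containsFj X _ U hU)).hom (D.i z) =
        (decOf g).i (((decOf g).i ⁻¹ᵁ U).ι z) :=
      congrArg (fun φ => φ z) (restr_i (decOf g) U hgU2)
    have h4 : ((decOf g).i ⁻¹ᵁ U).ι z ∈ W := by
      refine hW _ ?_
      have := codim_add (decOf g).i (j + 1) hd (((decOf g).i ⁻¹ᵁ U).ι z)
      rw [h3] at hlt
      omega
    refine ⟨lp _ W _ h4, ?_⟩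
    apply ((decOf g).i ⁻¹ᵁ U).ι.isOpenEmbedding.injective
    exact congrArg (fun φ => φ (lp _ W _ h4)) (congrArg BMCoh.Hom.hom hk')

theorem surjective_aux (X : Obj V) (M : A.Cat) (j m : ℕ) (i n : ℤ)
    (hZ : ∀ (Z : Obj V) (ι : Z.scheme ⟶ X.scheme) [IsClosedImmersion ι] [IsReduced Z.scheme],
      WeilCoh.dim Z.scheme + (j + 1) = WeilCoh.dim X.scheme →
      IsZero (T.fjGp Z m M (i + 1 - 2 * ((j : ℤ) + 1)) (n - ((j : ℤ) + 1))))
    (ξ : T.fjGp X j M i n) : ∃ η : T.fjGp X (j + 1 + m) M i n,
      ((T.fjRes X ((Nat.le_succ j).trans (Nat.le_add_right (j + 1) m)) i n).app M).hom η = ξ := by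
  obtain ⟨U, hU, a, rfl⟩ := fj_rep T ξ
  rcases codim_cases X j with hc | ⟨x, hx⟩
  · have hU'' : ContainsFj X (j + 1 + m) U := fun y _ => hU y (hc y)
    exact ⟨_, fjRes_fj T _ _ (containsFj_range X U hU'' _) a⟩
  · let U'' := cut X x U
    have hU'' : ContainsFj X j U'' := containsFj_cut X x hx U hU
    let g := X.resι U'' (dim_res_eq_of_containsFj X j U'' hU'')
    have hg := containsFj_range X U'' hU'' (dim_res_eq_of_containsFj X j U'' hU'')
    have hgU : Set.range g.hom = U'' := U''.range_ι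
    have hd : WeilCoh.dim (decOf g).Z.scheme + (j + 1) = WeilCoh.dim X.scheme :=
      dim_decOf g hg x hx (by rw [hgU]; exact not_mem_cut X x U)
    have hcD : (decOf g).codim = (j : ℤ) + 1 := (codim_eq_of_dim hd).trans (by push_cast; rfl)
    let l := X.resLE (cut_le X x U) ((dim_res_eq_of_containsFj X j U'' hU'').trans
            (dim_res_eq_of_containsFj X j U hU).symm)
    have hl : l ≫ X.resι U (dim_res_eq_of_containsFj X j U hU) = g :=
      BMCoh.Hom.ext (Scheme.homOfLE_ι X.scheme (cut_le X x U))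
    rw [← fj_rs T l _ g hl _ hg a]
    have hi : i + 1 - 2 * ((j : ℤ) + 1) = i + 1 - 2 * (decOf g).codim := by rw [hcD]
    have hn : n - ((j : ℤ) + 1) = n - (decOf g).codim := by rw [hcD]
    have hid : ContainsFj (decOf g).Z m (𝟙 (decOf g).Z : (decOf g).Z ⟶ (decOf g).Z).hom.opensRange :=
      fun y _ => ⟨y, rfl⟩
    have hb := eq_zero_of_isZero (hZ (decOf g).Z (decOf g).i hd)
      (fj T m (𝟙 (decOf g).Z) hid (rd T (decOf g) hi hn (rs T l a)))
    obtain ⟨W, hW, k', hk', h0'⟩ := fj_eq_zero T _ _ _ hb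
    rw [Category.comp_id] at hk'
    rw [hk'] at h0'
    obtain ⟨O, hO, b, k, hk, hb⟩ := exists_ext T g hi hn (rs T l a) W _ h0' (j + 1 + m)
      (fun z hz => by
        have h1 := codim_add (decOf g).i (j + 1) hd z
        have h2 : ¬ WeilCoh.codim (decOf g).Z.scheme z ≤ m := fun h => hz (hW z h)
        omega)
    exact ⟨_, fjRes_ext T ((Nat.le_succ j).trans (Nat.le_add_right (j + 1) m)) g hg _ hO b k hk hb⟩

/-- The group of `F_0` of a reduced piece vanishes if the groups of its generic points do. -/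
theorem isZero_fj_zero {Z X : Obj V} [IsReduced Z.scheme] (f : Z.scheme ⟶ X.scheme) [IsImmersion f]
    (M : A.Cat) (i n : ℤ)
    (h : ∀ z : Z.scheme, WeilCoh.codim Z.scheme z = 0 → IsZero (T.ptGp X (f z) M i n)) :
    IsZero (T.fjGp Z 0 M i n) := by
  refine isZero_of_eq_zero fun ξ => ?_
  obtain ⟨U, hU, c, rfl⟩ := fj_rep T ξ
  let g := Z.resι U (dim_res_eq_of_containsFj Z 0 U hU)
  have : IsImmersion (g.hom ≫ f) := inferInstance
  obtain ⟨N, hN, h0⟩ := exists_vanish_pt T (Z := Z.res U) (X := X) (g.hom ≫ f) c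
    (fun z hz w _ => eq_zero_of_isZero (h (g.hom z) (by rw [← codim_hom g]; exact hz)) _)
  have hr : ContainsFj Z 0 ((Z.res U).resι N (dim_res_eq_of_contains _ N hN) ≫ g).hom.opensRange := by
    intro y hy
    have hyU : y ∈ U := hU y hy
    have h1 : lp Z U y hyU ∈ N := hN _ (by
      rw [codim_hom g]
      exact hy)
    exact ⟨lp _ N _ h1, rfl⟩
  rw [← fj_rs T ((Z.res U).resι N (dim_res_eq_of_contains _ N hN)) g _ rfl _ hr c, h0]
  exact oc_zero T _ _ _

/-- Vanishing of the groups of `F_j X` in large degrees. -/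
theorem isZero_fj_of_lt (X : Obj V) [IsReduced X.scheme] (M : A.Cat) (c : ℕ)
    (hc : ∀ (y : X.scheme) (i n : ℤ), (WeilCoh.pdim X.scheme y : ℤ) + c < i →
      IsZero (T.ptGp X y M i n)) :
    ∀ (j : ℕ) (i n : ℤ), (WeilCoh.dim X.scheme : ℤ) + j + c < i → IsZero (T.fjGp X j M i n) := by
  intro j
  induction j with
  | zero =>
    intro i n hi
    refine isZero_fj_zero T (𝟙 X.scheme) M i n fun z hz => hc _ i n ?_
    have := pdim_add_codim X z
    change (WeilCoh.pdim X.scheme z : ℤ) + c < i
    push_cast at hi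
    omega
  | succ j ih =>
    intro i n hi
    refine isZero_of_eq_zero fun ξ => ?_
    refine injective_aux T X M j 0 i n (fun Z ι _ _ hd => ?_) ξ
      (eq_zero_of_isZero (ih i n (by push_cast at hi; omega)) _)
    refine isZero_fj_zero T ι M _ _ fun z hz => hc _ _ _ ?_
    have h1 := pdim_add_codim X (ι z)
    have h2 := codim_add ι (j + 1) hd z
    push_cast at hi
    omega

end K876.FjBij
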