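import Groth.Agent.BMCoh.K876.FjBij

/-!
# Generic classes: families of classes at points represented on a reduced closed piece
-/

set_option autoImplicit false
set_option linter.unusedSectionVars false
universe u

open TopologicalSpace Topology AlgebraicGeometry CategoryTheory BMCoh Opposite CategoryTheory.Limits

namespace K876.GenClass

open K876.Dim K876.Geom K876.Colim K876.Gysin K876.Union K876.Restr K876.Points K876.PushUniq
  K876.ResComp K876.Ext K876.PtVan K876.NegVan K876.FjBij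

variable {V : ObjectProperty Scheme.{u}} [IsConstructible V] {R : Type u} [CommRing R] {A : Coefs R}
variable (T : PreTheory V R A)

theorem pt_rs {X : Obj V} {x : X.scheme} {S' S : Obj V} (k : S' ⟶ S) (g : S ⟶ X.ptSub x)
    (g' : S' ⟶ X.ptSub x) (hk : k ≫ g = g')
    (hg : (g.hom.opensRange : Set (X.ptSub x).scheme).Nonempty)
    (hg' : (g'.hom.opensRange : Set (X.ptSub x).scheme).Nonempty)
    {M : A.Cat} {i n : ℤ} (a : T.gp S M i n) :
    pt T x g' hg' (rs T k a) = pt T x g hg a := oc_rs T _ k g g' hk hg hg' a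

/-- The class at a point does not depend on the piece used. -/
theorem pt_indep {Z X : Obj V} (f : Z.scheme ⟶ X.scheme) [Mono f] (x : X.scheme)
    {W W' : Obj V} (k : W ⟶ Z) (k' : W' ⟶ Z) (w : W ⟶ X.ptSub x) (w' : W' ⟶ X.ptSub x)
    (h : w.hom ≫ X.ptSubι x = k.hom ≫ f) (h' : w'.hom ≫ X.ptSubι x = k'.hom ≫ f)
    (hw : (w.hom.opensRange : Set (X.ptSub x).scheme).Nonempty)
    (hw' : (w'.hom.opensRange : Set (X.ptSub x).scheme).Nonempty) {M : A.Cat} {i n : ℤ}
    (c : T.gp Z M i n) : pt T x w hw (rs T k c) = pt T x w' hw' (rs T k' c) := by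
  let O := w.hom.opensRange ⊓ w'.hom.opensRange
  have hO : (O : Set (X.ptSub x).scheme).Nonempty :=
    nonempty_preirreducible_inter w.hom.opensRange.isOpen w'.hom.opensRange.isOpen hw hw'
  let r : (X.ptSub x).res O ⟶ X.ptSub x := (X.ptSub x).resι O
    (IsConstructible.dim_open (X.ptSub x).mem inferInstance O hO)
  have hr : Set.range r.hom = O := O.range_ι
  have hrn : (r.hom.opensRange : Set (X.ptSub x).scheme).Nonempty := by
    rw [opensRange_resι]; exact hO
  have h1 : Set.range r.hom ⊆ Set.range w.hom := by rw [hr]; exact fun y hy => hy.1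
  have h2 : Set.range r.hom ⊆ Set.range w'.hom := by rw [hr]; exact fun y hy => hy.2
  let l := liftHom w r h1
  let l' := liftHom w' r h2
  have hl : l ≫ w = r := liftHom_comp w r h1
  have hl' : l' ≫ w' = r := liftHom_comp w' r h2
  have hk : l ≫ k = l' ≫ k' := by
    apply BMCoh.Hom.ext
    rw [← cancel_mono f, comp_hom, comp_hom, Category.assoc, Category.assoc, ← h, ← h',
      ← Category.assoc, ← Category.assoc, ← comp_hom, ← comp_hom, hl, hl']
  rw [← pt_rs T l w r hl hw hrn, ← pt_rs T l' w' r hl' hw' hrn, ← rs_comp, ← rs_comp, hk]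

/-- The family `η` of classes at the points of codimension `j` is the family of the values of the
class `c` on the piece `Z` of `X`. -/
structure Val {Z X : Obj V} {j : ℕ} (f : Z.scheme ⟶ X.scheme) {M : A.Cat} {i n : ℤ}
    (c : T.gp Z M i n) (η : T.ptSum X j M i n) : Prop where
  at_pt : ∀ (x : X.cdPt j) (W : Obj V) (k : W ⟶ Z) (w : W ⟶ X.ptSub x.1)
    (hw : (w.hom.opensRange : Set (X.ptSub x.1).scheme).Nonempty),
    w.hom ≫ X.ptSubι x.1 = k.hom ≫ f → η x = pt T x.1 w hw (rs T k c)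
  off : ∀ x : X.cdPt j, x.1 ∉ Set.range f → η x = 0

/-- The points of codimension zero, as a type. -/
abbrev Gpt (Z : Obj V) : Type u := {z : Z.scheme // WeilCoh.codim Z.scheme z = 0}

instance finite_Gpt (Z : Obj V) : Finite (Gpt Z) := (finite_codim_zero Z).to_subtype

/-- The covering of an open by disjoint neighbourhoods of the points of codimension zero. -/
noncomputable def genCov (Z : Obj V) (N : Z.scheme.Opens) (Nz : Gpt Z → Z.scheme.Opens)
    (hle : ∀ z, Nz z ≤ N) (hcov : ∀ y ∈ N, ∃ z, y ∈ Nz z) (hnb : ∀ z, Nz z ≤ nb Z z.1)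
    (hz : ∀ z, z.1 ∈ Nz z) : Cov (Z.res N) (fun z => Z.res (Nz z)) where
  w := fun z => Z.resLE (hle z) ((dim_res_eq Z _ z.1 z.2 (hz z)).trans
    (dim_res_eq Z _ z.1 z.2 (hle z (hz z))).symm)
  disj := by
    intro z z' hne
    rw [Set.disjoint_left]
    rintro _ ⟨x, rfl⟩ ⟨x', hx'⟩
    have h1 : N.ι ((Z.scheme.homOfLE (hle z)) x) = (Nz z).ι x := homOfLE_ι_apply (hle z) x
    have h2 : N.ι ((Z.scheme.homOfLE (hle z')) x') = (Nz z').ι x' := homOfLE_ι_apply (hle z') x'
    have h3 : (Nz z).ι x = (Nz z').ι x' := by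
      rw [← h1, ← h2]
      exact congrArg _ hx'.symm
    have h4 : (Nz z).ι x ∈ nb Z z.1 := hnb z x.2
    have h5 : (Nz z).ι x ∈ nb Z z'.1 := by rw [h3]; exact hnb z' x'.2
    exact Set.disjoint_left.1 (nb_disjoint Z z.2 z'.2 (fun h => hne (Subtype.ext h))) h4 h5
  cov := by
    intro x
    obtain ⟨z, hz⟩ := hcov x.1 x.2
    refine ⟨z, ⟨⟨x.1, hz⟩, ?_⟩⟩
    apply N.ι.isOpenEmbedding.injective
    exact homOfLE_ι_apply (hle z) ⟨x.1, hz⟩

theorem exists_gpt {Z X : Obj V} {j : ℕ} (f : Z.scheme ⟶ X.scheme) [IsImmersion f]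
    (hd : WeilCoh.dim Z.scheme + j = WeilCoh.dim X.scheme) (x : X.cdPt j)
    (hx : x.1 ∈ Set.range f) : ∃ z : Gpt Z, f z.1 = x.1 := by
  obtain ⟨z, hz⟩ := hx
  refine ⟨⟨z, ?_⟩, hz⟩
  have h1 := codim_add f j hd z
  have h2 := x.2
  rw [← hz] at h2
  omega

/-- The image of a point of codimension zero. -/
def gim {Z X : Obj V} {j : ℕ} (f : Z.scheme ⟶ X.scheme) [IsImmersion f]
    (hd : WeilCoh.dim Z.scheme + j = WeilCoh.dim X.scheme) (z : Gpt Z) : X.cdPt j :=
  ⟨f z.1, by
    have h1 := codim_add f j hd z.1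
    have h2 := z.2
    omega⟩

/-- Criterion for `Val` from one piece at each generic point. -/
theorem Val.of {Z X : Obj V} {j : ℕ} (f : Z.scheme ⟶ X.scheme) [IsImmersion f]
    (hd : WeilCoh.dim Z.scheme + j = WeilCoh.dim X.scheme) {M : A.Cat} {i n : ℤ}
    (c : T.gp Z M i n) (η : T.ptSum X j M i n)
    (h1 : ∀ z : Gpt Z, ∃ (W : Obj V) (k : W ⟶ Z) (w : W ⟶ X.ptSub (f z.1))
      (hw : (w.hom.opensRange : Set (X.ptSub (f z.1)).scheme).Nonempty),
      w.hom ≫ X.ptSubι (f z.1) = k.hom ≫ f ∧ η (gim f hd z) = pt T (f z.1) w hw (rs T k c))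
    (h2 : ∀ x : X.cdPt j, x.1 ∉ Set.range f → η x = 0) : Val T f c η where
  off := h2
  at_pt := by
    intro x W k w hw h
    obtain ⟨y, hy⟩ := gpt_mem_range x.1 w hw
    have hx : x.1 ∈ Set.range f := ⟨k.hom y, by
      have h3 : (k.hom ≫ f) y = X.ptSubι x.1 (w.hom y) := by
        rw [← h]; rfl
      rw [hy, ptSubι_gpt] at h3
      exact h3⟩
    obtain ⟨z, hz⟩ := exists_gpt f hd x hx
    obtain ⟨x, hx'⟩ := x
    subst hz
    obtain ⟨W', k', w', hw', h', h0⟩ := h1 z
    exact h0.trans (pt_indep T f (f z.1) k' k w' w h' h hw' hw c)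

theorem sum_lof_apply {K : Type*} [Fintype K] {ι : Type*} [DecidableEq ι] {B : ι → Type*}
    [∀ i, AddCommGroup (B i)] [∀ i, Module R (B i)] (g : K → ι) (hg : Function.Injective g)
    (b : ∀ k, B (g k)) (k : K) :
    (∑ l, DirectSum.lof R ι B (g l) (b l)) (g k) = b k := by
  rw [DirectSum.sum_apply, Finset.sum_eq_single k]
  · exact DirectSum.lof_apply R (g k) (b k)
  · intro l _ hl
    exact DirectSum.of_eq_of_ne _ _ _ (fun h => hl (hg h).symm)
  · intro h
    exact absurd (Finset.mem_univ k) h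

theorem sum_lof_apply_ne {K : Type*} [Fintype K] {ι : Type*} [DecidableEq ι] {B : ι → Type*}
    [∀ i, AddCommGroup (B i)] [∀ i, Module R (B i)] (g : K → ι)
    (b : ∀ k, B (g k)) (x : ι) (hx : ∀ k, g k ≠ x) :
    (∑ l, DirectSum.lof R ι B (g l) (b l)) x = 0 := by
  rw [DirectSum.sum_apply]
  refine Finset.sum_eq_zero fun l _ => ?_
  exact DirectSum.of_eq_of_ne _ _ _ (fun h => hx l h.symm)

theorem gim_injective {Z X : Obj V} {j : ℕ} (f : Z.scheme ⟶ X.scheme) [IsImmersion f]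
    (hd : WeilCoh.dim Z.scheme + j = WeilCoh.dim X.scheme) : Function.Injective (gim f hd) := by
  intro z z' h
  exact Subtype.ext (f.isEmbedding.injective (congrArg Subtype.val h))

/-- Every class on a reduced piece has a family of values. -/
theorem exists_val {Z X : Obj V} [IsReduced Z.scheme] {j : ℕ} (f : Z.scheme ⟶ X.scheme)
    [IsImmersion f] (hd : WeilCoh.dim Z.scheme + j = WeilCoh.dim X.scheme) {M : A.Cat} {i n : ℤ}
    (c : T.gp Z M i n) : ∃ η : T.ptSum X j M i n, Val T f c η := by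
  classical
  have := Fintype.ofFinite (Gpt Z)
  have hp : ∀ z : Gpt Z, ∃ w : Z.res (nb Z z.1) ⟶ X.ptSub (f z.1),
      w.hom ≫ X.ptSubι (f z.1) = (nb Z z.1).ι ≫ f :=
    fun z => exists_piece f z.1 (nb Z z.1) le_rfl (mem_nb Z z.1 z.2)
  choose w hw using hp
  let b : ∀ z : Gpt Z, T.ptGp X (gim f hd z).1 M i n := fun z =>
    pt T (f z.1) (w z) (nonempty_range_of_mem (mem_nb Z z.1 z.2) (w z))
      (rs T (Z.resι (nb Z z.1) (dim_res_eq Z _ z.1 z.2 (mem_nb Z z.1 z.2))) c)
  refine ⟨∑ z, DirectSum.lof R (X.cdPt j) (fun y : X.cdPt j => T.ptGp X y.1 M i n)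
    (gim f hd z) (b z), Val.of T f hd c _ ?_ ?_⟩
  · intro z
    refine ⟨_, Z.resι (nb Z z.1) (dim_res_eq Z _ z.1 z.2 (mem_nb Z z.1 z.2)), w z,
      nonempty_range_of_mem (mem_nb Z z.1 z.2) (w z), hw z, ?_⟩
    exact sum_lof_apply (R := R) (B := fun y : X.cdPt j => T.ptGp X y.1 M i n) (gim f hd)
      (gim_injective f hd) b z
  · intro x hx
    refine sum_lof_apply_ne (R := R) (B := fun y : X.cdPt j => T.ptGp X y.1 M i n) (gim f hd) b x ?_
    rintro z rfl
    exact hx ⟨z.1, rfl⟩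

end K876.GenClass
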