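import Groth.Agent.BMCoh.K876.Dim
import Groth.Agent.Ega1.ReducedSub

/-!
# Pieces of objects: reduced locally closed subschemes, closures of points
-/

set_option autoImplicit false
universe u

open TopologicalSpace Topology AlgebraicGeometry CategoryTheory BMCoh

namespace K876.Geom

open K876.Dim Groth.Agent.Ega1.ReducedSub

variable {V : ObjectProperty Scheme.{u}} [IsConstructible V]

theorem fin (X : Obj V) : topologicalKrullDim X.scheme < ⊤ := IsConstructible.finiteDim X.mem

theorem noeth (X : Obj V) : IsNoetherian X.scheme := IsConstructible.isNoetherian X.mem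

/-- Membership for the source of an immersion. -/
theorem mem_of_isImmersion {X Y : Scheme.{u}} (f : Y ⟶ X) [IsImmersion f] (hX : V X) : V Y := by
  have h1 : V (f.coborderRange : Scheme.{u}) :=
    IsConstructible.of_isOpenImmersion f.coborderRange.ι hX
  exact IsConstructible.of_isClosedImmersion f.liftCoborder h1

theorem range_ptSubι (X : Obj V) (x : X.scheme) : Set.range (X.ptSubι x) = closure {x} := by
  rw [Scheme.IdealSheafData.range_subschemeι]
  exact Scheme.IdealSheafData.coe_support_vanishingIdeal _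

instance isReduced_ptSub (X : Obj V) (x : X.scheme) : IsReduced (X.ptSub x).scheme :=
  isReduced_subscheme_vanishingIdeal _

instance irreducibleSpace_ptSub (X : Obj V) (x : X.scheme) :
    IrreducibleSpace (X.ptSub x).scheme := by
  have h4 : IsIrreducible (Set.range (X.ptSubι x)) := by
    rw [range_ptSubι]; exact isIrreducible_singleton.closure
  have e : (X.ptSub x).scheme ≃ₜ Set.range (X.ptSubι x) :=
    (X.ptSubι x).isClosedEmbedding.isEmbedding.toHomeomorph
  exact e.irreducibleSpace_iff.2 (isIrreducible_iff_irreducibleSpace.1 h4)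

instance isIntegral_ptSub (X : Obj V) (x : X.scheme) : IsIntegral (X.ptSub x).scheme :=
  isIntegral_of_irreducibleSpace_of_isReduced _

theorem ptSubι_eq_of_closure (X : Obj V) (x : X.scheme) (c : (X.ptSub x).scheme)
    (hc : closure {c} = Set.univ) : X.ptSubι x c = x := by
  have h1 : closure {X.ptSubι x c} = closure {x} := by
    have h3 := (X.ptSubι x).isClosedEmbedding.closure_image_eq {c}
    rw [Set.image_singleton, hc, Set.image_univ, range_ptSubι] at h3
    exact h3
  have h2 : Inseparable (X.ptSubι x c) x := by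
    rw [inseparable_iff_closure_eq]
    exact h1
  exact h2.eq

/-- The point of the reduced closure of `x` over `x`. -/
noncomputable def gpt (X : Obj V) (x : X.scheme) : (X.ptSub x).scheme := genericPoint _

theorem closure_gpt (X : Obj V) (x : X.scheme) : closure {gpt X x} = Set.univ :=
  genericPoint_closure _

@[simp] theorem ptSubι_gpt (X : Obj V) (x : X.scheme) : X.ptSubι x (gpt X x) = x :=
  ptSubι_eq_of_closure X x _ (closure_gpt X x)

theorem gpt_mem (X : Obj V) (x : X.scheme) (U : (X.ptSub x).scheme.Opens)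
    (hU : (U : Set (X.ptSub x).scheme).Nonempty) : gpt X x ∈ U := by
  obtain ⟨y, hy⟩ := hU
  have : gpt X x ⤳ y := by
    rw [specializes_iff_mem_closure, closure_gpt]; trivial
  exact this.mem_open U.isOpen hy

theorem natDim_range {S T : Type u} [TopologicalSpace S] [TopologicalSpace T] (f : S → T)
    (hf : IsEmbedding f) : WeilCoh.natDim S = WeilCoh.natDim (Set.range f) := by
  unfold WeilCoh.natDim
  rw [hf.toHomeomorph.isHomeomorph.topologicalKrullDim_eq]

theorem dim_ptSub (X : Obj V) (x : X.scheme) :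
    WeilCoh.dim (X.ptSub x).scheme = WeilCoh.pdim X.scheme x := by
  unfold WeilCoh.dim WeilCoh.pdim
  rw [natDim_range _ (X.ptSubι x).isClosedEmbedding.isEmbedding, range_ptSubι]

/-- Immersions between members preserve the dimension of the closure of a point. -/
theorem pdim_immersion {S X : Obj V} (f : S.scheme ⟶ X.scheme) [IsImmersion f] (s : S.scheme) :
    WeilCoh.pdim S.scheme s = WeilCoh.pdim X.scheme (f s) := by
  obtain ⟨A, B, hA, hB, hAB⟩ := f.isLocallyClosed_range
  have hf : IsEmbedding f := f.isEmbedding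
  have hsB : f s ∈ B := (hAB ▸ ⟨s, rfl⟩ : f s ∈ A ∩ B).2
  have hsA : f s ∈ A := (hAB ▸ ⟨s, rfl⟩ : f s ∈ A ∩ B).1
  let x := f s
  let O : (X.ptSub x).scheme.Opens := ⟨X.ptSubι x ⁻¹' A, hA.preimage (X.ptSubι x).continuous⟩
  have hO : (O : Set (X.ptSub x).scheme).Nonempty := ⟨gpt X x, by
    change X.ptSubι x (gpt X x) ∈ A
    rw [ptSubι_gpt]; exact hsA⟩
  have h1 : WeilCoh.dim (O : Scheme.{u}) = WeilCoh.dim (X.ptSub x).scheme :=
    IsConstructible.dim_open (X.ptSub x).mem inferInstance O hO
  rw [dim_ptSub] at h1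
  rw [← h1]
  unfold WeilCoh.pdim WeilCoh.dim
  have e1 : IsEmbedding (fun y : closure {s} => f y.1) := hf.comp IsEmbedding.subtypeVal
  have e2 : IsEmbedding (O.ι ≫ X.ptSubι x) := (O.ι ≫ X.ptSubι x).isEmbedding
  rw [natDim_range _ e1, natDim_range _ e2]
  have h2 : Set.range (fun y : closure {s} => f y.1) = Set.range (O.ι ≫ X.ptSubι x) := by
    have h3 : Set.range (fun y : closure {s} => f y.1) = A ∩ closure {x} := by
      ext y
      constructor
      · rintro ⟨⟨z, hz⟩, rfl⟩
        refine ⟨(hAB ▸ ⟨z, rfl⟩ : f z ∈ A ∩ B).1, ?_⟩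
        have : f z ∈ closure (f '' {s}) := image_closure_subset_closure_image f.continuous ⟨z, hz, rfl⟩
        rwa [Set.image_singleton] at this
      · rintro ⟨hyA, hy⟩
        have hyB : y ∈ B := closure_minimal (Set.singleton_subset_iff.2 hsB) hB hy
        obtain ⟨z, rfl⟩ : y ∈ Set.range f := by rw [hAB]; exact ⟨hyA, hyB⟩
        refine ⟨⟨z, ?_⟩, rfl⟩
        rw [hf.closure_eq_preimage_closure_image, Set.image_singleton]
        exact hy
    rw [h3]
    have h4 : Set.range (O.ι ≫ X.ptSubι x) = X.ptSubι x '' (O : Set (X.ptSub x).scheme) := by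
      rw [Scheme.Hom.comp_base, TopCat.coe_comp, Set.range_comp]
      congr 1
      exact O.range_ι
    rw [h4]
    change _ = X.ptSubι x '' (X.ptSubι x ⁻¹' A)
    rw [Set.image_preimage_eq_inter_range, range_ptSubι]
  rw [h2]

theorem dim_immersion_le {S X : Obj V} (f : S.scheme ⟶ X.scheme) [IsImmersion f] :
    WeilCoh.dim S.scheme ≤ WeilCoh.dim X.scheme :=
  dim_le_of (fin S) fun s => by
    rw [pdim_immersion f s]; exact pdim_le_dim (fin X) _

theorem dim_immersion_eq {S X : Obj V} (f : S.scheme ⟶ X.scheme) [IsImmersion f] (s : S.scheme)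
    (hs : WeilCoh.codim X.scheme (f s) = 0) :
    WeilCoh.dim S.scheme = WeilCoh.dim X.scheme := by
  refine le_antisymm (dim_immersion_le f) ?_
  have h1 := pdim_immersion f s
  have h2 := pdim_le_dim (fin S) s
  unfold WeilCoh.codim at hs
  omega

/-- An open immersion hitting a point of codimension zero, as a morphism of objects. -/
def mkHom {S X : Obj V} (f : S.scheme ⟶ X.scheme) [IsOpenImmersion f] (s : S.scheme)
    (hs : WeilCoh.codim X.scheme (f s) = 0) : S ⟶ X :=
  ⟨f, inferInstance, dim_immersion_eq f s hs⟩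

/-- An immersion with open range in a reduced scheme is an open immersion. -/
theorem isOpenImmersion_of_isOpen_range {S C : Scheme.{u}} (g : S ⟶ C) [IsImmersion g]
    [IsReduced C] (h : IsOpen (Set.range g)) : IsOpenImmersion g := by
  let O : C.Opens := ⟨Set.range g, h⟩
  have hr : Set.range g ⊆ Set.range O.ι := by rw [Scheme.Opens.range_ι]; exact subset_rfl
  let d : S ⟶ O := IsOpenImmersion.lift O.ι g hr
  have hd : d ≫ O.ι = g := IsOpenImmersion.lift_fac _ _ _
  have h1 : IsImmersion (d ≫ O.ι) := by rw [hd]; infer_instance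
  have h2 : IsImmersion d := IsImmersion.of_comp d O.ι
  have h3 : Surjective d := ⟨fun y => by
    obtain ⟨x, hx⟩ := y.2
    refine ⟨x, ?_⟩
    apply O.ι.isOpenEmbedding.injective
    rw [← Scheme.Hom.comp_apply, hd]
    exact hx⟩
  have h4 : IsIso d := isIso_of_isImmersion_of_surjective d
  rw [← hd]
  infer_instance

/-- A reduced piece contained in the closure of `x` and containing `x` is an open piece of the
reduced closure of `x`. -/
theorem exists_hom_ptSub {S X : Obj V} [IsReduced S.scheme] (f : S.scheme ⟶ X.scheme)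
    [IsImmersion f] (x : X.scheme) (hf : Set.range f ⊆ closure {x}) (s : S.scheme) (hs : f s = x) :
    ∃ w : S ⟶ X.ptSub x, w.hom ≫ X.ptSubι x = f := by
  obtain ⟨A, B, hA, hB, hAB⟩ := f.isLocallyClosed_range
  have hsB : x ∈ B := (hAB ▸ ⟨s, hs⟩ : x ∈ A ∩ B).2
  have hBx : closure {x} ⊆ B := closure_minimal (Set.singleton_subset_iff.2 hsB) hB
  obtain ⟨g, hg⟩ := exists_factor_of_range_subset f (X.ptSubι x) (by rwa [range_ptSubι])
  have h1 : IsImmersion (g ≫ X.ptSubι x) := by rw [hg]; infer_instance
  have h2 : IsImmersion g := IsImmersion.of_comp g (X.ptSubι x)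
  have h3 : Set.range g = X.ptSubι x ⁻¹' A := by
    have h5 : X.ptSubι x ⁻¹' Set.range f = Set.range g := by
      rw [← hg, Scheme.Hom.comp_base, TopCat.coe_comp, Set.range_comp]
      exact (X.ptSubι x).isClosedEmbedding.injective.preimage_image _
    rw [← h5, hAB]
    ext c
    constructor
    · exact fun h => h.1
    · intro h
      refine ⟨h, hBx ?_⟩
      rw [← range_ptSubι]
      exact ⟨c, rfl⟩
  have h4 : IsOpenImmersion g := isOpenImmersion_of_isOpen_range g (by
    rw [h3]; exact hA.preimage (X.ptSubι x).continuous)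
  have h6 : X.ptSubι x (g s) = x := by
    rw [← Scheme.Hom.comp_apply, hg, hs]
  refine ⟨⟨g, h4, ?_⟩, hg⟩
  refine le_antisymm (dim_immersion_le g) ?_
  rw [dim_ptSub]
  have h7 := pdim_immersion f s
  rw [hs] at h7
  rw [← h7]
  exact pdim_le_dim (fin S) s

end K876.Geom
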