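import Groth.Agent.BMCoh.K876.Geom
import Groth.Prelude.Def_BMCoh3
import Mathlib.Topology.NoetherianSpace

/-!
# Points of codimension zero, neighbourhoods, closed parts and decompositions
-/

set_option autoImplicit false
universe u

open TopologicalSpace Topology AlgebraicGeometry CategoryTheory BMCoh

namespace K876.Geom

open K876.Dim Groth.Agent.Ega1.ReducedSub

variable {V : ObjectProperty Scheme.{u}} [IsConstructible V]

theorem pdim_add_codim (X : Obj V) (x : X.scheme) :
    WeilCoh.pdim X.scheme x + WeilCoh.codim X.scheme x = WeilCoh.dim X.scheme := by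
  have := pdim_le_dim (fin X) x
  unfold WeilCoh.codim
  omega

theorem exists_codim_zero (X : Obj V) [Nonempty X.scheme] :
    ∃ x : X.scheme, WeilCoh.codim X.scheme x = 0 := by
  obtain ⟨x, hx⟩ := exists_pdim_eq (fin X) (n := WeilCoh.dim X.scheme) le_rfl
  refine ⟨x, ?_⟩
  have := pdim_add_codim X x
  omega

/-- Codimensions along an immersion whose points all have codimension at least `k` and which hits a
point of codimension `k`. -/
theorem dim_add_eq {S X : Obj V} (f : S.scheme ⟶ X.scheme) [IsImmersion f] (k : ℕ)
    (s : S.scheme) (hs : WeilCoh.codim X.scheme (f s) = k)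
    (hall : ∀ t : S.scheme, k ≤ WeilCoh.codim X.scheme (f t)) :
    WeilCoh.dim S.scheme + k = WeilCoh.dim X.scheme := by
  have h1 := pdim_immersion f s
  have h2 := pdim_add_codim X (f s)
  have h3 := pdim_le_dim (fin S) s
  have h4 : WeilCoh.dim S.scheme ≤ WeilCoh.dim X.scheme - k :=
    dim_le_of (fin S) fun t => by
      have h5 := pdim_immersion f t
      have h6 := pdim_add_codim X (f t)
      have h7 := hall t
      omega
  omega

theorem codim_add {S X : Obj V} (f : S.scheme ⟶ X.scheme) [IsImmersion f] (k : ℕ)
    (h : WeilCoh.dim S.scheme + k = WeilCoh.dim X.scheme) (t : S.scheme) :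
    WeilCoh.codim S.scheme t + k = WeilCoh.codim X.scheme (f t) := by
  have h5 := pdim_immersion f t
  have h6 := pdim_add_codim X (f t)
  have h7 := pdim_add_codim S t
  omega

/-- Morphisms of objects preserve the codimension of points. -/
theorem codim_hom {S X : Obj V} (g : S ⟶ X) (s : S.scheme) :
    WeilCoh.codim S.scheme s = WeilCoh.codim X.scheme (g.hom s) := by
  have := codim_add g.hom 0 (by rw [g.dim_eq]; rfl) s
  simpa using this

theorem closure_mem_irreducibleComponents (X : Obj V) (x : X.scheme)
    (hx : WeilCoh.codim X.scheme x = 0) : closure {x} ∈ irreducibleComponents X.scheme := by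
  have hirr : IsIrreducible (closure {x}) := isIrreducible_singleton.closure
  obtain ⟨u, hu, hxu⟩ := exists_mem_irreducibleComponents_subset_of_isIrreducible _ hirr
  have hu1 : IsIrreducible u := hu.1
  have hu2 : IsClosed u := isClosed_of_mem_irreducibleComponents u hu
  obtain ⟨c, hc⟩ := QuasiSober.sober hu1 hu2
  have hcx : c ⤳ x := by
    rw [specializes_iff_mem_closure, hc]
    exact hxu (subset_closure rfl)
  have h1 : x = c := eq_of_specializes (fin X) hcx (by
    have h2 := pdim_add_codim X x
    have h3 := pdim_le_dim (fin X) c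
    omega)
  have hc' : closure {c} = u := hc
  rw [h1, hc']
  exact hu

theorem finite_codim_zero (X : Obj V) : {x : X.scheme | WeilCoh.codim X.scheme x = 0}.Finite := by
  have := noeth X
  refine Set.Finite.of_finite_image
    (NoetherianSpace.finite_irreducibleComponents.subset (?_ : (fun x => closure {x}) '' _ ⊆ _)) ?_
  · rintro _ ⟨x, hx, rfl⟩
    exact closure_mem_irreducibleComponents X x hx
  · intro x _ y _ h
    have h2 : Inseparable x y := by rw [inseparable_iff_closure_eq]; exact h
    exact h2.eq

/-- The interior of the closure of a point. -/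
def nb (X : Obj V) (x : X.scheme) : X.scheme.Opens := ⟨interior (closure {x}), isOpen_interior⟩

theorem mem_nb (X : Obj V) (x : X.scheme) (hx : WeilCoh.codim X.scheme x = 0) : x ∈ nb X x := by
  have := noeth X
  obtain ⟨o, ho, ⟨y, hy⟩, hsub⟩ := NoetherianSpace.exists_isOpen_nonempty_subset_irreducibleComponent
    _ (closure_mem_irreducibleComponents X x hx)
  have h1 : x ⤳ y := specializes_iff_mem_closure.2 (hsub hy)
  have h2 : x ∈ o := h1.mem_open ho hy
  exact interior_maximal hsub ho h2

omit [IsConstructible V] in
theorem nb_le (X : Obj V) (x : X.scheme) : (nb X x : Set X.scheme) ⊆ closure {x} := interior_subset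

theorem nb_disjoint (X : Obj V) {x y : X.scheme} (hx : WeilCoh.codim X.scheme x = 0)
    (hy : WeilCoh.codim X.scheme y = 0) (hne : x ≠ y) : Disjoint (nb X x : Set X.scheme) (nb X y) := by
  rw [Set.disjoint_left]
  intro z hzx hzy
  have h1 : x ⤳ z := specializes_iff_mem_closure.2 (nb_le X x hzx)
  have h2 : x ∈ nb X y := h1.mem_open (nb X y).isOpen hzy
  have h3 : y ⤳ x := specializes_iff_mem_closure.2 (nb_le X y h2)
  refine hne (eq_of_specializes (fin X) h3 ?_)
  have := pdim_add_codim X x
  have := pdim_add_codim X y
  omega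

theorem eq_of_mem_nb (X : Obj V) {x y : X.scheme} (hy : WeilCoh.codim X.scheme y = 0)
    (h : y ∈ nb X x) : y = x := by
  have h3 : x ⤳ y := specializes_iff_mem_closure.2 (nb_le X x h)
  refine eq_of_specializes (fin X) h3 ?_
  have := pdim_add_codim X y
  have := pdim_le_dim (fin X) x
  omega

/-- The dimension of an open containing a point of codimension zero. -/
theorem dim_res_eq (X : Obj V) (U : X.scheme.Opens) (x : X.scheme)
    (hx : WeilCoh.codim X.scheme x = 0) (hU : x ∈ U) :
    WeilCoh.dim (U : Scheme.{u}) = WeilCoh.dim X.scheme :=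
  dim_immersion_eq (S := X.res U) (X := X) U.ι ⟨x, hU⟩ hx

theorem dim_res_eq_of_contains (X : Obj V) (U : X.scheme.Opens) (hU : ContainsFj X 0 U) :
    WeilCoh.dim (U : Scheme.{u}) = WeilCoh.dim X.scheme := by
  cases isEmpty_or_nonempty X.scheme with
  | inl h =>
    have h1 : IsEmpty (U : Scheme.{u}) := ⟨fun y => h.elim (U.ι y)⟩
    rw [dim_eq_of_isEmpty, dim_eq_of_isEmpty]
  | inr h =>
    obtain ⟨x, hx⟩ := exists_codim_zero X
    exact dim_res_eq X U x hx (hU x hx.le)

theorem dim_res_eq_of_containsFj (X : Obj V) (j : ℕ) (U : X.scheme.Opens)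
    (hU : ContainsFj X j U) : WeilCoh.dim (U : Scheme.{u}) = WeilCoh.dim X.scheme :=
  dim_res_eq_of_contains X U (containsFj_mono X (Nat.zero_le j) U hU)

/-- The index of an open containing the points of codimension at most `j`. -/
def mkIdx (X : Obj V) (j : ℕ) (U : X.scheme.Opens) (hU : ContainsFj X j U) :
    Idx X (ContainsFj X j) := ⟨U, hU, dim_res_eq_of_containsFj X j U hU⟩

/-- The reduced closed subscheme on a closed set, as an object. -/
noncomputable def clo (X : Obj V) (C : Set X.scheme) (hC : IsClosed C) : Obj V :=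
  ⟨(Scheme.IdealSheafData.vanishingIdeal (X := X.scheme) ⟨C, hC⟩).subscheme,
    IsConstructible.of_isClosedImmersion
      (Scheme.IdealSheafData.vanishingIdeal (X := X.scheme) ⟨C, hC⟩).subschemeι X.mem⟩

/-- Its closed immersion. -/
noncomputable def cloι (X : Obj V) (C : Set X.scheme) (hC : IsClosed C) :
    (clo X C hC).scheme ⟶ X.scheme :=
  (Scheme.IdealSheafData.vanishingIdeal (X := X.scheme) ⟨C, hC⟩).subschemeι

instance (X : Obj V) (C : Set X.scheme) (hC : IsClosed C) : IsClosedImmersion (cloι X C hC) :=
  inferInstanceAs (IsClosedImmersion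
    (Scheme.IdealSheafData.vanishingIdeal (X := X.scheme) ⟨C, hC⟩).subschemeι)

instance (X : Obj V) (C : Set X.scheme) (hC : IsClosed C) : IsReduced (clo X C hC).scheme :=
  isReduced_subscheme_vanishingIdeal _

theorem range_cloι (X : Obj V) (C : Set X.scheme) (hC : IsClosed C) :
    Set.range (cloι X C hC) = C := by
  have h1 := Scheme.IdealSheafData.range_subschemeι
    (Scheme.IdealSheafData.vanishingIdeal (X := X.scheme) ⟨C, hC⟩)
  have h2 := Scheme.IdealSheafData.coe_support_vanishingIdeal (X := X.scheme) (Z := ⟨C, hC⟩)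
  exact h1.trans h2

/-- The decomposition of an object given by an open of full dimension. -/
noncomputable def dec (X : Obj V) (U : X.scheme.Opens)
    (hU : WeilCoh.dim (U : Scheme.{u}) = WeilCoh.dim X.scheme) : Decomp X where
  Z := clo X (U : Set X.scheme)ᶜ U.isOpen.isClosed_compl
  U := X.res U
  i := cloι X _ _
  closedImm := inferInstance
  j := X.resι U hU
  range_eq := by
    rw [range_cloι, compl_compl]
    exact U.range_ι

/-- The empty object. -/
def emp (X : Obj V) : Obj V := X.res ⊥

end K876.Geom
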