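import Groth.Agent.BMCoh.K876.Colim

/-!
# Gysin sequences: flexible forms, the empty object, disjoint unions, restriction of decompositions
-/

set_option autoImplicit false
set_option linter.unusedSectionVars false
universe u

open TopologicalSpace Topology AlgebraicGeometry CategoryTheory BMCoh Opposite CategoryTheory.Limits

namespace K876.Gysin

open K876.Dim K876.Geom K876.Colim

variable {V : ObjectProperty Scheme.{u}} [IsConstructible V] {R : Type u} [CommRing R] {A : Coefs R}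
variable (T : PreTheory V R A)

/-- Push-forward of classes. -/
abbrev ps {X Y : Obj V} (f : X.scheme ⟶ Y.scheme) [IsProper f] {M : A.Cat} {i n i' n' : ℤ}
    (hi : i' = i + 2 * relCodim X.scheme Y.scheme) (hn : n' = n + relCodim X.scheme Y.scheme)
    (a : T.gp X M i n) : T.gp Y M i' n' := (T.push f M i n i' n' hi hn).hom a

/-- Residue of classes. -/
abbrev rd {X : Obj V} (D : Decomp X) {M : A.Cat} {i n i' n' : ℤ}
    (hi : i' = i + 1 - 2 * D.codim) (hn : n' = n - D.codim)
    (a : T.gp D.U M i n) : T.gp D.Z M i' n' := (T.res D M i n i' n' hi hn).hom a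

omit [IsConstructible V] in
theorem relCodim_hom {X Y : Obj V} (g : X ⟶ Y) : relCodim X.scheme Y.scheme = 0 := by
  unfold relCodim
  rw [g.dim_eq]
  exact sub_self _

theorem ps_comp {X Y Z : Obj V} (f : X.scheme ⟶ Y.scheme) (g : Y.scheme ⟶ Z.scheme)
    [IsProper f] [IsProper g] (h : X.scheme ⟶ Z.scheme) [IsProper h] (hh : f ≫ g = h)
    {M : A.Cat} {i n i' n' i'' n'' : ℤ}
    (hi : i' = i + 2 * relCodim X.scheme Y.scheme) (hn : n' = n + relCodim X.scheme Y.scheme)
    (hi' : i'' = i' + 2 * relCodim Y.scheme Z.scheme) (hn' : n'' = n' + relCodim Y.scheme Z.scheme)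
    (hi'' : i'' = i + 2 * relCodim X.scheme Z.scheme) (hn'' : n'' = n + relCodim X.scheme Z.scheme)
    (a : T.gp X M i n) : ps T g hi' hn' (ps T f hi hn a) = ps T h hi'' hn'' a := by
  subst hh
  have := congrArg (fun φ => φ.hom a) (T.push_comp f g M i n i' n' i'' n'' hi hn hi' hn' hi'' hn'')
  exact this

theorem ps_id {X : Obj V} {M : A.Cat} {i n : ℤ}
    (hi : i = i + 2 * relCodim X.scheme X.scheme) (hn : n = n + relCodim X.scheme X.scheme)
    (a : T.gp X M i n) : ps T (𝟙 X.scheme) hi hn a = a := by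
  have := congrArg (fun φ => φ.hom a) (T.push_id X M i n hi hn)
  exact this

/-- Cartesian squares from ranges. -/
theorem isPullback_of_range {X Y X' Y' : Obj V} (f : X.scheme ⟶ Y.scheme)
    (f' : X'.scheme ⟶ Y'.scheme) (g : Y' ⟶ Y) (g' : X' ⟶ X) (h : g'.hom ≫ f = f' ≫ g.hom)
    (hr : f ⁻¹' Set.range g.hom ⊆ Set.range g'.hom) : IsPullback g'.hom f' f g.hom := by
  refine (IsOpenImmersion.isPullback f' g'.hom g.hom f h ?_).flip
  apply TopologicalSpace.Opens.ext
  refine Set.Subset.antisymm hr ?_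
  rintro _ ⟨x, rfl⟩
  change f (g'.hom x) ∈ Set.range g.hom
  rw [← Scheme.Hom.comp_apply, h]
  exact ⟨f' x, rfl⟩

theorem rs_ps {X Y X' Y' : Obj V} (f : X.scheme ⟶ Y.scheme) [IsProper f]
    (f' : X'.scheme ⟶ Y'.scheme) [IsProper f'] (g : Y' ⟶ Y) (g' : X' ⟶ X)
    (h : g'.hom ≫ f = f' ≫ g.hom) (hr : f ⁻¹' Set.range g.hom ⊆ Set.range g'.hom)
    {M : A.Cat} {i n i' n' : ℤ}
    (hi : i' = i + 2 * relCodim X.scheme Y.scheme) (hn : n' = n + relCodim X.scheme Y.scheme)
    (hi' : i' = i + 2 * relCodim X'.scheme Y'.scheme)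
    (hn' : n' = n + relCodim X'.scheme Y'.scheme) (a : T.gp X M i n) :
    rs T g (ps T f hi hn a) = ps T f' hi' hn' (rs T g' a) := by
  have := congrArg (fun φ => φ.hom a)
    (T.push_pull f f' g g' (isPullback_of_range f f' g g' h hr) M i n i' n' hi hn hi' hn')
  exact this

theorem rd_rs {X X' : Obj V} (D : Decomp X) (D' : Decomp X') (g : X' ⟶ X) (gZ : D'.Z ⟶ D.Z)
    (gU : D'.U ⟶ D.U) (h1 : gZ.hom ≫ D.i = D'.i ≫ g.hom) (h2 : gU ≫ D.j = D'.j ≫ g)
    {M : A.Cat} {i n i' n' : ℤ} (hi : i' = i + 1 - 2 * D.codim) (hn : n' = n - D.codim)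
    (hi' : i' = i + 1 - 2 * D'.codim) (hn' : n' = n - D'.codim) (a : T.gp D.U M i n) :
    rs T gZ (rd T D hi hn a) = rd T D' hi' hn' (rs T gU a) := by
  have := congrArg (fun φ => φ.hom a) (T.res_pull D D' g gZ gU h1 h2 M i n i' n' hi hn hi' hn')
  exact this

/-! ### Exactness -/

theorem rd_rs_j {X : Obj V} (D : Decomp X) {M : A.Cat} {i n i' n' : ℤ}
    (hi : i' = i + 1 - 2 * D.codim) (hn : n' = n - D.codim) (a : T.gp X M i n) :
    rd T D hi hn (rs T D.j a) = 0 :=
  (T.exact_pull_res D M i n i' n' hi hn).apply_apply_eq_zero a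

theorem exists_of_rd_eq_zero {X : Obj V} (D : Decomp X) {M : A.Cat} {i n i' n' : ℤ}
    (hi : i' = i + 1 - 2 * D.codim) (hn : n' = n - D.codim) (a : T.gp D.U M i n)
    (h : rd T D hi hn a = 0) : ∃ b : T.gp X M i n, rs T D.j b = a :=
  (T.exact_pull_res D M i n i' n' hi hn a).1 h

theorem rs_j_ps {X : Obj V} (D : Decomp X) {M : A.Cat} {i n i' n' : ℤ}
    (hi : i' = i + 2 * relCodim D.Z.scheme X.scheme) (hn : n' = n + relCodim D.Z.scheme X.scheme)
    (a : T.gp D.Z M i n) : rs T D.j (ps T D.i hi hn a) = 0 := by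
  obtain ⟨k, rfl⟩ : ∃ k, i' = k + 1 := ⟨i' - 1, by ring⟩
  exact (T.exact_push_pull D M k n' i n hi hn).apply_apply_eq_zero a

theorem exists_of_rs_j_eq_zero {X : Obj V} (D : Decomp X) {M : A.Cat} {i n i' n' : ℤ}
    (hi : i' = i + 2 * relCodim D.Z.scheme X.scheme) (hn : n' = n + relCodim D.Z.scheme X.scheme)
    (a : T.gp X M i' n') (h : rs T D.j a = 0) : ∃ b : T.gp D.Z M i n, ps T D.i hi hn b = a := by
  obtain ⟨k, rfl⟩ : ∃ k, i' = k + 1 := ⟨i' - 1, by ring⟩
  exact (T.exact_push_pull D M k n' i n hi hn a).1 h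

theorem ps_rd {X : Obj V} (D : Decomp X) {M : A.Cat} {i n i' n' i'' : ℤ}
    (hi : i' = i + 1 - 2 * D.codim) (hn : n' = n - D.codim) (h1 : i'' = i + 1)
    (hi' : i'' = i' + 2 * relCodim D.Z.scheme X.scheme)
    (hn' : n = n' + relCodim D.Z.scheme X.scheme) (a : T.gp D.U M i n) :
    ps T D.i hi' hn' (rd T D hi hn a) = 0 := by
  subst h1
  exact (T.exact_res_push D M i n i' n' hi hn hi' hn').apply_apply_eq_zero a

theorem exists_of_ps_eq_zero {X : Obj V} (D : Decomp X) {M : A.Cat} {i n i' n' i'' : ℤ}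
    (hi : i' = i + 1 - 2 * D.codim) (hn : n' = n - D.codim) (h1 : i'' = i + 1)
    (hi' : i'' = i' + 2 * relCodim D.Z.scheme X.scheme)
    (hn' : n = n' + relCodim D.Z.scheme X.scheme) (b : T.gp D.Z M i' n')
    (h : ps T D.i hi' hn' b = 0) : ∃ a : T.gp D.U M i n, rd T D hi hn a = b := by
  subst h1
  exact (T.exact_res_push D M i n i' n' hi hn hi' hn' b).1 h

/-! ### The empty object -/

theorem eq_zero_of_isEmpty {X : Obj V} (h : IsEmpty X.scheme) {M : A.Cat} {i n : ℤ}
    (a : T.gp X M i n) : a = 0 := by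
  let D : Decomp X :=
    { Z := X, U := X, i := 𝟙 _, closedImm := inferInstance, j := 𝟙 X
      range_eq := by
        ext x
        exact h.elim x }
  have h0 : relCodim X.scheme X.scheme = 0 := relCodim_hom (𝟙 X)
  have h1 := rs_j_ps T D (M := M) (i := i) (n := n) (i' := i) (n' := n)
    (by change i = i + 2 * relCodim X.scheme X.scheme; rw [h0]; ring)
    (by change n = n + relCodim X.scheme X.scheme; rw [h0]; ring) a
  have h2 : ps T D.i (by change i = i + 2 * relCodim X.scheme X.scheme; rw [h0]; ring)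
    (by change n = n + relCodim X.scheme X.scheme; rw [h0]; ring) a = a := ps_id T _ _ a
  rw [h2] at h1
  have h3 : rs T D.j a = a := rs_id T X a
  rw [← h3]
  exact h1

/-! ### Two complementary opens -/

theorem isClosedImmersion_of_compl {X W : Obj V} (f : X ⟶ W) (S : Set W.scheme) (hS : IsOpen S)
    (h : Set.range f.hom = Sᶜ) : IsClosedImmersion f.hom :=
  IsClosedImmersion.of_isPreimmersion f.hom (by rw [h]; exact hS.isClosed_compl)

/-- The decomposition of an object into two complementary pieces of full dimension. -/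
def decTwo {X Y W : Obj V} (iX : X ⟶ W) (iY : Y ⟶ W)
    (h : Set.range iX.hom = (Set.range iY.hom)ᶜ) : Decomp W where
  Z := X
  U := Y
  i := iX.hom
  closedImm := isClosedImmersion_of_compl iX _ iY.hom.isOpenEmbedding.isOpen_range h
  j := iY
  range_eq := by rw [h, compl_compl]

theorem rs_ps_self {X W : Obj V} (f : X ⟶ W) [IsProper f.hom] {M : A.Cat} {i n : ℤ}
    (hi : i = i + 2 * relCodim X.scheme W.scheme) (hn : n = n + relCodim X.scheme W.scheme)
    (a : T.gp X M i n) : rs T f (ps T f.hom hi hn a) = a := by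
  have h0 : relCodim X.scheme X.scheme = 0 := relCodim_hom (𝟙 X)
  rw [rs_ps T f.hom (𝟙 X.scheme) f (𝟙 X) rfl (fun x _ => ⟨x, rfl⟩) hi hn
    (by rw [h0]; ring) (by rw [h0]; ring), rs_id, ps_id]

theorem eq_zero_of_two {X Y W : Obj V} (iX : X ⟶ W) (iY : Y ⟶ W)
    (h : Set.range iX.hom = (Set.range iY.hom)ᶜ) {M : A.Cat} {i n : ℤ} (a : T.gp W M i n)
    (hX : rs T iX a = 0) (hY : rs T iY a = 0) : a = 0 := by
  have h0 : relCodim X.scheme W.scheme = 0 := relCodim_hom iX
  let D := decTwo iX iY h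
  obtain ⟨b, hb⟩ := exists_of_rs_j_eq_zero T D (M := M) (i := i) (n := n) (i' := i) (n' := n)
    (by change i = i + 2 * relCodim X.scheme W.scheme; rw [h0]; ring)
    (by change n = n + relCodim X.scheme W.scheme; rw [h0]; ring) a hY
  have : IsProper iX.hom := by
    have : IsClosedImmersion iX.hom := D.closedImm
    infer_instance
  have h1 : rs T iX (ps T iX.hom _ _ b) = b := rs_ps_self T iX
    (by rw [h0]; ring) (by rw [h0]; ring) b
  have h2 : ps T iX.hom (by rw [h0]; ring) (by rw [h0]; ring) b = a := hb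
  rw [h2, hX] at h1
  rw [← h2, ← h1]
  exact map_zero _

end K876.Gysin
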