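import Groth.Agent.BMCoh.K876.ExactRes

/-!
# The group of `F_0 X` for a reduced object
-/

set_option autoImplicit false
set_option linter.unusedSectionVars false
universe u

open TopologicalSpace Topology AlgebraicGeometry CategoryTheory BMCoh Opposite CategoryTheory.Limits

namespace K876.LevelZero

open K876.Dim K876.Geom K876.Colim K876.Gysin K876.Union K876.Restr K876.Points K876.PushUniq
  K876.ResComp K876.Ext K876.PtVan K876.NegVan K876.FjBij K876.GenClass K876.PushTot K876.Rep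
  K876.ExactRes

variable {V : ObjectProperty Scheme.{u}} [IsConstructible V] {R : Type u} [CommRing R] {A : Coefs R}
variable (T : PreTheory V R A)

theorem tot_surjective {X : Obj V} [IsReduced X.scheme] (P : T.PushData X 0) {M : A.Cat}
    {i n i' n' : ℤ} (hi : i' = i + 2 * ((0 : ℕ) : ℤ)) (hn : n' = n + ((0 : ℕ) : ℤ))
    (ξ : T.fjGp X 0 M i' n') : ∃ η, (P.tot M i n i' n' hi hn).hom η = ξ := by
  obtain ⟨U, hU, a, rfl⟩ := fj_rep T ξ
  have hi0 : i = i' := by rw [hi]; simp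
  have hn0 : n = n' := by rw [hn]; simp
  subst hi0
  subst hn0
  let Y := X.res U
  let e : Y ⟶ X := X.resι U (dim_res_eq_of_containsFj X 0 U hU)
  have hYr : IsReduced Y.scheme := inferInstance
  have hd : WeilCoh.dim Y.scheme + 0 = WeilCoh.dim X.scheme := e.dim_eq
  have hc : relCodim Y.scheme Y.scheme = 0 := relCodim_hom (𝟙 Y)
  obtain ⟨η, hη⟩ := exists_val T (Z := Y) (X := X) (j := 0) (𝟙 Y.scheme ≫ e.hom) hd a
  refine ⟨η, ?_⟩
  rw [tot_val T P e (containsFj_range X U hU _) (𝟙 Y.scheme) hd hi hn (by rw [hc]; ring)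
    (by rw [hc]; ring) a η hη]
  congr 1
  exact ps_id T _ _ a

/-- The values of a class vanishing on an open containing the generic points are zero. -/
theorem val_eq_zero {Z X : Obj V} [IsReduced Z.scheme] {j : ℕ} (f : Z.scheme ⟶ X.scheme)
    [IsImmersion f] (hd : WeilCoh.dim Z.scheme + j = WeilCoh.dim X.scheme) {M : A.Cat} {i n : ℤ}
    (c : T.gp Z M i n) (η : T.ptSum X j M i n) (h : Val T f c η)
    (U : Z.scheme.Opens) (hU : ContainsFj Z 0 U)
    (hc : rs T (Z.resι U (dim_res_eq_of_contains Z U hU)) c = 0) : η = 0 := by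
  refine DFinsupp.ext fun x => ?_
  change η x = 0
  by_cases hx : x.1 ∈ Set.range f
  · obtain ⟨z, hz⟩ := exists_gpt f hd x hx
    obtain rfl : x = gim f hd z := Subtype.ext hz.symm
    have hzN : z.1 ∈ nb Z z.1 ⊓ U := ⟨mem_nb Z z.1 z.2, hU z.1 z.2.le⟩
    obtain ⟨w, hw⟩ := exists_piece f z.1 (nb Z z.1 ⊓ U) inf_le_left hzN
    have hwn := nonempty_range_of_mem hzN w
    have hdN := dim_res_eq Z _ z.1 z.2 hzN
    rw [h.at_pt (gim f hd z) _ (Z.resι (nb Z z.1 ⊓ U) hdN) w hwn hw]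
    have h1 : Z.resLE (show nb Z z.1 ⊓ U ≤ U from inf_le_right)
        (hdN.trans (dim_res_eq_of_contains Z U hU).symm) ≫
          Z.resι U (dim_res_eq_of_contains Z U hU) = Z.resι (nb Z z.1 ⊓ U) hdN :=
      BMCoh.Hom.ext (Scheme.homOfLE_ι Z.scheme (show nb Z z.1 ⊓ U ≤ U from inf_le_right))
    rw [← h1, rs_comp, hc, rs_zero]
    exact oc_zero T _ _ _
  · exact h.off x hx

theorem tot_injective {X : Obj V} (P : T.PushData X 0) {M : A.Cat}
    {i n i' n' : ℤ} (hi : i' = i + 2 * ((0 : ℕ) : ℤ)) (hn : n' = n + ((0 : ℕ) : ℤ))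
    [IsReduced X.scheme]
    (η : T.ptSum X 0 M i n) (h : (P.tot M i n i' n' hi hn).hom η = 0) : η = 0 := by
  by_contra hη0
  have hi0 : i = i' := by rw [hi]; simp
  have hn0 : n = n' := by rw [hn]; simp
  subst hi0
  subst hn0
  obtain ⟨Z, Y, hZr, e, he, ι, hι, hd, c, hval, hoff⟩ := exists_rep T η hη0
  have hdY : WeilCoh.dim Z.scheme + 0 = WeilCoh.dim Y.scheme := hd.trans e.dim_eq.symm
  have hc : relCodim Z.scheme Y.scheme = 0 := codim_eq_of_dim hdY
  have hi3 : i = i + 2 * relCodim Z.scheme Y.scheme := by rw [hc]; ring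
  have hn3 : n = n + relCodim Z.scheme Y.scheme := by rw [hc]; ring
  rw [tot_val T P e he ι hd hi hn hi3 hn3 c η hval] at h
  obtain ⟨U, hU, k, hk, h0⟩ := fj_eq_zero T e he _ h
  have h0' : rs T (Y.resι k.hom.opensRange (dim_range k)) (ps T ι hi3 hn3 c) = 0 :=
    rs_range_eq_zero T k _ h0
  -- shrink to an open on which `ι` is an open immersion
  have hYr : IsReduced Y.scheme := isReduced_of_isOpenImmersion e.hom
  -- the open of `Z` over which everything happens
  let O := k.hom.opensRange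
  have hmemO : ∀ y : Y.scheme, WeilCoh.codim Y.scheme y ≤ 0 → y ∈ O := by
    intro y hy
    have h1 : e.hom y ∈ U := hU _ (by rw [← codim_hom e]; exact hy)
    refine ⟨lp X U _ h1, ?_⟩
    apply e.hom.isOpenEmbedding.injective
    exact congrArg (fun φ => φ.hom (lp X U _ h1)) hk
  refine hη0 ?_
  -- it suffices to find an open of `Z` containing the generic points on which `c` vanishes
  have key : ∀ z : Z.scheme, WeilCoh.codim Z.scheme z = 0 → ∃ (N : Z.scheme.Opens)
      (hN : WeilCoh.dim (N : Scheme.{u}) = WeilCoh.dim Z.scheme),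
      z ∈ N ∧ rs T (Z.resι N hN) c = 0 := by
    intro z hz
    have hy0 : WeilCoh.codim Y.scheme (ι z) = 0 := by
      have := codim_add ι 0 hdY z
      omega
    -- neighbourhood of `ι z` in `Y`, contained in `O` and in the interior of its closure
    let B := nb Y (ι z) ⊓ O
    have hzB : ι z ∈ B := ⟨mem_nb Y _ hy0, hmemO _ hy0.le⟩
    have hBι : (B : Set Y.scheme) ⊆ Set.range ι := by
      intro y hy
      have h1 : y ∈ closure {ι z} := nb_le Y _ hy.1
      have h2 : ({ι z} : Set Y.scheme) ⊆ Set.range ι :=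
        Set.singleton_subset_iff.2 (Set.mem_range_self z)
      exact closure_minimal h2 ι.isClosedEmbedding.isClosed_range h1
    have hdB := dim_res_eq Y B (ι z) hy0 hzB
    have hzN : z ∈ ι ⁻¹ᵁ B := hzB
    have hdN := dim_res_eq Z _ z hz hzN
    refine ⟨ι ⁻¹ᵁ B, hdN, hzN, ?_⟩
    -- `ι ∣_ B` is an isomorphism
    have hsurj : AlgebraicGeometry.Surjective (ι ∣_ B) := ⟨fun y => by
      obtain ⟨t, ht⟩ := hBι y.2
      have htB : t ∈ ι ⁻¹ᵁ B := by
        change ι t ∈ B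
        rw [ht]; exact y.2
      refine ⟨lp Z (ι ⁻¹ᵁ B) t htB, ?_⟩
      apply B.ι.isOpenEmbedding.injective
      have h2 : B.ι ((ι ∣_ B) (lp Z (ι ⁻¹ᵁ B) t htB)) = ι t :=
        congrArg (fun φ => φ (lp Z (ι ⁻¹ᵁ B) t htB)) (morphismRestrict_ι ι B)
      exact h2.trans ht⟩
    have hBr : IsReduced (B : Scheme.{u}) := isReduced_of_isOpenImmersion B.ι
    have hiso : IsIso (ι ∣_ B) := isIso_of_isClosedImmersion_of_surjective (ι ∣_ B)
    have hcomp : (ι ∣_ B) ≫ B.ι = (ι ⁻¹ᵁ B).ι ≫ ι := morphismRestrict_ι _ _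
    have hcB : relCodim (Z.res (ι ⁻¹ᵁ B)).scheme (Y.res B).scheme = 0 := by
      unfold relCodim
      rw [show WeilCoh.dim (Z.res (ι ⁻¹ᵁ B)).scheme = WeilCoh.dim Z.scheme from hdN,
        show WeilCoh.dim (Y.res B).scheme = WeilCoh.dim Y.scheme from hdB]
      omega
    have e1 : rs T (Y.resι B hdB) (ps T ι hi3 hn3 c) =
        ps T (X := Z.res (ι ⁻¹ᵁ B)) (Y := Y.res B) (ι ∣_ B) (by rw [hcB]; ring)
          (by rw [hcB]; ring) (rs T (Z.resι (ι ⁻¹ᵁ B) hdN) c) := by
      refine rs_ps T ι (X' := Z.res (ι ⁻¹ᵁ B)) (Y' := Y.res B) (ι ∣_ B) (Y.resι B hdB)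
        (Z.resι (ι ⁻¹ᵁ B) hdN) hcomp.symm ?_ hi3 hn3 _ _ c
      intro t ht
      have h1 : ι t ∈ Set.range B.ι := ht
      rw [Scheme.Opens.range_ι] at h1
      change t ∈ Set.range (ι ⁻¹ᵁ B).ι
      rw [Scheme.Opens.range_ι]
      exact h1
    have e2 : rs T (Y.resι B hdB) (ps T ι hi3 hn3 c) = 0 := by
      have h1 : Y.resLE (show B ≤ O from inf_le_right) (hdB.trans (dim_range k).symm) ≫
          Y.resι O (dim_range k) = Y.resι B hdB :=
        BMCoh.Hom.ext (Scheme.homOfLE_ι Y.scheme (show B ≤ O from inf_le_right))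
      rw [← h1, rs_comp]
      refine (congrArg _ h0').trans ?_
      exact rs_zero T _
    rw [e2] at e1
    -- push forward along the inverse
    have hcB' : relCodim (Y.res B).scheme (Z.res (ι ⁻¹ᵁ B)).scheme = 0 := by
      unfold relCodim at hcB ⊢
      omega
    have e3 := ps_comp T (X := Z.res (ι ⁻¹ᵁ B)) (Y := Y.res B) (Z := Z.res (ι ⁻¹ᵁ B)) (ι ∣_ B)
      (inv (ι ∣_ B)) (𝟙 _) (IsIso.hom_inv_id _) (M := M) (i := i) (n := n) (i' := i) (n' := n)
      (i'' := i) (n'' := n) (by rw [hcB]; ring) (by rw [hcB]; ring) (by rw [hcB']; ring)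
      (by rw [hcB']; ring) (by rw [relCodim_hom (𝟙 (Z.res (ι ⁻¹ᵁ B)))]; ring)
      (by rw [relCodim_hom (𝟙 (Z.res (ι ⁻¹ᵁ B)))]; ring) (rs T (Z.resι (ι ⁻¹ᵁ B) hdN) c)
    rw [← e1, ps_zero] at e3
    rw [e3]
    exact (ps_id T (X := Z.res (ι ⁻¹ᵁ B)) _ _ _).symm
  obtain ⟨N, hN, h1⟩ := exists_vanish T Z c key
  exact val_eq_zero T (ι ≫ e.hom) hd c η hval N hN h1

end K876.LevelZero
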