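import Groth.Agent.BMCoh.K876.PtVan

/-!
# Vanishing in negative degrees for reduced objects
-/

set_option autoImplicit false
set_option linter.unusedSectionVars false
universe u

open TopologicalSpace Topology AlgebraicGeometry CategoryTheory BMCoh Opposite CategoryTheory.Limits

namespace K876.NegVan

open K876.Dim K876.Geom K876.Colim K876.Gysin K876.Union K876.Restr K876.Points K876.PushUniq
  K876.ResComp K876.Ext K876.PtVan

variable {V : ObjectProperty Scheme.{u}} [IsConstructible V] {R : Type u} [CommRing R] {A : Coefs R}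

theorem eq_zero_of_isZero {M : ModuleCat.{u} R} (h : IsZero M) (a : M) : a = 0 := by
  have := ModuleCat.subsingleton_of_isZero h
  exact Subsingleton.elim _ _

theorem isZero_of_eq_zero {M : ModuleCat.{u} R} (h : ∀ a : M, a = 0) : IsZero M := by
  have : Subsingleton M := ⟨fun a b => by rw [h a, h b]⟩
  exact ModuleCat.isZero_of_subsingleton M

theorem le_relCodim {Z X : Obj V} (f : Z.scheme ⟶ X.scheme) [IsImmersion f] [Nonempty Z.scheme]
    (m : ℕ) (h : ∀ z : Z.scheme, m ≤ WeilCoh.codim X.scheme (f z)) :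
    (m : ℤ) ≤ relCodim Z.scheme X.scheme := by
  obtain ⟨z, hz⟩ := exists_codim_zero Z
  have h1 := h z
  have h2 := pdim_add_codim X (f z)
  have h3 := pdim_immersion f z
  have h4 := pdim_add_codim Z z
  unfold relCodim
  omega

variable (T : TheoryOn V R A)

theorem neg_vanish : ∀ (d : ℕ) (Z : Obj V) [IsReduced Z.scheme], WeilCoh.dim Z.scheme ≤ d →
    ∀ (M : A.Cat) (i n : ℤ), i < 0 → ∀ c : T.gp Z M i n, c = 0 := by
  intro d
  induction d with
  | zero =>
    intro Z _ hd M i n hi c
    obtain ⟨N, hN, h0⟩ := exists_vanish_pt T.toPreTheory (Z := Z) (X := Z) (𝟙 Z.scheme) c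
      (fun z hz w _ => eq_zero_of_isZero (T.pt_vanish Z z M i n hi) _)
    let D := decOf (Z.resι N (dim_res_eq_of_contains Z N hN))
    obtain ⟨b, rfl⟩ := exists_of_rs_j_eq_zero T.toPreTheory D (i := i - 2 * relCodim D.Z.scheme Z.scheme)
      (n := n - relCodim D.Z.scheme Z.scheme) (by ring) (by ring) c h0
    have hb : b = 0 := by
      refine eq_zero_of_isEmpty T.toPreTheory ⟨fun z => ?_⟩ b
      have h1 : D.i z ∉ N := by
        intro h
        refine (not_mem_range_i D _).2 ?_ ⟨z, rfl⟩
        change _ ∈ Set.range N.ι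
        rw [Scheme.Opens.range_ι]
        exact h
      refine h1 (hN _ ?_)
      have := pdim_add_codim Z (D.i z)
      omega
    rw [hb]
    exact ps_zero T.toPreTheory _ _ _
  | succ d ih =>
    intro Z _ hd M i n hi c
    obtain ⟨N, hN, h0⟩ := exists_vanish_pt T.toPreTheory (Z := Z) (X := Z) (𝟙 Z.scheme) c
      (fun z hz w _ => eq_zero_of_isZero (T.pt_vanish Z z M i n hi) _)
    let D := decOf (Z.resι N (dim_res_eq_of_contains Z N hN))
    obtain ⟨b, rfl⟩ := exists_of_rs_j_eq_zero T.toPreTheory D (i := i - 2 * relCodim D.Z.scheme Z.scheme)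
      (n := n - relCodim D.Z.scheme Z.scheme) (by ring) (by ring) c h0
    have hb : b = 0 := by
      cases isEmpty_or_nonempty D.Z.scheme with
      | inl h => exact eq_zero_of_isEmpty T.toPreTheory h b
      | inr h =>
        have h2 : ∀ z, 1 ≤ WeilCoh.codim Z.scheme (D.i z) := by
          intro z
          by_contra hlt
          have h1 : D.i z ∈ N := hN _ (by omega)
          refine (not_mem_range_i D _).2 ?_ ⟨z, rfl⟩
          change _ ∈ Set.range N.ι
          rw [Scheme.Opens.range_ι]
          exact h1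
        have h3 := le_relCodim D.i 1 h2
        refine ih D.Z ?_ M _ _ ?_ b
        · unfold relCodim at h3
          omega
        · push_cast at h3
          omega
    rw [hb]
    exact ps_zero T.toPreTheory _ _ _

/-- The closed part has no cohomology in the relevant negative degrees. -/
theorem neg_vanish_decOf {X S : Obj V} (g : S ⟶ X) (m : ℕ)
    (hm : ∀ x : X.scheme, x ∉ Set.range g.hom → m ≤ WeilCoh.codim X.scheme x)
    (M : A.Cat) (i n : ℤ) (hi : i < 0 ∨ i + 2 * relCodim (decOf g).Z.scheme X.scheme < 2 * m)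
    (c : T.gp (decOf g).Z M i n) : c = 0 := by
  cases isEmpty_or_nonempty (decOf g).Z.scheme with
  | inl h => exact eq_zero_of_isEmpty T.toPreTheory h c
  | inr h =>
    have h3 := le_relCodim (decOf g).i m (fun z => hm _
      ((not_mem_range_j (decOf g) _).2 ⟨z, rfl⟩))
    refine neg_vanish T _ (decOf g).Z le_rfl M i n ?_ c
    omega

theorem pull_injective {X S : Obj V} (g : S ⟶ X) (m : ℕ)
    (hm : ∀ x : X.scheme, x ∉ Set.range g.hom → m ≤ WeilCoh.codim X.scheme x)
    (M : A.Cat) (i n : ℤ) (hi : i < 2 * m) (a : T.gp X M i n) (h : rs T.toPreTheory g a = 0) :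
    a = 0 := by
  obtain ⟨b, rfl⟩ := exists_of_rs_j_eq_zero T.toPreTheory (decOf g)
    (i := i - 2 * relCodim (decOf g).Z.scheme X.scheme)
    (n := n - relCodim (decOf g).Z.scheme X.scheme) (by ring) (by ring) a h
  rw [neg_vanish_decOf T g m hm M _ _ (Or.inr (by omega)) b]
  exact ps_zero T.toPreTheory _ _ _

theorem pull_surjective {X S : Obj V} (g : S ⟶ X) (m : ℕ)
    (hm : ∀ x : X.scheme, x ∉ Set.range g.hom → m ≤ WeilCoh.codim X.scheme x)
    (M : A.Cat) (i n : ℤ) (hi : i + 1 < 2 * m) (a : T.gp S M i n) :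
    ∃ b : T.gp X M i n, rs T.toPreTheory g b = a :=
  exists_of_rd_eq_zero T.toPreTheory (decOf g) (i' := i + 1 - 2 * (decOf g).codim)
    (n' := n - (decOf g).codim) rfl rfl a
    (neg_vanish_decOf T g m hm M _ _ (Or.inr (by
      unfold Decomp.codim
      have : (decOf g).Z.scheme = (decOf g).Z.scheme := rfl
      omega)) _)

end K876.NegVan
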