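import Groth.Agent.BMCoh.K876.PushUniq

/-!
# Computation of residue data
-/

set_option autoImplicit false
set_option linter.unusedSectionVars false
universe u

open TopologicalSpace Topology AlgebraicGeometry CategoryTheory BMCoh Opposite CategoryTheory.Limits

namespace K876.ResComp

open K876.Dim K876.Geom K876.Colim K876.Gysin K876.Union K876.Restr K876.Points K876.PushUniq

variable {V : ObjectProperty Scheme.{u}} [IsConstructible V] {R : Type u} [CommRing R] {A : Coefs R}
variable (T : PreTheory V R A)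

/-- A point of an open. -/
def lp (X : Obj V) (U : X.scheme.Opens) (c : X.scheme) (hc : c ∈ U) : (X.res U).scheme := ⟨c, hc⟩

theorem ι_lp (X : Obj V) (U : X.scheme.Opens) (c : X.scheme) (hc : c ∈ U) :
    U.ι (lp X U c hc) = c := rfl

/-- The decomposition given by a closed immersion whose complement has full dimension. -/
noncomputable abbrev decCl {Y Z : Obj V} (i : Z.scheme ⟶ Y.scheme) [IsClosedImmersion i]
    (O : Y.scheme.Opens) (hO : (O : Set Y.scheme) = (Set.range i)ᶜ)
    (hd : WeilCoh.dim (O : Scheme.{u}) = WeilCoh.dim Y.scheme) : Decomp Y where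
  Z := Z
  U := Y.res O
  i := i
  closedImm := inferInstance
  j := Y.resι O hd
  range_eq := by rw [← hO]; exact O.range_ι

/-- The complement of the closure of `x` in an open. -/
noncomputable def cpl (X : Obj V) (x : X.scheme) (U : X.scheme.Opens) : (X.res U).scheme.Opens :=
  ⟨(Set.range (X.ptSubι x ∣_ U))ᶜ,
    (X.ptSubι x ∣_ U).isClosedEmbedding.isClosed_range.isOpen_compl⟩

theorem mem_cpl (X : Obj V) (x : X.scheme) (U : X.scheme.Opens) (y : (X.res U).scheme) :
    y ∈ cpl X x U ↔ U.ι y ∉ closure {x} := by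
  change (¬ ∃ c, (X.ptSubι x ∣_ U) c = y) ↔ _
  rw [not_iff_not, ← range_ptSubι]
  have h2 : ∀ z, U.ι ((X.ptSubι x ∣_ U) z) = X.ptSubι x ((X.ptSubι x ⁻¹ᵁ U).ι z) := fun z => by
    rw [← Scheme.Hom.comp_apply, morphismRestrict_ι, Scheme.Hom.comp_apply]
  constructor
  · rintro ⟨c, rfl⟩
    exact ⟨_, (h2 c).symm⟩
  · rintro ⟨c, hc⟩
    refine ⟨⟨c, ?_⟩, ?_⟩
    · change X.ptSubι x c ∈ U
      rw [hc]
      exact y.2
    · apply U.ι.isOpenEmbedding.injective
      exact (h2 _).trans hc

theorem dim_cpl (X : Obj V) {j : ℕ} (x : X.scheme) (hj : WeilCoh.codim X.scheme x = j + 1)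
    (U : X.scheme.Opens) (hU : ContainsFj X j U) :
    WeilCoh.dim (cpl X x U : Scheme.{u}) = WeilCoh.dim (X.res U).scheme := by
  have : Nonempty X.scheme := ⟨x⟩
  obtain ⟨c, hc⟩ := exists_codim_zero X
  have hcU : c ∈ U := hU c (by omega)
  refine dim_res_eq (X.res U) _ (lp X U c hcU) ?_ ?_
  · rw [codim_hom (X.resι U (dim_res_eq_of_containsFj X j U hU))]
    exact hc
  · rw [mem_cpl, ι_lp]
    intro h
    have h2 : x ⤳ c := specializes_iff_mem_closure.2 h
    have := pdim_le (fin X) h2
    have := pdim_add_codim X x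
    have := pdim_add_codim X c
    omega

/-- The decomposition of an open into a piece of the closure of `x` and its complement. -/
noncomputable abbrev decPt (X : Obj V) {j : ℕ} (x : X.scheme)
    (hj : WeilCoh.codim X.scheme x = j + 1)
    (U : X.scheme.Opens) (hU : ContainsFj X j U) : Decomp (X.res U) :=
  decCl (Y := X.res U) (Z := (X.ptSub x).res (X.ptSubι x ⁻¹ᵁ U)) (X.ptSubι x ∣_ U) (cpl X x U) rfl
    (dim_cpl X x hj U hU)

theorem containsFj_decPt (X : Obj V) {j : ℕ} (x : X.scheme)
    (hj : WeilCoh.codim X.scheme x = j + 1)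
    (U : X.scheme.Opens) (hU : ContainsFj X j U) :
    ContainsFj X j ((decPt X x hj U hU).j ≫
      X.resι U (dim_res_eq_of_containsFj X j U hU)).hom.opensRange := by
  intro y hy
  have hyU : y ∈ U := hU y hy
  have h1 : lp X U y hyU ∈ cpl X x U := by
    rw [mem_cpl, ι_lp]
    intro h
    have h2 : x ⤳ y := specializes_iff_mem_closure.2 h
    have := pdim_le (fin X) h2
    have := pdim_add_codim X x
    have := pdim_add_codim X y
    omega
  exact ⟨⟨lp X U y hyU, h1⟩, rfl⟩

theorem codim_decPt (X : Obj V) {j : ℕ} (x : X.scheme)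
    (hj : WeilCoh.codim X.scheme x = j + 1)
    (U : X.scheme.Opens) (hU : ContainsFj X j U) (hx : x ∈ U) :
    (decPt X x hj U hU).codim = (j : ℤ) + 1 := by
  have := relCodim_pc X x hj U hx (dim_res_eq_of_containsFj X j U hU)
  rw [Decomp.codim]
  exact this.trans (by push_cast; rfl)

/-- Classes defined at `x` have no residue at `x`. -/
theorem res_zero {X : Obj V} {j : ℕ} (Q : T.ResData X j) (x : X.cdPt (j + 1))
    (U : X.scheme.Opens) (hU : ContainsFj X j U) (hx : x.1 ∈ U)
    {M : A.Cat} {i n i' n' : ℤ} (hi : i' = i + 1 - 2 * ((j : ℤ) + 1)) (hn : n' = n - ((j : ℤ) + 1))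
    (a : T.gp (X.res U) M i n) :
    (Q.cpt x M i n i' n' hi hn).hom (fj T j (X.resι U (dim_res_eq_of_containsFj X j U hU))
      (containsFj_range X U hU _) a) = 0 := by
  have hc := codim_decPt X x.1 x.2 U hU hx
  have h1 := oc_rs T (ContainsFj X j) (decPt X x.1 x.2 U hU).j
    (X.resι U (dim_res_eq_of_containsFj X j U hU)) _ rfl (containsFj_range X U hU _)
    (containsFj_decPt X x.1 x.2 U hU) a
  refine (congrArg _ h1.symm).trans ?_
  refine (res_spec T Q x (X.resι U (dim_res_eq_of_containsFj X j U hU)) (decPt X x.1 x.2 U hU)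
    (pc X x.1 U hx) (pc_ne X x.1 U hx) (𝟙 _) ?_ _ rfl (containsFj_decPt X x.1 x.2 U hU) hi hn
    (by rw [hc]; exact hi) (by rw [hc]; exact hn) _).trans ?_
  · rw [id_hom, Category.id_comp]
    exact morphismRestrict_ι _ _
  · rw [rd_rs_j, rs_zero]
    exact oc_zero T _ _ _

/-- Flexible form. -/
theorem res_zero' {X : Obj V} {j : ℕ} (Q : T.ResData X j) (x : X.cdPt (j + 1)) {S : Obj V}
    (g : S ⟶ X) (hg : ContainsFj X j g.hom.opensRange) (hx : x.1 ∈ Set.range g.hom)
    {M : A.Cat} {i n i' n' : ℤ} (hi : i' = i + 1 - 2 * ((j : ℤ) + 1)) (hn : n' = n - ((j : ℤ) + 1))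
    (a : T.gp S M i n) :
    (Q.cpt x M i n i' n' hi hn).hom (fj T j g hg a) = 0 := by
  have h1 := oc_rs T (ContainsFj X j) (toRange g) g
    (X.resι g.hom.opensRange (dim_res_eq_of_containsFj X j _ hg))
    (BMCoh.Hom.ext (toRange_hom g)) hg (containsFj_range X _ hg _) a
  rw [fj, ← h1]
  exact res_zero T Q x g.hom.opensRange hg hx hi hn _

/-- The decomposition with open part an object over `X` whose complement meets the points of
codimension `j + 1`. -/
theorem dim_decOf {X S : Obj V} {j : ℕ} (g : S ⟶ X) (hg : ContainsFj X j g.hom.opensRange)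
    (x : X.scheme) (hx : WeilCoh.codim X.scheme x = j + 1) (hxg : x ∉ Set.range g.hom) :
    WeilCoh.dim (decOf g).Z.scheme + (j + 1) = WeilCoh.dim X.scheme := by
  obtain ⟨z, hz⟩ := (not_mem_range_j (decOf g) x).1 hxg
  refine dim_add_eq (decOf g).i (j + 1) z (by rw [hz]; exact hx) ?_
  intro t
  by_contra h
  have h1 : (decOf g).i t ∈ Set.range g.hom := hg _ (by omega)
  exact (not_mem_range_i (decOf g) _).2 h1 ⟨t, rfl⟩

theorem codim_eq_of_dim {Z X : Obj V} {k : ℕ} (h : WeilCoh.dim Z.scheme + k = WeilCoh.dim X.scheme) :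
    relCodim Z.scheme X.scheme = (k : ℤ) := by
  unfold relCodim
  omega

end K876.ResComp
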