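import Groth.Agent.BMCoh.K876.PtP
import Groth.Agent.BMCoh.K876.ResComp
import Groth.Agent.VarietyB.NormalizationVar
import Mathlib.AlgebraicGeometry.Morphisms.Proper

/-!
# Push-forward from the normalisation of the closure of a point on groups of points
-/

set_option autoImplicit false
set_option linter.unusedSectionVars false
universe u

open TopologicalSpace Topology AlgebraicGeometry CategoryTheory BMCoh Opposite CategoryTheory.Limits

namespace K876.NormIso

open K876.Dim K876.Geom K876.Colim K876.Gysin K876.Union K876.Restr K876.Points K876.PushUniq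
open K876.PtP K876.ResComp
open Groth.Agent.Ega1.ReducedSub Groth.Agent.VarietyB

/-- A finite normalisation morphism is an isomorphism over a nonempty open. -/
theorem exists_isIso (C : Scheme.{u}) [IsIntegral C]
    [QuasiCompact (C.fromSpecStalk (genericPoint C))]
    [QuasiSeparated (C.fromSpecStalk (genericPoint C))]
    [hfin : IsFinite (Curv2.normalizationι C)] :
    ∃ O : C.Opens, (O : Set C).Nonempty ∧ IsIso (Curv2.normalizationι C ∣_ O) := by
  obtain ⟨U, hU, hxU, -⟩ := exists_isAffineOpen_mem_and_subset (X := C) (x := genericPoint C)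
    (U := ⊤) trivial
  have hne : Nonempty U := ⟨⟨_, hxU⟩⟩
  let := ((NormalizationVar.gen C).app U).hom.toAlgebra
  have hfrac := NormalizationVar.isFractionRing_gen_app C hU
  have h0 : Module.Finite Γ(C, U) (integralClosure Γ(C, U)
        Γ(Spec (C.presheaf.stalk (genericPoint C)), (NormalizationVar.gen C) ⁻¹ᵁ U)) := by
    have h1 : ((NormalizationVar.gen C).fromNormalization.app U).hom.Finite :=
      ((isFinite_iff _).1 hfin).2 U hU
    rw [Scheme.Hom.fromNormalization_app _ hU] at h1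
    have h2 : (CommRingCat.ofHom (algebraMap Γ(C, U) (integralClosure Γ(C, U)
        Γ(Spec (C.presheaf.stalk (genericPoint C)), (NormalizationVar.gen C) ⁻¹ᵁ U)))).hom.Finite := by
      have h3 : CommRingCat.ofHom (algebraMap Γ(C, U) (integralClosure Γ(C, U)
        Γ(Spec (C.presheaf.stalk (genericPoint C)), (NormalizationVar.gen C) ⁻¹ᵁ U))) =
          (CommRingCat.ofHom (algebraMap Γ(C, U) (integralClosure Γ(C, U)
        Γ(Spec (C.presheaf.stalk (genericPoint C)), (NormalizationVar.gen C) ⁻¹ᵁ U))) ≫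
            ((NormalizationVar.gen C).normalizationObjIso hU).inv) ≫
            ((NormalizationVar.gen C).normalizationObjIso hU).hom := by
        rw [Category.assoc, Iso.inv_hom_id, Category.comp_id]
      rw [h3, CommRingCat.hom_comp]
      exact RingHom.Finite.comp (RingHom.Finite.of_surjective _
        ((NormalizationVar.gen C).normalizationObjIso hU).commRingCatIsoToRingEquiv.surjective) h1
    exact h2
  obtain ⟨s, hs0, hs⟩ := NormalizationVar.exists_isIntegrallyClosed_localization Γ(C, U)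
    Γ(Spec (C.presheaf.stalk (genericPoint C)), (NormalizationVar.gen C) ⁻¹ᵁ U)
  have hV : IsAffineOpen (C.basicOpen s) := hU.basicOpen s
  have hVne : (C.basicOpen s : Set C).Nonempty := by
    by_contra h
    rw [Set.not_nonempty_iff_eq_empty] at h
    exact hs0 ((basicOpen_eq_bot_iff s).mp (TopologicalSpace.Opens.ext h))
  refine ⟨C.basicOpen s, hVne, ?_⟩
  have : Nonempty (C.basicOpen s) := hVne.to_subtype
  refine NormalizationVar.isIso_fromNormalization_restrict C _ hV ?_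
  have hloc := hU.isLocalization_basicOpen s
  exact IsIntegrallyClosed.of_equiv
    (IsLocalization.algEquiv (Submonoid.powers s) (Localization.Away s)
      Γ(C, C.basicOpen s)).toRingEquiv

theorem isPullback_restrict_le {X Y : Scheme.{u}} (f : X ⟶ Y) {O O' : Y.Opens} (h : O' ≤ O) :
    IsPullback (X.homOfLE (show f ⁻¹ᵁ O' ≤ f ⁻¹ᵁ O from fun _ hx => h hx)) (f ∣_ O') (f ∣_ O)
      (Y.homOfLE h) := by
  refine IsPullback.of_right (h₁₂ := (f ⁻¹ᵁ O).ι) (h₂₂ := O.ι) (v₁₃ := f) ?_ ?_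
    (isPullback_morphismRestrict f O).flip
  · rw [Scheme.homOfLE_ι, Scheme.homOfLE_ι]
    exact (isPullback_morphismRestrict f O').flip
  · rw [← cancel_mono O.ι, Category.assoc, Category.assoc, morphismRestrict_ι,
      Scheme.homOfLE_ι, morphismRestrict_ι, ← Category.assoc, Scheme.homOfLE_ι]

theorem isIso_restrict {X Y : Scheme.{u}} (f : X ⟶ Y) [hf : IsIso f] (O : Y.Opens) :
    IsIso (f ∣_ O) :=
  (MorphismProperty.isomorphisms Scheme.{u}).of_isPullback (isPullback_morphismRestrict f O).flip hf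

theorem isIso_restrict_le {X Y : Scheme.{u}} (f : X ⟶ Y) {O O' : Y.Opens} (h : O' ≤ O)
    [hO : IsIso (f ∣_ O)] : IsIso (f ∣_ O') :=
  (MorphismProperty.isomorphisms Scheme.{u}).of_isPullback (isPullback_restrict_le f h) hO

variable {V : ObjectProperty Scheme.{u}} [IsConstructible V] {R : Type u} [CommRing R] {A : Coefs R}
variable (T : PreTheory V R A)

omit [IsConstructible V] in
theorem idx0 {c : ℤ} (h : c = 0) (i : ℤ) : i = i + 2 * c := by rw [h]; ring

omit [IsConstructible V] in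
theorem idx1 {c : ℤ} (h : c = 0) (i : ℤ) : i = i + c := by rw [h]; ring

theorem ps_bijective {X Y : Obj V} (f : X.scheme ⟶ Y.scheme) [IsIso f] {M : A.Cat} {i n : ℤ}
    (hi : i = i + 2 * relCodim X.scheme Y.scheme) (hn : n = n + relCodim X.scheme Y.scheme) :
    Function.Bijective (fun a : T.gp X M i n => (ps T f hi hn a : T.gp Y M i n)) := by
  have h0 : ∀ {S S' : Obj V} (g : S.scheme ⟶ S'.scheme) [IsIso g],
      relCodim S.scheme S'.scheme = 0 := by
    intro S S' g _
    unfold relCodim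
    rw [dim_eq_of_iso (asIso g)]
    exact sub_self _
  have hc := h0 f
  have hc' := h0 (inv f)
  have hX := h0 (𝟙 X.scheme)
  have hY := h0 (𝟙 Y.scheme)
  refine Function.bijective_iff_has_inverse.2 ⟨fun b => ps T (inv f) (idx0 hc' i) (idx1 hc' n) b, fun a => ?_, fun b => ?_⟩
  · refine (ps_comp T f (inv f) (𝟙 _) (IsIso.hom_inv_id f) hi hn (idx0 hc' i) (idx1 hc' n) (idx0 hX i) (idx1 hX n) a).trans ?_
    exact ps_id T _ _ a
  · refine (ps_comp T (inv f) f (𝟙 _) (IsIso.inv_hom_id f) (idx0 hc' i) (idx1 hc' n) hi hn (idx0 hY i) (idx1 hY n) b).trans ?_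
    exact ps_id T _ _ b

/-- Push-forward data along a morphism that is an isomorphism near the point. -/
theorem cpt_bijective {Y X : Obj V} {φ : Y.scheme ⟶ X.scheme} [IsProper φ] {y : Y.scheme}
    {x : X.scheme} (L : T.PtPush φ y x) (ψ : (Y.ptSub y).scheme ⟶ (X.ptSub x).scheme) [IsProper ψ]
    (hψ : ψ ≫ X.ptSubι x = Y.ptSubι y ≫ φ) (O₀ : (X.ptSub x).scheme.Opens)
    (hO₀ : (O₀ : Set (X.ptSub x).scheme).Nonempty) [hiso : IsIso (ψ ∣_ O₀)] (M : A.Cat) (i n : ℤ) :
    Function.Bijective (L.cpt M i n).hom := by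
  constructor
  · rw [injective_iff_map_eq_zero]
    intro ξ hξ
    obtain ⟨O, hO, hle, b, rfl⟩ := exists_rep T φ y x L.maps_pt (pdim_eq T L).le ψ hψ ξ O₀ hO₀
    have hc := relCodim_rep T L ψ hψ O hO
    rw [cpt_rep T L ψ hψ O hO (idx0 hc i) (idx1 hc n) b] at hξ
    obtain ⟨U, k, hk, h0⟩ := oc_eq_zero T (dir_ne (X.ptSub x)) _ _ _ hξ
    have hU : U.1 ≤ O := by
      intro c hc
      have h1 := congrArg (fun q => q.hom (lp (X.ptSub x) U.1 c hc)) hk
      have h2 : O.ι (k.hom (lp (X.ptSub x) U.1 c hc)) = c := h1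
      rw [← h2]
      exact (k.hom (lp (X.ptSub x) U.1 c hc)).2
    let kk : (Y.ptSub y).res (ψ ⁻¹ᵁ U.1) ⟶ (Y.ptSub y).res (ψ ⁻¹ᵁ O) :=
      (Y.ptSub y).resLE (show ψ ⁻¹ᵁ U.1 ≤ ψ ⁻¹ᵁ O from fun _ hx => hU hx)
        ((oi Y y _ (pre_ne φ y x L.maps_pt ψ hψ U.1 U.2.1)).dim_eq.trans
          (oi Y y _ (pre_ne φ y x L.maps_pt ψ hψ O hO)).dim_eq.symm)
    have hc' := relCodim_rep T L ψ hψ U.1 U.2.1
    have hkk : k.hom = (X.ptSub x).scheme.homOfLE hU := by
      rw [← cancel_mono O.ι, Scheme.homOfLE_ι]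
      exact congrArg BMCoh.Hom.hom hk
    have hpb := isPullback_restrict_le ψ hU
    have h1 : rs T k (ps T (X := (Y.ptSub y).res (ψ ⁻¹ᵁ O)) (Y := (X.ptSub x).res O) (ψ ∣_ O)
        (idx0 hc i) (idx1 hc n) b) =
        ps T (X := (Y.ptSub y).res (ψ ⁻¹ᵁ U.1)) (Y := (X.ptSub x).res U.1) (ψ ∣_ U.1)
        (idx0 hc' i) (idx1 hc' n) (rs T kk b) := by
      have := congrArg (fun φ => φ.hom b)
        (T.push_pull (X := (Y.ptSub y).res (ψ ⁻¹ᵁ O)) (Y := (X.ptSub x).res O)
          (X' := (Y.ptSub y).res (ψ ⁻¹ᵁ U.1)) (Y' := (X.ptSub x).res U.1) (ψ ∣_ O) (ψ ∣_ U.1) k kk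
          (by rw [hkk]; exact hpb) M i n i n
          (idx0 hc i) (idx1 hc n) (idx0 hc' i) (idx1 hc' n))
      exact this
    have hiso' : IsIso (ψ ∣_ U.1) := isIso_restrict_le ψ (hU.trans hle)
    have h2 : rs T kk b = 0 := by
      apply (ps_bijective T (X := (Y.ptSub y).res (ψ ⁻¹ᵁ U.1)) (Y := (X.ptSub x).res U.1)
        (ψ ∣_ U.1) (M := M) (i := i) (n := n) (idx0 hc' i) (idx1 hc' n)).1
      exact h1.symm.trans (h0.trans (ps_zero T (X := (Y.ptSub y).res (ψ ⁻¹ᵁ U.1))
        (Y := (X.ptSub x).res U.1) (ψ ∣_ U.1) (M := M) (i := i) (n := n) (idx0 hc' i)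
        (idx1 hc' n)).symm)
    have hkk2 : kk ≫ oi Y y (ψ ⁻¹ᵁ O) (pre_ne φ y x L.maps_pt ψ hψ O hO) =
        oi Y y (ψ ⁻¹ᵁ U.1) (pre_ne φ y x L.maps_pt ψ hψ U.1 U.2.1) :=
      BMCoh.Hom.ext (Scheme.homOfLE_ι (Y.ptSub y).scheme
        (show ψ ⁻¹ᵁ U.1 ≤ ψ ⁻¹ᵁ O from fun _ hx => hU hx))
    have h3 := oc_rs T (fun U => (U : Set (Y.ptSub y).scheme).Nonempty) kk _ _ hkk2
      (oi_ne Y y _ _) (oi_ne Y y _ _) b
    refine h3.symm.trans ?_
    rw [h2]
    exact oc_zero T _ _ _
  · intro ζ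
    obtain ⟨U, c, rfl⟩ := oc_rep T (dir_ne (X.ptSub x)) ζ
    have hO : ((U.1 ⊓ O₀ : (X.ptSub x).scheme.Opens) : Set (X.ptSub x).scheme).Nonempty :=
      ⟨gpt X x, gpt_mem X x _ U.2.1, gpt_mem X x _ hO₀⟩
    let O : (X.ptSub x).scheme.Opens := U.1 ⊓ O₀
    have hc := relCodim_rep T L ψ hψ O hO
    have hiso' : IsIso (ψ ∣_ O) := isIso_restrict_le ψ inf_le_right
    let k : (X.ptSub x).res O ⟶ (X.ptSub x).res U.1 := (X.ptSub x).resLE inf_le_left
      ((oi X x O hO).dim_eq.trans U.2.2.symm)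
    obtain ⟨b, hb⟩ := (ps_bijective T (X := (Y.ptSub y).res (ψ ⁻¹ᵁ O)) (Y := (X.ptSub x).res O)
        (ψ ∣_ O) (M := M) (i := i) (n := n) (idx0 hc i) (idx1 hc n)).2 (rs T k c)
    refine ⟨pt T y (oi Y y (ψ ⁻¹ᵁ O) (pre_ne φ y x L.maps_pt ψ hψ O hO)) (oi_ne Y y _ _) b, ?_⟩
    rw [cpt_rep T L ψ hψ O hO (idx0 hc i) (idx1 hc n) b]
    refine (congrArg (pt T x (oi X x O hO) (oi_ne X x _ _)) hb).trans ?_
    have hk2 : k ≫ (X.ptSub x).resι U.1 U.2.2 = oi X x O hO :=
      BMCoh.Hom.ext (Scheme.homOfLE_ι (X.ptSub x).scheme (inf_le_left : U.1 ⊓ O₀ ≤ U.1))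
    exact oc_rs T _ k _ _ hk2 _ _ c

/-- The closure of the generic point. -/
theorem isIso_ptSubι (Y : Obj V) [IsIntegral Y.scheme] :
    IsIso (Y.ptSubι (genericPoint Y.scheme)) := by
  have h1 : AlgebraicGeometry.Surjective (Y.ptSubι (genericPoint Y.scheme)) := ⟨fun y => by
    have h2 : y ∈ Set.range (Y.ptSubι (genericPoint Y.scheme)) := by
      rw [range_ptSubι, genericPoint_closure]; trivial
    exact h2⟩
  exact isIso_of_isImmersion_of_surjective _

/-- The normalisation morphism composed with an isomorphism is proper, finite. -/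
theorem isFinite_normalizationι {X : Obj V} (w : X.scheme)
    [IsIntegral (X.ptSub w).scheme]
    [QuasiCompact ((X.ptSub w).scheme.fromSpecStalk (genericPoint (X.ptSub w).scheme))]
    [QuasiSeparated ((X.ptSub w).scheme.fromSpecStalk (genericPoint (X.ptSub w).scheme))]
    (Y : Scheme.{u}) (e : Y ≅ Curv2.normalization (X.ptSub w).scheme)
    (φ : Y ⟶ X.scheme) [IsProper φ]
    (hφ : φ = e.hom ≫ Curv2.normalizationι (X.ptSub w).scheme ≫ X.ptSubι w) :
    IsFinite (Curv2.normalizationι (X.ptSub w).scheme) := by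
  have h1 : IsProper (Curv2.normalizationι (X.ptSub w).scheme ≫ X.ptSubι w) := by
    have h2 : e.inv ≫ φ = Curv2.normalizationι (X.ptSub w).scheme ≫ X.ptSubι w := by
      rw [hφ, Iso.inv_hom_id_assoc]
    rw [← h2]
    infer_instance
  have h2 : IsProper (Curv2.normalizationι (X.ptSub w).scheme) := IsProper.of_comp _ (X.ptSubι w)
  have h3 : IsAffineHom (Curv2.normalizationι (X.ptSub w).scheme) := by
    change IsAffineHom
      ((X.ptSub w).scheme.fromSpecStalk (genericPoint (X.ptSub w).scheme)).fromNormalization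
    infer_instance
  exact IsFinite.iff_isProper_and_isAffineHom.2 ⟨h2, h3⟩

/-- The canonical morphism from the normalised scheme to the reduced closure is an isomorphism over
a nonempty open. -/
theorem exists_isIso' {X : Obj V} (w : X.scheme)
    [IsIntegral (X.ptSub w).scheme]
    [QuasiCompact ((X.ptSub w).scheme.fromSpecStalk (genericPoint (X.ptSub w).scheme))]
    [QuasiSeparated ((X.ptSub w).scheme.fromSpecStalk (genericPoint (X.ptSub w).scheme))]
    (Y : Scheme.{u}) (e : Y ≅ Curv2.normalization (X.ptSub w).scheme)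
    (φ : Y ⟶ X.scheme) [IsProper φ]
    (hφ : φ = e.hom ≫ Curv2.normalizationι (X.ptSub w).scheme ≫ X.ptSubι w) :
    ∃ O : (X.ptSub w).scheme.Opens, (O : Set (X.ptSub w).scheme).Nonempty ∧
      IsIso ((e.hom ≫ Curv2.normalizationι (X.ptSub w).scheme) ∣_ O) := by
  have h1 := isFinite_normalizationι w Y e φ hφ
  obtain ⟨O, hO, hO'⟩ := exists_isIso (X.ptSub w).scheme
  refine ⟨O, hO, ?_⟩
  rw [morphismRestrict_comp]
  exact IsIso.comp_isIso' (isIso_restrict _ _) hO'

theorem bijective (X : BMCoh.Obj V) (w : X.scheme)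
    [IsIntegral (X.ptSub w).scheme]
    [QuasiCompact ((X.ptSub w).scheme.fromSpecStalk (genericPoint (X.ptSub w).scheme))]
    [QuasiSeparated ((X.ptSub w).scheme.fromSpecStalk (genericPoint (X.ptSub w).scheme))]
    (Y : BMCoh.Obj V) [IsIntegral Y.scheme] (e : Y.scheme ≅ Curv2.normalization (X.ptSub w).scheme)
    (φ : Y.scheme ⟶ X.scheme) [IsProper φ]
    (hφ : φ = e.hom ≫ Curv2.normalizationι (X.ptSub w).scheme ≫ X.ptSubι w)
    (L : T.PtPush φ (genericPoint Y.scheme) w) (M : A.Cat) (i n : ℤ) :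
    Function.Bijective (L.cpt M i n).hom := by
  obtain ⟨O, hO, hO'⟩ := exists_isIso' w Y.scheme e φ hφ
  have h1 := isIso_ptSubι Y
  let ν : Y.scheme ⟶ (X.ptSub w).scheme := e.hom ≫ Curv2.normalizationι (X.ptSub w).scheme
  have hν : ν ≫ X.ptSubι w = φ := by rw [hφ]; exact Category.assoc _ _ _
  have hνp : IsProper ν := by
    have h2 : IsProper (ν ≫ X.ptSubι w) := by rw [hν]; infer_instance
    exact IsProper.of_comp ν (X.ptSubι w)
  let ψ : (Y.ptSub (genericPoint Y.scheme)).scheme ⟶ (X.ptSub w).scheme :=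
    Y.ptSubι (genericPoint Y.scheme) ≫ ν
  have hψ : ψ ≫ X.ptSubι w = Y.ptSubι (genericPoint Y.scheme) ≫ φ := by
    rw [← hν]; exact Category.assoc _ _ _
  have h3 : IsIso (ψ ∣_ O) := by
    have : IsIso (ν ∣_ O) := hO'
    change IsIso ((Y.ptSubι (genericPoint Y.scheme) ≫ ν) ∣_ O)
    rw [morphismRestrict_comp]
    exact IsIso.comp_isIso' (isIso_restrict _ _) this
  exact cpt_bijective T L ψ hψ O hO M i n

end K876.NormIso
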