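import Groth.Agent.BMCoh.K876.ResComp

/-!
# Residues and proper push-forward with reduced closed parts
-/

set_option autoImplicit false
set_option linter.unusedSectionVars false
universe u

open TopologicalSpace Topology AlgebraicGeometry CategoryTheory BMCoh Opposite CategoryTheory.Limits

namespace K876.PushRes

open K876.Dim K876.Geom K876.Colim K876.Gysin K876.Union K876.Restr K876.Points K876.PushUniq
  K876.ResComp
open Groth.Agent.Ega1.ReducedSub

variable {V : ObjectProperty Scheme.{u}} [IsConstructible V] {R : Type u} [CommRing R] {A : Coefs R}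
variable (T : PreTheory V R A)

omit [IsConstructible V] in
theorem dim_eq_of_surjective {S S' : Scheme.{u}} (k : S ⟶ S') [IsClosedImmersion k]
    (hk : Function.Surjective k) : WeilCoh.dim S = WeilCoh.dim S' := by
  unfold WeilCoh.dim WeilCoh.natDim
  have h1 : IsHomeomorph k := by
    rw [isHomeomorph_iff_isEmbedding_surjective]
    exact ⟨k.isClosedEmbedding.isEmbedding, hk⟩
  rw [h1.topologicalKrullDim_eq]

/-- The closed part of the pulled-back decomposition. -/
noncomputable def pbZ {Y X : Obj V} (φ : Y.scheme ⟶ X.scheme) (D : Decomp X) : Obj V :=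
  ⟨pullback φ D.i, IsConstructible.of_isClosedImmersion (pullback.fst φ D.i) Y.mem⟩

/-- The pulled-back decomposition. -/
noncomputable def pbDec {Y X : Obj V} (φ : Y.scheme ⟶ X.scheme) (U : X.scheme.Opens)
    (hU : WeilCoh.dim (U : Scheme.{u}) = WeilCoh.dim X.scheme)
    (hU' : WeilCoh.dim ((φ ⁻¹ᵁ U : Y.scheme.Opens) : Scheme.{u}) = WeilCoh.dim Y.scheme) :
    Decomp Y where
  Z := pbZ φ (decOf (X.resι U hU))
  U := Y.res (φ ⁻¹ᵁ U)
  i := pullback.fst φ (decOf (X.resι U hU)).i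
  closedImm := inferInstanceAs (IsClosedImmersion (pullback.fst φ (decOf (X.resι U hU)).i))
  j := Y.resι (φ ⁻¹ᵁ U) hU'
  range_eq := by
    have h1 : Set.range (pullback.fst φ (decOf (X.resι U hU)).i) =
        φ ⁻¹' Set.range (decOf (X.resι U hU)).i := Scheme.Pullback.range_fst _ _
    have h2 : Set.range (X.resι U hU).hom = (U : Set X.scheme) := U.range_ι
    have h3 : Set.range (Y.resι (φ ⁻¹ᵁ U) hU').hom = ((φ ⁻¹ᵁ U : Y.scheme.Opens) : Set Y.scheme) :=
      (φ ⁻¹ᵁ U).range_ι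
    refine h3.trans (Eq.trans ?_ (congrArg compl h1.symm))
    rw [range_decOf_i, h2]
    simp

/-- Residues commute with proper push-forward, the closed parts being reduced. -/
theorem exists_rd_ps
    (hred : ∀ (S : BMCoh.Obj V) (D D'' : BMCoh.Decomp S) (gU : D''.U ⟶ D.U)
      (k : D''.Z.scheme ⟶ D.Z.scheme) [IsClosedImmersion k] [AlgebraicGeometry.Surjective k],
      gU ≫ D.j = D''.j → k ≫ D.i = D''.i →
      ∀ (M : A.Cat) (i n i' n' : ℤ) (hi : i' = i + 1 - 2 * D.codim) (hn : n' = n - D.codim)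
        (hi'' : i' = i + 1 - 2 * D''.codim) (hn'' : n' = n - D''.codim)
        (hk : i' = i' + 2 * BMCoh.relCodim D''.Z.scheme D.Z.scheme)
        (hk' : n' = n' + BMCoh.relCodim D''.Z.scheme D.Z.scheme),
      T.pull gU M i n ≫ T.res D'' M i n i' n' hi'' hn'' ≫ T.push k M i' n' i' n' hk hk' =
        T.res D M i n i' n' hi hn)
    {Y X : Obj V} (φ : Y.scheme ⟶ X.scheme) [IsProper φ] (U : X.scheme.Opens)
    (hU : WeilCoh.dim (U : Scheme.{u}) = WeilCoh.dim X.scheme)
    (hU' : WeilCoh.dim ((φ ⁻¹ᵁ U : Y.scheme.Opens) : Scheme.{u}) = WeilCoh.dim Y.scheme) :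
    ∃ (h : (decOf (Y.resι (φ ⁻¹ᵁ U) hU')).Z.scheme ⟶ (decOf (X.resι U hU)).Z.scheme)
      (_ : IsProper h), h ≫ (decOf (X.resι U hU)).i = (decOf (Y.resι (φ ⁻¹ᵁ U) hU')).i ≫ φ ∧
      ∀ (M : A.Cat) (i n a b c d e k : ℤ)
        (ha : a = i + 1 - 2 * (decOf (Y.resι (φ ⁻¹ᵁ U) hU')).codim)
        (hb : b = n - (decOf (Y.resι (φ ⁻¹ᵁ U) hU')).codim)
        (hc : c = i + 2 * relCodim (Y.res (φ ⁻¹ᵁ U)).scheme (X.res U).scheme)
        (hd : d = n + relCodim (Y.res (φ ⁻¹ᵁ U)).scheme (X.res U).scheme)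
        (he : e = a + 2 * relCodim (decOf (Y.resι (φ ⁻¹ᵁ U) hU')).Z.scheme
          (decOf (X.resι U hU)).Z.scheme)
        (hk : k = b + relCodim (decOf (Y.resι (φ ⁻¹ᵁ U) hU')).Z.scheme
          (decOf (X.resι U hU)).Z.scheme)
        (he' : e = c + 1 - 2 * (decOf (X.resι U hU)).codim)
        (hk' : k = d - (decOf (X.resι U hU)).codim)
        (v : T.gp (Y.res (φ ⁻¹ᵁ U)) M i n),
        rd T (decOf (X.resι U hU)) he' hk'
          (ps T (X := Y.res (φ ⁻¹ᵁ U)) (Y := X.res U) (φ ∣_ U) hc hd v) =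
        ps T h he hk (rd T (decOf (Y.resι (φ ⁻¹ᵁ U) hU')) ha hb v) := by
  let D := decOf (X.resι U hU)
  let D'' := decOf (Y.resι (φ ⁻¹ᵁ U) hU')
  let DY := pbDec φ U hU hU'
  have hZr : IsReduced D''.Z.scheme :=
    inferInstanceAs (IsReduced (decOf (Y.resι (φ ⁻¹ᵁ U) hU')).Z.scheme)
  let fZ : DY.Z.scheme ⟶ D.Z.scheme := pullback.snd φ D.i
  have hfZ : IsProper fZ := inferInstanceAs (IsProper (pullback.snd φ D.i))
  have hpb : IsPullback DY.i fZ φ D.i := IsPullback.of_hasPullback φ D.i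
  let fU : DY.U.scheme ⟶ D.U.scheme := φ ∣_ U
  have hfU : IsProper fU := inferInstanceAs (IsProper (φ ∣_ U))
  have hpbU : IsPullback DY.j.hom fU φ D.j.hom := (isPullback_morphismRestrict φ U).flip
  have hrange : Set.range D''.i = Set.range DY.i := by
    have h1 := D''.range_eq
    have h2 := DY.range_eq
    have h3 : Set.range D''.j.hom = Set.range DY.j.hom := rfl
    rw [h1, h2] at h3
    exact compl_injective h3
  obtain ⟨k, hk⟩ := exists_factor_of_range_subset D''.i DY.i hrange.le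
  have hkc : IsClosedImmersion k := by
    have h1 : IsClosedImmersion (k ≫ DY.i) := by rw [hk]; infer_instance
    exact IsClosedImmersion.of_comp k DY.i
  have hks : Function.Surjective k := by
    intro z
    have h1 : DY.i z ∈ Set.range D''.i := by rw [hrange]; exact ⟨z, rfl⟩
    obtain ⟨z', hz'⟩ := h1
    refine ⟨z', DY.i.isClosedEmbedding.injective ?_⟩
    rw [← hz', ← hk]
    rfl
  have hks' : AlgebraicGeometry.Surjective k := ⟨hks⟩
  have hdim : WeilCoh.dim D''.Z.scheme = WeilCoh.dim DY.Z.scheme := dim_eq_of_surjective k hks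
  have hkp : IsProper k := inferInstance
  refine ⟨k ≫ fZ, inferInstance, ?_, ?_⟩
  · have h1 : fZ ≫ D.i = DY.i ≫ φ := hpb.w.symm
    change (k ≫ fZ) ≫ D.i = D''.i ≫ φ
    rw [Category.assoc, h1, ← Category.assoc, hk]
  · intro M i n a b c d e k' ha hb hc hd he hk' he' hk'' v
    have hr1 : DY.codim = D''.codim := by
      unfold Decomp.codim relCodim
      rw [hdim]
    have hr0 : relCodim D''.Z.scheme DY.Z.scheme = 0 := by
      unfold relCodim
      rw [hdim]
      exact sub_self _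
    have hr2 : relCodim DY.Z.scheme D.Z.scheme = relCodim D''.Z.scheme D.Z.scheme := by
      unfold relCodim
      rw [hdim]
    have ha' : a = i + 1 - 2 * D''.codim := ha
    have hb' : b = n - D''.codim := hb
    have he1 : e = a + 2 * relCodim D''.Z.scheme D.Z.scheme := he
    have hk1 : k' = b + relCodim D''.Z.scheme D.Z.scheme := hk'
    have ha2 : a = i + 1 - 2 * DY.codim := by rw [hr1]; exact ha'
    have hb2 : b = n - DY.codim := by rw [hr1]; exact hb'
    have he2 : e = a + 2 * relCodim DY.Z.scheme D.Z.scheme := by rw [hr2]; exact he1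
    have hk2 : k' = b + relCodim DY.Z.scheme D.Z.scheme := by rw [hr2]; exact hk1
    have ha3 : a = a + 2 * relCodim D''.Z.scheme DY.Z.scheme := by rw [hr0]; ring
    have hb3 : b = b + relCodim D''.Z.scheme DY.Z.scheme := by rw [hr0]; ring
    have h1 := congrArg (fun q => q.hom v)
      (T.res_push D DY φ fZ fU hpb hpbU M i n a b c d e k' ha2 hb2 hc hd he2 hk2 he' hk'')
    have h2 := congrArg (fun q => q.hom v)
      (hred Y DY D'' (𝟙 _) k (Category.id_comp _) hk M i n a b ha2 hb2 ha' hb' ha3 hb3)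
    have h3 : ps T fZ he2 hk2 (rd T DY ha2 hb2 v) = rd T D he' hk''
        (ps T (X := Y.res (φ ⁻¹ᵁ U)) (Y := X.res U) (φ ∣_ U) hc hd v) := h1
    have h4 : ps T k ha3 hb3 (rd T D'' ha' hb' (rs T (𝟙 D''.U) v)) = rd T DY ha2 hb2 v := h2
    have h5 : rs T (𝟙 D''.U) v = v := rs_id T D''.U v
    have h6 : ps T k ha3 hb3 (rd T D'' ha' hb' v) = rd T DY ha2 hb2 v :=
      (congrArg (fun z => ps T k ha3 hb3 (rd T D'' ha' hb' z)) h5).symm.trans h4
    refine h3.symm.trans ((congrArg (ps T fZ he2 hk2) h6.symm).trans ?_)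
    exact ps_comp T k fZ (k ≫ fZ) rfl ha3 hb3 he2 hk2 he1 hk1 _

end K876.PushRes
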