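import Groth.Agent.BMCoh.K876.FamTot
import Groth.Agent.BMCoh.K876.PushRes
import Groth.Agent.BMCoh.K876.NormIso

/-!
# Residues of push-forwards of classes at a point, through a proper modification of its closure
-/

set_option autoImplicit false
set_option linter.unusedSectionVars false
universe u

open TopologicalSpace Topology AlgebraicGeometry CategoryTheory BMCoh Opposite CategoryTheory.Limits
open DirectSum

namespace K876.NormRes

open K876.Dim K876.Geom K876.Colim K876.Gysin K876.Union K876.Restr K876.Points K876.PushUniq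
  K876.ResComp K876.Ext K876.PtVan K876.NegVan K876.FjBij K876.GenClass K876.PushTot K876.Rep
  K876.ExactRes K876.PtP K876.NormIso K876.FamTot K876.PushRes
open Groth.Agent.Ega1.ReducedSub

variable {V : ObjectProperty Scheme.{u}} [IsConstructible V] {R : Type u} [CommRing R] {A : Coefs R}
variable (T : PreTheory V R A)

theorem specializes_generic (Y : Obj V) [IsIntegral Y.scheme] (y : Y.scheme) :
    genericPoint Y.scheme ⤳ y := by
  rw [specializes_iff_mem_closure, genericPoint_closure]; trivial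

/-- Representatives for the classes at the generic point. -/
theorem exists_rep_gen {Y X : Obj V} [IsIntegral Y.scheme] (φ : Y.scheme ⟶ X.scheme) [IsProper φ]
    (w : X.scheme) (h : φ (genericPoint Y.scheme) = w)
    (hd : WeilCoh.pdim Y.scheme (genericPoint Y.scheme) ≤ WeilCoh.pdim X.scheme w)
    {M : A.Cat} {i n : ℤ} (ξ : T.ptGp Y (genericPoint Y.scheme) M i n) :
    ∃ (U : X.scheme.Opens) (_ : w ∈ U) (_ : (closure {w})ᶜ ⊆ (U : Set X.scheme))
      (w₀ : Y.res (φ ⁻¹ᵁ U) ⟶ Y.ptSub (genericPoint Y.scheme))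
      (hw₀ : (w₀.hom.opensRange : Set (Y.ptSub (genericPoint Y.scheme)).scheme).Nonempty)
      (_ : w₀.hom ≫ Y.ptSubι (genericPoint Y.scheme) = (φ ⁻¹ᵁ U).ι)
      (b : T.gp (Y.res (φ ⁻¹ᵁ U)) M i n), pt T (genericPoint Y.scheme) w₀ hw₀ b = ξ := by
  obtain ⟨ψ, _, hψ⟩ := exists_fac φ (genericPoint Y.scheme) w h
  obtain ⟨O, hO, -, b₀, rfl⟩ := PtP.exists_rep T φ (genericPoint Y.scheme) w h hd ψ hψ ξ ⊤
    ⟨gpt X w, trivial⟩
  obtain ⟨U, hU, rfl⟩ := exists_open_of_closed (X.ptSubι w) O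
  have hwU : w ∈ U := by
    have := gpt_mem X w _ hO
    change X.ptSubι w (gpt X w) ∈ U at this
    rwa [ptSubι_gpt] at this
  have hiso := isIso_ptSubι Y
  let p : Y.ptSub (genericPoint Y.scheme) ⟶ Y :=
    ⟨Y.ptSubι (genericPoint Y.scheme), inferInstance,
      dim_eq_of_iso (asIso (Y.ptSubι (genericPoint Y.scheme)))⟩
  have hηU : genericPoint Y.scheme ∈ φ ⁻¹ᵁ U := by
    change φ (genericPoint Y.scheme) ∈ U
    rw [h]; exact hwU
  have hdU : WeilCoh.dim ((φ ⁻¹ᵁ U : Y.scheme.Opens) : Scheme.{u}) = WeilCoh.dim Y.scheme :=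
    IsConstructible.dim_open Y.mem inferInstance _ ⟨_, hηU⟩
  let o := oi Y (genericPoint Y.scheme) (ψ ⁻¹ᵁ (X.ptSubι w ⁻¹ᵁ U))
    (pre_ne φ (genericPoint Y.scheme) w h ψ hψ (X.ptSubι w ⁻¹ᵁ U) hO)
  let g := o ≫ p
  let g' := Y.resι (φ ⁻¹ᵁ U) hdU
  have hsub : Set.range g'.hom ⊆ Set.range g.hom := by
    rintro _ ⟨y, rfl⟩
    have hy : φ (g'.hom y) ∈ U := y.2
    obtain ⟨y', hy'⟩ := (Y.ptSubι (genericPoint Y.scheme)).surjective (g'.hom y)
    have h1 : X.ptSubι w (ψ y') = φ (g'.hom y) := by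
      rw [← hy', ← Scheme.Hom.comp_apply, hψ]; rfl
    have h2 : y' ∈ ψ ⁻¹ᵁ (X.ptSubι w ⁻¹ᵁ U) := by
      change X.ptSubι w (ψ y') ∈ U
      rw [h1]; exact hy
    exact ⟨lp _ _ y' h2, hy'⟩
  let κ := liftHom g g' hsub
  have hκ : κ ≫ g = g' := liftHom_comp g g' hsub
  have hne : Nonempty (Y.res (φ ⁻¹ᵁ U)).scheme := ⟨lp Y _ _ hηU⟩
  refine ⟨U, hwU, by rwa [range_ptSubι] at hU, κ ≫ o, range_nonempty (κ ≫ o), ?_, rs T κ b₀, ?_⟩
  · have h3 := congrArg BMCoh.Hom.hom hκ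
    rw [comp_hom] at h3
    refine Eq.trans ?_ h3
    rw [comp_hom]
    exact Category.assoc _ _ _
  · exact pt_rs T κ o (κ ≫ o) rfl (oi_ne Y _ _ _) _ b₀

theorem map_mem_closure {Y X : Obj V} [IsIntegral Y.scheme] (φ : Y.scheme ⟶ X.scheme)
    (w : X.scheme) (h : φ (genericPoint Y.scheme) = w) (y : Y.scheme) : φ y ∈ closure {w} := by
  have h1 := (specializes_generic Y y).map φ.continuous
  rw [h] at h1
  exact specializes_iff_mem_closure.1 h1

theorem exists_preimage {Y X : Obj V} [IsIntegral Y.scheme] (φ : Y.scheme ⟶ X.scheme) [IsProper φ]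
    (w : X.scheme) (h : φ (genericPoint Y.scheme) = w) (x : X.scheme) (hx : x ∈ closure {w}) :
    ∃ y, φ y = x := by
  have h1 : IsClosed (Set.range φ) := φ.isClosedMap.isClosed_range
  have h2 : closure {w} ⊆ Set.range φ := closure_minimal (by
    rw [Set.singleton_subset_iff]
    exact ⟨_, h⟩) h1
  exact h2 hx

/-- The push-forward of the class at the generic point. -/
theorem push_cpt_eq {Y X : Obj V} [IsIntegral Y.scheme] (φ : Y.scheme ⟶ X.scheme) [IsProper φ]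
    {q : ℕ} (w : X.cdPt q) (P : T.PushData X q) (L : T.PtPush φ (genericPoint Y.scheme) w.1)
    (U : X.scheme.Opens) (hU : ContainsFj X q U) (hwU : w.1 ∈ U)
    (w₀ : Y.res (φ ⁻¹ᵁ U) ⟶ Y.ptSub (genericPoint Y.scheme))
    (hw₀ : (w₀.hom.opensRange : Set (Y.ptSub (genericPoint Y.scheme)).scheme).Nonempty)
    (hw₀ι : w₀.hom ≫ Y.ptSubι (genericPoint Y.scheme) = (φ ⁻¹ᵁ U).ι)
    {M : A.Cat} {i n i' n' : ℤ} (hi : i' = i + 2 * (q : ℤ)) (hn : n' = n + (q : ℤ))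
    (hi' : i' = i + 2 * relCodim (Y.res (φ ⁻¹ᵁ U)).scheme (X.res U).scheme)
    (hn' : n' = n + relCodim (Y.res (φ ⁻¹ᵁ U)).scheme (X.res U).scheme)
    (b : T.gp (Y.res (φ ⁻¹ᵁ U)) M i n) :
    (P.cpt w M i n i' n' hi hn).hom ((L.cpt M i n).hom (pt T (genericPoint Y.scheme) w₀ hw₀ b)) =
      fj T q (X.resι U (dim_res_eq_of_containsFj X q U hU)) (containsFj_range X U hU _)
        (ps T (X := Y.res (φ ⁻¹ᵁ U)) (Y := X.res U) (φ ∣_ U) hi' hn' b) := by
  have hYr : IsReduced (Y.res (φ ⁻¹ᵁ U)).scheme := inferInstance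
  obtain ⟨f, hf⟩ := exists_factor_of_range_subset (X := (Y.res (φ ⁻¹ᵁ U)).scheme) (φ ∣_ U)
    (X.ptSubι w.1 ∣_ U) (by
      rintro _ ⟨y, rfl⟩
      by_contra h
      have h1 : (φ ∣_ U) y ∈ cpl X w.1 U := h
      rw [mem_cpl] at h1
      apply h1
      have h2 : U.ι ((φ ∣_ U) y) = φ ((φ ⁻¹ᵁ U).ι y) := by
        rw [← Scheme.Hom.comp_apply, morphismRestrict_ι, Scheme.Hom.comp_apply]
      rw [h2]
      exact map_mem_closure φ w.1 L.maps_pt _)
  have hfp : IsProper f := by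
    have h1 : IsProper (f ≫ (X.ptSubι w.1 ∣_ U)) := by rw [hf]; infer_instance
    exact IsProper.of_comp f (X.ptSubι w.1 ∣_ U)
  have hdU := dim_res_eq_of_containsFj X q U hU
  have hr0 : relCodim (Y.res (φ ⁻¹ᵁ U)).scheme
      ((X.ptSub w.1).res (X.ptSubι w.1 ⁻¹ᵁ U)).scheme = 0 := by
    have h1 := L.codim_eq
    unfold relCodim at h1 ⊢
    rw [w₀.dim_eq, (pc X w.1 U hwU).dim_eq]
    exact h1
  have hrq := relCodim_pc X w.1 w.2 U hwU hdU
  have e1 := ptPush_spec T L w₀ hw₀ (pc X w.1 U hwU) (pc_ne X w.1 U hwU) f (by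
    change f ≫ (X.ptSubι w.1 ⁻¹ᵁ U).ι ≫ X.ptSubι w.1 = _
    have h1 : w₀.hom ≫ Y.ptSubι (genericPoint Y.scheme) ≫ φ = (φ ⁻¹ᵁ U).ι ≫ φ := by
      rw [← Category.assoc, hw₀ι]
    rw [h1, ← morphismRestrict_ι, ← morphismRestrict_ι, ← hf]
    exact (Category.assoc _ _ _).symm) (idx0 hr0 i) (idx1 hr0 n) b
  rw [e1]
  have hi2 : i' = i + 2 * relCodim ((X.ptSub w.1).res (X.ptSubι w.1 ⁻¹ᵁ U)).scheme
      (X.res U).scheme := by rw [hrq]; exact hi
  have hn2 : n' = n + relCodim ((X.ptSub w.1).res (X.ptSubι w.1 ⁻¹ᵁ U)).scheme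
      (X.res U).scheme := by rw [hrq]; exact hn
  rw [push_pc T P w U hwU hU hi hn hi2 hn2]
  congr 1
  exact ps_comp T (X := Y.res (φ ⁻¹ᵁ U)) (Y := (X.ptSub w.1).res (X.ptSubι w.1 ⁻¹ᵁ U))
    (Z := X.res U) f (X.ptSubι w.1 ∣_ U) (φ ∣_ U) hf _ _ hi2 hn2 hi' hn' b

/-- The class at the generic point in the group of `F_0 Y`. -/
theorem push_gen_eq {Y : Obj V} [IsIntegral Y.scheme]
    (hη : WeilCoh.codim Y.scheme (genericPoint Y.scheme) = 0) (P' : T.PushData Y 0)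
    (W : Y.scheme.Opens) (hW : ContainsFj Y 0 W)
    (w₀ : Y.res W ⟶ Y.ptSub (genericPoint Y.scheme))
    (hw₀ : (w₀.hom.opensRange : Set (Y.ptSub (genericPoint Y.scheme)).scheme).Nonempty)
    (hw₀ι : w₀.hom ≫ Y.ptSubι (genericPoint Y.scheme) = W.ι)
    {M : A.Cat} {i n : ℤ} (hi : i = i + 2 * ((0 : ℕ) : ℤ)) (hn : n = n + ((0 : ℕ) : ℤ))
    (b : T.gp (Y.res W) M i n) :
    (P'.cpt ⟨genericPoint Y.scheme, hη⟩ M i n i n hi hn).hom
      (pt T (genericPoint Y.scheme) w₀ hw₀ b) =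
      fj T 0 (Y.resι W (dim_res_eq_of_containsFj Y 0 W hW)) (containsFj_range Y W hW _) b := by
  have h0 : relCodim (Y.res W).scheme (Y.res W).scheme = 0 := relCodim_hom (𝟙 (Y.res W))
  refine (push_spec T P' ⟨genericPoint Y.scheme, hη⟩
    (Y.resι W (dim_res_eq_of_containsFj Y 0 W hW)) (containsFj_range Y W hW _) w₀ hw₀
    (𝟙 (Y.res W).scheme) ?_ hi hn (idx0 h0 i) (idx1 h0 n) b).trans ?_
  · rw [Category.id_comp]
    exact hw₀ι.symm
  · congr 1
    exact ps_id T _ _ b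

theorem main
    (hred : ∀ (S : BMCoh.Obj V) (D D'' : BMCoh.Decomp S) (gU : D''.U ⟶ D.U)
      (k : D''.Z.scheme ⟶ D.Z.scheme) [IsClosedImmersion k] [AlgebraicGeometry.Surjective k],
      gU ≫ D.j = D''.j → k ≫ D.i = D''.i →
      ∀ (M : A.Cat) (i n i' n' : ℤ) (hi : i' = i + 1 - 2 * D.codim) (hn : n' = n - D.codim)
        (hi'' : i' = i + 1 - 2 * D''.codim) (hn'' : n' = n - D''.codim)
        (hk : i' = i' + 2 * BMCoh.relCodim D''.Z.scheme D.Z.scheme)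
        (hk' : n' = n' + BMCoh.relCodim D''.Z.scheme D.Z.scheme),
      T.pull gU M i n ≫ T.res D'' M i n i' n' hi'' hn'' ≫ T.push k M i' n' i' n' hk hk' =
        T.res D M i n i' n' hi hn)
    (X : BMCoh.Obj V) (q : ℕ) (w : X.cdPt q)
    (Y : BMCoh.Obj V) [IsIntegral Y.scheme]
    (φ : Y.scheme ⟶ X.scheme) [IsProper φ]
    (hη : WeilCoh.codim Y.scheme (genericPoint Y.scheme) = 0)
    (P : T.PushData X q) (Q : T.ResData X q) (L : T.PtPush φ (genericPoint Y.scheme) w.1)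
    (P' : T.PushData Y 0) (Q' : T.ResData Y 0) (t : Y.cdPt 1 → X.cdPt (q + 1))
    (F : ∀ y : Y.cdPt 1, T.PtPush φ y.1 (t y).1)
    (M : A.Cat) (i n i₁ n₁ i₂ n₂ : ℤ)
    (h1 : i₁ = i + 2 * (q : ℤ)) (h1' : n₁ = n + (q : ℤ))
    (h2 : i₂ = i₁ + 1 - 2 * ((q : ℤ) + 1)) (h2' : n₂ = n₁ - ((q : ℤ) + 1))
    (h3 : i = i + 2 * ((0 : ℕ) : ℤ)) (h3' : n = n + ((0 : ℕ) : ℤ))
    (h4 : i₂ = i + 1 - 2 * (((0 : ℕ) : ℤ) + 1)) (h4' : n₂ = n - (((0 : ℕ) : ℤ) + 1))
    (a : T.ptGp Y (genericPoint Y.scheme) M i n) :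
    (Q.tot M i₁ n₁ i₂ n₂ h2 h2').hom ((P.cpt w M i n i₁ n₁ h1 h1').hom ((L.cpt M i n).hom a)) =
      (BMCoh.PreTheory.PtPush.famTot t F M i₂ n₂).hom
        ((Q'.tot M i n i₂ n₂ h4 h4').hom
          ((P'.cpt ⟨genericPoint Y.scheme, hη⟩ M i n i n h3 h3').hom a)) := by
  classical
  have hφw : φ (genericPoint Y.scheme) = w.1 := L.maps_pt
  have hpd := pdim_eq T L
  have hdY := pdim_add_codim Y (genericPoint Y.scheme)
  have hdX := pdim_add_codim X w.1
  have hw2 := w.2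
  obtain ⟨U, hwU, hUc, w₀, hw₀, hw₀ι, b, rfl⟩ := exists_rep_gen T φ w.1 hφw hpd.le a
  have hU : ContainsFj X q U := containsFj_of_compl X w.1 w.2 U hwU hUc
  have hηU : genericPoint Y.scheme ∈ φ ⁻¹ᵁ U := by
    change φ (genericPoint Y.scheme) ∈ U
    rw [hφw]; exact hwU
  have hU' : ContainsFj Y 0 (φ ⁻¹ᵁ U) := by
    intro y hy
    have h5 : y = genericPoint Y.scheme :=
      eq_of_specializes (fin Y) (specializes_generic Y y) (by
        have := pdim_add_codim Y y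
        omega)
    rw [h5]
    exact hηU
  have hdU := dim_res_eq_of_containsFj X q U hU
  have hdU' := dim_res_eq_of_containsFj Y 0 (φ ⁻¹ᵁ U) hU'
  have hrq : relCodim (Y.res (φ ⁻¹ᵁ U)).scheme (X.res U).scheme = (q : ℤ) := by
    unfold relCodim
    rw [show WeilCoh.dim (Y.res (φ ⁻¹ᵁ U)).scheme = WeilCoh.dim Y.scheme from hdU',
      show WeilCoh.dim (X.res U).scheme = WeilCoh.dim X.scheme from hdU]
    omega
  have hc : i₁ = i + 2 * relCodim (Y.res (φ ⁻¹ᵁ U)).scheme (X.res U).scheme := by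
    rw [hrq]; exact h1
  have hd : n₁ = n + relCodim (Y.res (φ ⁻¹ᵁ U)).scheme (X.res U).scheme := by
    rw [hrq]; exact h1'
  rw [push_cpt_eq T φ w P L U hU hwU w₀ hw₀ hw₀ι h1 h1' hc hd b,
    push_gen_eq T hη P' (φ ⁻¹ᵁ U) hU' w₀ hw₀ hw₀ι h3 h3' b]
  by_cases hx : ∃ x : X.scheme, WeilCoh.codim X.scheme x = q + 1 ∧ x ∉ U
  · obtain ⟨x, hx, hxU⟩ := hx
    let g := X.resι U hdU
    let g' := Y.resι (φ ⁻¹ᵁ U) hdU'
    have hg := containsFj_range X U hU hdU
    have hg' := containsFj_range Y (φ ⁻¹ᵁ U) hU' hdU'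
    have hrg : Set.range g.hom = (U : Set X.scheme) := U.range_ι
    have hrg' : Set.range g'.hom = ((φ ⁻¹ᵁ U : Y.scheme.Opens) : Set Y.scheme) :=
      (φ ⁻¹ᵁ U).range_ι
    have hdim1 : WeilCoh.dim (decOf g).Z.scheme + (q + 1) = WeilCoh.dim X.scheme :=
      dim_decOf g hg x hx (by rw [hrg]; exact hxU)
    have hxw : x ∈ closure {w.1} := by
      by_contra h
      exact hxU (hUc h)
    obtain ⟨y₀, hy₀⟩ := exists_preimage φ w.1 hφw x hxw
    have hy₀U : y₀ ∉ φ ⁻¹ᵁ U := by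
      change φ y₀ ∉ U
      rw [hy₀]; exact hxU
    have hy₀1 : WeilCoh.codim Y.scheme y₀ = 0 + 1 := by
      have e1 := pdim_le_of_isClosedMap φ φ.isClosedMap (fin Y) (fin X) y₀
      rw [hy₀] at e1
      have e2 : WeilCoh.pdim Y.scheme y₀ < WeilCoh.pdim Y.scheme (genericPoint Y.scheme) :=
        pdim_lt (fin Y) (specializes_generic Y y₀) (fun h => hy₀U (h ▸ hηU))
      have e3 := pdim_add_codim X x
      have e4 := pdim_add_codim Y y₀
      omega
    have hdim2 : WeilCoh.dim (decOf g').Z.scheme + (0 + 1) = WeilCoh.dim Y.scheme :=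
      dim_decOf g' hg' y₀ hy₀1 (by rw [hrg']; exact hy₀U)
    have hdim : WeilCoh.dim (decOf g').Z.scheme = WeilCoh.dim (decOf g).Z.scheme := by omega
    obtain ⟨h, hpr, hh, hrd⟩ := exists_rd_ps T hred φ U hdU hdU'
    have hcX : (decOf g).codim = (q : ℤ) + 1 := (codim_eq_of_dim hdim1).trans (by push_cast; rfl)
    have hcY : (decOf g').codim = ((0 : ℕ) : ℤ) + 1 :=
      (codim_eq_of_dim hdim2).trans (by norm_num)
    have hr0 : relCodim (decOf g').Z.scheme (decOf g).Z.scheme = 0 := by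
      unfold relCodim
      rw [hdim]
      exact sub_self _
    have hi1 : i₂ = i₁ + 1 - 2 * (decOf g).codim := by rw [hcX]; exact h2
    have hn1 : n₂ = n₁ - (decOf g).codim := by rw [hcX]; exact h2'
    have hi2 : i₂ = i + 1 - 2 * (decOf g').codim := by rw [hcY]; exact h4
    have hn2 : n₂ = n - (decOf g').codim := by rw [hcY]; exact h4'
    have hi3 : i₂ = i₂ + 2 * relCodim (decOf g').Z.scheme (decOf g).Z.scheme := idx0 hr0 i₂
    have hn3 : n₂ = n₂ + relCodim (decOf g').Z.scheme (decOf g).Z.scheme := idx1 hr0 n₂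
    have vX := val_res T Q g hg h2 h2' hi1 hn1
      (ps T (X := Y.res (φ ⁻¹ᵁ U)) (Y := X.res U) (φ ∣_ U) hc hd b)
    have vY := val_res T Q' g' hg' h4 h4' hi2 hn2 b
    have vF := famTot_val T t F ((decOf g').i ≫ (𝟙 Y : Y ⟶ Y).hom) hdim2
      ((decOf g).i ≫ (𝟙 X : X ⟶ X).hom) hdim1 h (by
        rw [id_hom, id_hom, Category.comp_id, Category.comp_id]
        exact hh) hdim (by
        intro z
        have hz : (decOf g).i z.1 ∈ closure {w.1} := by
          by_contra h'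
          have h5 : (decOf g).i z.1 ∈ Set.range g.hom := by rw [hrg]; exact hUc h'
          exact (not_mem_range_i (decOf g) _).2 h5 ⟨z.1, rfl⟩
        obtain ⟨y, hy⟩ := exists_preimage φ w.1 hφw _ hz
        have hyU : y ∉ Set.range g'.hom := by
          rw [hrg']
          change φ y ∉ U
          rw [hy]
          intro h5
          have h6 : (decOf g).i z.1 ∈ Set.range g.hom := by rw [hrg]; exact h5
          exact (not_mem_range_i (decOf g) _).2 h6 ⟨z.1, rfl⟩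
        obtain ⟨z'', hz''⟩ := (not_mem_range_j (decOf g') y).1 hyU
        refine ⟨z'', (decOf g).i.isClosedEmbedding.injective ?_⟩
        have h7 := congrArg (fun (q : (decOf g').Z.scheme ⟶ X.scheme) => q z'') hh
        have h8 : (decOf g).i (h z'') = φ ((decOf g').i z'') := h7
        rw [h8, hz'', hy]) hi3 hn3 _ _ vY
    have e5 := hrd M i n i₂ n₂ i₁ n₁ i₂ n₂ hi2 hn2 hc hd hi3 hn3 hi1 hn1 b
    rw [← e5] at vF
    exact val_unique T _ hdim1 _ _ _ vX vF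
  · push Not at hx
    refine DFinsupp.ext fun x => ?_
    have e1 : ((Q.tot M i₁ n₁ i₂ n₂ h2 h2').hom
        (fj T q (X.resι U hdU) (containsFj_range X U hU hdU)
          (ps T (X := Y.res (φ ⁻¹ᵁ U)) (Y := X.res U) (φ ∣_ U) hc hd b))) x = 0 :=
      (Q.tot_apply M i₁ n₁ i₂ n₂ h2 h2' _ x).trans
        (res_zero T Q x U hU (hx x.1 x.2) h2 h2' _)
    refine e1.trans (Eq.symm ?_)
    refine (famTot_apply T t F _ x ∅ ?_).trans Finset.sum_empty
    intro y hy hne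
    refine absurd ?_ hne
    refine (Q'.tot_apply M i n i₂ n₂ h4 h4' _ y).trans ?_
    refine res_zero T Q' y (φ ⁻¹ᵁ U) hU' ?_ h4 h4' _
    change φ y.1 ∈ U
    have h5 : φ y.1 = (t y).1 := (F y).maps_pt
    rw [h5, hy]
    exact hx x.1 x.2

end K876.NormRes
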