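import Groth.Agent.BMCoh.K876.Restr

/-!
# Groups of points: pieces of the closure of a point, flexible forms of the compatibilities
-/

set_option autoImplicit false
set_option linter.unusedSectionVars false
universe u

open TopologicalSpace Topology AlgebraicGeometry CategoryTheory BMCoh Opposite CategoryTheory.Limits

namespace K876.Points

open K876.Dim K876.Geom K876.Colim K876.Gysin K876.Union K876.Restr

variable {V : ObjectProperty Scheme.{u}} [IsConstructible V] {R : Type u} [CommRing R] {A : Coefs R}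
variable (T : PreTheory V R A)

instance isReduced_res (X : Obj V) [IsReduced X.scheme] (U : X.scheme.Opens) :
    IsReduced (X.res U).scheme := isReduced_of_isOpenImmersion U.ι

/-- The class at the point `x` of a class on a nonempty piece of its closure. -/
noncomputable abbrev pt {X : Obj V} (x : X.scheme) {W : Obj V} (w : W ⟶ X.ptSub x)
    (hw : (w.hom.opensRange : Set (X.ptSub x).scheme).Nonempty) {M : A.Cat} {i n : ℤ}
    (b : T.gp W M i n) : T.ptGp X x M i n :=
  oc T (fun U => (U : Set (X.ptSub x).scheme).Nonempty) w hw b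

/-- The class in the group of `F_j X` of a class on an open containing `F_j X`. -/
noncomputable abbrev fj {X : Obj V} (j : ℕ) {S : Obj V} (g : S ⟶ X)
    (hg : ContainsFj X j g.hom.opensRange) {M : A.Cat} {i n : ℤ}
    (a : T.gp S M i n) : T.fjGp X j M i n :=
  oc T (ContainsFj X j) g hg a

theorem range_nonempty {S X : Obj V} (g : S ⟶ X) [h : Nonempty S.scheme] :
    (g.hom.opensRange : Set X.scheme).Nonempty := by
  obtain ⟨s⟩ := h
  exact ⟨g.hom s, s, rfl⟩

theorem gpt_mem_range {X : Obj V} (x : X.scheme) {W : Obj V} (w : W ⟶ X.ptSub x)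
    (hw : (w.hom.opensRange : Set (X.ptSub x).scheme).Nonempty) :
    ∃ c : W.scheme, w.hom c = gpt X x := gpt_mem X x w.hom.opensRange hw

/-- A piece of a reduced immersed subscheme near a point of codimension zero is a piece of the
reduced closure of its image. -/
theorem exists_piece {Z X : Obj V} [IsReduced Z.scheme] (f : Z.scheme ⟶ X.scheme) [IsImmersion f]
    (z : Z.scheme) (N : Z.scheme.Opens)
    (hN : N ≤ nb Z z) (hzN : z ∈ N) :
    ∃ w : Z.res N ⟶ X.ptSub (f z), w.hom ≫ X.ptSubι (f z) = N.ι ≫ f := by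
  refine exists_hom_ptSub (S := Z.res N) (X := X) (N.ι ≫ f) (f z) ?_ ⟨z, hzN⟩ rfl
  rintro _ ⟨y, rfl⟩
  have h1 : N.ι y ∈ closure {z} := nb_le Z z (hN y.2)
  have h2 : z ⤳ N.ι y := specializes_iff_mem_closure.2 h1
  exact specializes_iff_mem_closure.1 (h2.map f.continuous)

/-- If the class at `x` of the restriction of `b` to a piece of the closure of `x` vanishes, then
`b` vanishes near the point over `x`. -/
theorem exists_van {Z X : Obj V} (f : Z.scheme ⟶ X.scheme) (x : X.scheme) {W : Obj V} (k : W ⟶ Z)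
    (w : W ⟶ X.ptSub x) (h : w.hom ≫ X.ptSubι x = k.hom ≫ f)
    (hw : (w.hom.opensRange : Set (X.ptSub x).scheme).Nonempty) {M : A.Cat} {i n : ℤ}
    (b : T.gp Z M i n) (hb : pt T x w hw (rs T k b) = 0) :
    ∃ (N : Z.scheme.Opens) (hN : WeilCoh.dim (N : Scheme.{u}) = WeilCoh.dim Z.scheme),
      (∃ z ∈ N, f z = x) ∧ rs T (Z.resι N hN) b = 0 := by
  obtain ⟨U, k', h1, h2⟩ := oc_eq_zero T (dir_ne (X.ptSub x)) w hw _ hb
  refine ⟨(k' ≫ k).hom.opensRange, dim_range _, ?_, ?_⟩
  · obtain ⟨c, hc⟩ : ∃ c : ((X.ptSub x).res U.1).scheme, U.1.ι c = gpt X x :=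
      ⟨⟨gpt X x, gpt_mem X x U.1 U.2.1⟩, rfl⟩
    refine ⟨(k' ≫ k).hom c, ⟨c, rfl⟩, ?_⟩
    have h3 : ((k' ≫ k).hom ≫ f) c = X.ptSubι x ((k' ≫ w).hom c) := by
      rw [comp_hom, Category.assoc, ← h, comp_hom]
      rfl
    have h4 : (k' ≫ w).hom c = gpt X x := by
      rw [h1]
      exact hc
    rw [h4, ptSubι_gpt] at h3
    exact h3
  · have h5 : toRange (k' ≫ k) ≫ (k' ≫ k) =
        Z.resι (k' ≫ k).hom.opensRange (dim_range (k' ≫ k)) :=
      BMCoh.Hom.ext (toRange_hom (k' ≫ k))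
    rw [← h5, rs_comp, rs_comp, h2, rs_zero]

/-! ### Flexible forms of the compatibilities -/

/-- A lift of the range back. -/
theorem exists_toRange {S X : Obj V} (g : S ⟶ X) :
    ∃ e : S.scheme ≅ (X.res g.hom.opensRange).scheme, e.inv = (toRange g).hom ∧
      e.hom ≫ g.hom.opensRange.ι = g.hom := by
  let e : S.scheme ≅ ((g.hom.opensRange : X.scheme.Opens) : Scheme.{u}) :=
    IsOpenImmersion.isoOfRangeEq g.hom g.hom.opensRange.ι (by rw [Scheme.Opens.range_ι]; rfl)
  have h1 : e.hom ≫ g.hom.opensRange.ι = g.hom := IsOpenImmersion.isoOfRangeEq_hom_fac _ _ _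
  refine ⟨e, ?_, h1⟩
  rw [← cancel_mono g.hom]
  exact ((Iso.inv_comp_eq e).2 h1.symm).trans (toRange_hom g).symm

/-- The compatibility of push-forward data in flexible form. -/
theorem push_spec {X : Obj V} {j : ℕ} (P : T.PushData X j) (x : X.cdPt j) {S : Obj V} (g : S ⟶ X)
    (hg : ContainsFj X j g.hom.opensRange) {W : Obj V} (w : W ⟶ X.ptSub x.1)
    (hw : (w.hom.opensRange : Set (X.ptSub x.1).scheme).Nonempty)
    (f : W.scheme ⟶ S.scheme) [IsProper f] (hf : f ≫ g.hom = w.hom ≫ X.ptSubι x.1)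
    {M : A.Cat} {i n i' n' : ℤ} (hi : i' = i + 2 * (j : ℤ)) (hn : n' = n + (j : ℤ))
    (hi' : i' = i + 2 * relCodim W.scheme S.scheme) (hn' : n' = n + relCodim W.scheme S.scheme)
    (b : T.gp W M i n) :
    (P.cpt x M i n i' n' hi hn).hom (pt T x.1 w hw b) = fj T j g hg (ps T f hi' hn' b) := by
  obtain ⟨eW, heW, heW'⟩ := exists_toRange w
  obtain ⟨eS, heS, heS'⟩ := exists_toRange g
  let f₀ : ((X.ptSub x.1).res w.hom.opensRange).scheme ⟶ (X.res g.hom.opensRange).scheme :=
    eW.inv ≫ f ≫ eS.hom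
  have hf₀ : f₀ ≫ g.hom.opensRange.ι = w.hom.opensRange.ι ≫ X.ptSubι x.1 := by
    change (eW.inv ≫ f ≫ eS.hom) ≫ _ = _
    rw [Category.assoc, Category.assoc, heS', hf, ← Category.assoc]
    exact congrArg (· ≫ _) ((Iso.inv_comp_eq eW).2 heW'.symm)
  have hd1 : WeilCoh.dim ((X.ptSub x.1).res w.hom.opensRange).scheme = WeilCoh.dim W.scheme :=
    (toRange w).dim_eq
  have hd2 : WeilCoh.dim (X.res g.hom.opensRange).scheme = WeilCoh.dim S.scheme :=
    (toRange g).dim_eq
  have hc : relCodim ((X.ptSub x.1).res w.hom.opensRange).scheme (X.res g.hom.opensRange).scheme =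
      relCodim W.scheme S.scheme := by
    unfold relCodim
    rw [hd1, hd2]
  have h1 := congrArg (fun φ => φ.hom (rs T (toRange w) b))
    (P.cpt_spec x M i n i' n' hi hn ⟨g.hom.opensRange, hg, dim_range g⟩
      ⟨w.hom.opensRange, hw, dim_range w⟩ f₀ hf₀ (by rw [hc]; exact hi') (by rw [hc]; exact hn'))
  refine h1.trans ?_
  have h2 : rs T (toRange g) (ps T f hi' hn' b) =
      ps T f₀ (by rw [hc]; exact hi') (by rw [hc]; exact hn') (rs T (toRange w) b) := by
    refine rs_ps T f f₀ (toRange g) (toRange w) ?_ ?_ hi' hn' _ _ b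
    · rw [← heW, ← heS]
      change _ = (eW.inv ≫ f ≫ eS.hom) ≫ _
      rw [Category.assoc, Category.assoc, Iso.hom_inv_id, Category.comp_id]
    · intro y _
      rw [← heW]
      exact ⟨eW.hom y, by rw [← Scheme.Hom.comp_apply, Iso.hom_inv_id]; rfl⟩
  exact congrArg (fun c => ((T.fjι X j i' n' ⟨g.hom.opensRange, hg, dim_range g⟩).app M).hom c)
    h2.symm

/-- The compatibility of residue data in flexible form. -/
theorem res_spec {X : Obj V} {j : ℕ} (Q : T.ResData X j) (x : X.cdPt (j + 1)) {Y : Obj V}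
    (e : Y ⟶ X) (D : Decomp Y) {W : Obj V} (w : W ⟶ X.ptSub x.1)
    (hw : (w.hom.opensRange : Set (X.ptSub x.1).scheme).Nonempty) (γ : W ⟶ D.Z)
    (hγ : γ.hom ≫ D.i ≫ e.hom = w.hom ≫ X.ptSubι x.1) (g : D.U ⟶ X) (hg' : D.j ≫ e = g)
    (hg : ContainsFj X j g.hom.opensRange)
    {M : A.Cat} {i n i' n' : ℤ} (hi : i' = i + 1 - 2 * ((j : ℤ) + 1)) (hn : n' = n - ((j : ℤ) + 1))
    (hi' : i' = i + 1 - 2 * D.codim) (hn' : n' = n - D.codim) (a : T.gp D.U M i n) :
    (Q.cpt x M i n i' n' hi hn).hom (fj T j g hg a) =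
      pt T x.1 w hw (rs T γ (rd T D hi' hn' a)) := by
  subst hg'
  have h1 := congrArg (fun φ => φ.hom a)
    (Q.cpt_spec x M i n i' n' hi hn e D ⟨w.hom.opensRange, hw, dim_range w⟩ (toRange w ≫ γ)
      (by
        rw [comp_hom, Category.assoc, hγ, ← Category.assoc]
        exact congrArg (· ≫ _) (toRange_hom w))
      ⟨(D.j ≫ e).hom.opensRange, hg, dim_range _⟩ (toRange (D.j ≫ e)) (toRange_hom (D.j ≫ e))
      hi' hn')
  refine h1.trans ?_
  change ((T.ptι X x.1 i' n' ⟨w.hom.opensRange, hw, dim_range w⟩).app M).hom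
    (rs T (toRange w ≫ γ) (rd T D hi' hn' a)) = _
  rw [rs_comp]
  rfl

end K876.Points
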