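import Groth.Agent.BMCoh.K876.Ext

/-!
# Vanishing near the generic points from vanishing in the groups of points
-/

set_option autoImplicit false
set_option linter.unusedSectionVars false
universe u

open TopologicalSpace Topology AlgebraicGeometry CategoryTheory BMCoh Opposite CategoryTheory.Limits

namespace K876.PtVan

open K876.Dim K876.Geom K876.Colim K876.Gysin K876.Union K876.Restr K876.Points K876.PushUniq
  K876.ResComp K876.Ext

variable {V : ObjectProperty Scheme.{u}} [IsConstructible V] {R : Type u} [CommRing R] {A : Coefs R}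
variable (T : PreTheory V R A)

theorem nonempty_range_of_mem {Z C : Obj V} {N : Z.scheme.Opens} {z : Z.scheme} (hz : z ∈ N)
    (w : Z.res N ⟶ C) : (w.hom.opensRange : Set C.scheme).Nonempty := by
  have : Nonempty (Z.res N).scheme := ⟨lp Z N z hz⟩
  exact range_nonempty w

theorem exists_vanish_pt {Z X : Obj V} [IsReduced Z.scheme] (f : Z.scheme ⟶ X.scheme)
    [IsImmersion f] {M : A.Cat} {i n : ℤ} (c : T.gp Z M i n)
    (h : ∀ (z : Z.scheme) (hz : WeilCoh.codim Z.scheme z = 0)
      (w : Z.res (nb Z z) ⟶ X.ptSub (f z)), w.hom ≫ X.ptSubι (f z) = (nb Z z).ι ≫ f →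
      pt T (f z) w (nonempty_range_of_mem (mem_nb Z z hz) w)
        (rs T (Z.resι (nb Z z) (dim_res_eq Z _ z hz (mem_nb Z z hz))) c) = 0) :
    ∃ (N : Z.scheme.Opens) (hN : ContainsFj Z 0 N),
      rs T (Z.resι N (dim_res_eq_of_contains Z N hN)) c = 0 := by
  refine exists_vanish T Z c fun z hz => ?_
  obtain ⟨w, hw⟩ := exists_piece f z (nb Z z) le_rfl (mem_nb Z z hz)
  obtain ⟨N, hN, ⟨z', hz', hfz⟩, h0⟩ := exists_van T f (f z)
    (Z.resι (nb Z z) (dim_res_eq Z _ z hz (mem_nb Z z hz))) w hw _ c (h z hz w hw)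
  have : z' = z := f.isEmbedding.injective hfz
  exact ⟨N, hN, this ▸ hz', h0⟩

/-- The residues determine whether the residue class vanishes on an open containing the points of
codimension zero of the closed part. -/
theorem exists_vanish_res {X : Obj V} {j : ℕ} (Q : T.ResData X j) {S : Obj V} (g : S ⟶ X)
    (hg : ContainsFj X j g.hom.opensRange)
    (hd : WeilCoh.dim (decOf g).Z.scheme + (j + 1) = WeilCoh.dim X.scheme)
    {M : A.Cat} {i n i' n' : ℤ} (hi : i' = i + 1 - 2 * ((j : ℤ) + 1)) (hn : n' = n - ((j : ℤ) + 1))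
    (hi' : i' = i + 1 - 2 * (decOf g).codim) (hn' : n' = n - (decOf g).codim) (a : T.gp S M i n)
    (h : ∀ x : X.cdPt (j + 1), (Q.cpt x M i n i' n' hi hn).hom (fj T j g hg a) = 0) :
    ∃ (N : (decOf g).Z.scheme.Opens) (hN : ContainsFj (decOf g).Z 0 N),
      rs T ((decOf g).Z.resι N (dim_res_eq_of_contains _ N hN)) (rd T (decOf g) hi' hn' a) = 0 := by
  refine exists_vanish_pt T (decOf g).i _ fun z hz w hw => ?_
  have hx : WeilCoh.codim X.scheme ((decOf g).i z) = j + 1 := by
    have := codim_add (decOf g).i (j + 1) hd z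
    omega
  have h1 := res_spec T Q ⟨(decOf g).i z, hx⟩ (𝟙 X) (decOf g) w
    (nonempty_range_of_mem (mem_nb (decOf g).Z z hz) w)
    ((decOf g).Z.resι (nb (decOf g).Z z) (dim_res_eq _ _ z hz (mem_nb (decOf g).Z z hz)))
    (by rw [id_hom, Category.comp_id]; exact hw.symm) g (Category.comp_id _) hg hi hn hi' hn' a
  rw [← h1]
  exact h _

/-- A class all of whose residues vanish extends. -/
theorem exists_lift_of_res_zero {X : Obj V} {j : ℕ} (Q : T.ResData X j)
    {M : A.Cat} {i n i' n' : ℤ} (hi : i' = i + 1 - 2 * ((j : ℤ) + 1)) (hn : n' = n - ((j : ℤ) + 1))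
    (ξ : T.fjGp X j M i n)
    (h : ∀ x : X.cdPt (j + 1), (Q.cpt x M i n i' n' hi hn).hom ξ = 0) :
    ∃ η : T.fjGp X (j + 1) M i n, ((T.fjRes X (Nat.le_succ j) i n).app M).hom η = ξ := by
  obtain ⟨U, hU, a, rfl⟩ := fj_rep T ξ
  by_cases hx : ∃ x : X.scheme, WeilCoh.codim X.scheme x = j + 1 ∧ x ∉ U
  · obtain ⟨x, hx, hxU⟩ := hx
    let g := X.resι U (dim_res_eq_of_containsFj X j U hU)
    have hg := containsFj_range X U hU (dim_res_eq_of_containsFj X j U hU)
    have hd : WeilCoh.dim (decOf g).Z.scheme + (j + 1) = WeilCoh.dim X.scheme :=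
      dim_decOf g hg x hx (by
        change x ∉ Set.range U.ι
        rw [Scheme.Opens.range_ι]
        exact hxU)
    have hc : (decOf g).codim = (j : ℤ) + 1 := (codim_eq_of_dim hd).trans (by push_cast; rfl)
    obtain ⟨N, hN, h0⟩ := exists_vanish_res T Q g hg hd hi hn (by rw [hc]; exact hi)
      (by rw [hc]; exact hn) a h
    obtain ⟨O, hO, b, k, hk, hb⟩ := exists_ext T g (by rw [hc]; exact hi)
      (by rw [hc]; exact hn) a N (dim_res_eq_of_contains _ N hN) h0 (j + 1) (fun z hz => by
        have h1 := codim_add (decOf g).i (j + 1) hd z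
        have h2 : ¬ WeilCoh.codim (decOf g).Z.scheme z ≤ 0 := fun h => hz (hN z h)
        omega)
    exact ⟨_, fjRes_ext T (Nat.le_succ j) g hg a hO b k hk hb⟩
  · push Not at hx
    have hU' : ContainsFj X (j + 1) U := by
      intro y hy
      by_cases h1 : WeilCoh.codim X.scheme y ≤ j
      · exact hU y h1
      · exact hx y (by omega)
    exact ⟨_, fjRes_fj T (Nat.le_succ j) _ (containsFj_range X U hU' _) a⟩

end K876.PtVan
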