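import Groth.Agent.BMCoh.K876.GenClass

/-!
# The total push-forward of the values of a class on a closed piece
-/

set_option autoImplicit false
set_option linter.unusedSectionVars false
universe u

open TopologicalSpace Topology AlgebraicGeometry CategoryTheory BMCoh Opposite CategoryTheory.Limits

namespace K876.PushTot

open K876.Dim K876.Geom K876.Colim K876.Gysin K876.Union K876.Restr K876.Points K876.PushUniq
  K876.ResComp K876.Ext K876.PtVan K876.NegVan K876.FjBij K876.GenClass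

variable {V : ObjectProperty Scheme.{u}} [IsConstructible V] {R : Type u} [CommRing R] {A : Coefs R}
variable (T : PreTheory V R A)

theorem fj_sum {X : Obj V} {j : ℕ} {S : Obj V} (g : S ⟶ X)
    (hg : ContainsFj X j g.hom.opensRange) {M : A.Cat} {i n : ℤ} {K : Type*} (s : Finset K)
    (a : K → T.gp S M i n) :
    fj T j g hg (∑ k ∈ s, a k) = ∑ k ∈ s, fj T j g hg (a k) := by
  simp [oc, rs]

/-- A family supported on the generic points of a piece is the sum of its values. -/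
theorem eq_sum_lof {Z X : Obj V} {j : ℕ} (f : Z.scheme ⟶ X.scheme) [IsImmersion f]
    (hd : WeilCoh.dim Z.scheme + j = WeilCoh.dim X.scheme) [Fintype (Gpt Z)]
    [DecidableEq (X.cdPt j)] {M : A.Cat} {i n : ℤ}
    (η : T.ptSum X j M i n) (h : ∀ x : X.cdPt j, x.1 ∉ Set.range f → η x = 0) :
    η = ∑ z, DirectSum.lof R (X.cdPt j) (fun y : X.cdPt j => T.ptGp X y.1 M i n)
      (gim f hd z) (η (gim f hd z)) := by
  refine DFinsupp.ext fun x => ?_
  by_cases hx : x.1 ∈ Set.range f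
  · obtain ⟨z, hz⟩ := exists_gpt f hd x hx
    have hx' : x = gim f hd z := Subtype.ext hz.symm
    rw [hx']
    exact (sum_lof_apply (R := R) (B := fun y : X.cdPt j => T.ptGp X y.1 M i n) (gim f hd)
      (gim_injective f hd) (fun z => η (gim f hd z)) z).symm
  · rw [h x hx]
    refine (sum_lof_apply_ne (R := R) (B := fun y : X.cdPt j => T.ptGp X y.1 M i n) (gim f hd)
      (fun z => η (gim f hd z)) x ?_).symm
    rintro z rfl
    exact hx ⟨z.1, rfl⟩

/-- The total push-forward of the family of values of a class on a closed piece of an object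
containing `F_j X` is the class of its push-forward. -/
theorem tot_val {Z Y X : Obj V} [IsReduced Z.scheme] {j : ℕ} (P : T.PushData X j) (e : Y ⟶ X)
    (he : ContainsFj X j e.hom.opensRange) (ι : Z.scheme ⟶ Y.scheme) [IsClosedImmersion ι]
    (hd : WeilCoh.dim Z.scheme + j = WeilCoh.dim X.scheme) {M : A.Cat} {i n i' n' : ℤ}
    (hi : i' = i + 2 * (j : ℤ)) (hn : n' = n + (j : ℤ))
    (hi' : i' = i + 2 * relCodim Z.scheme Y.scheme) (hn' : n' = n + relCodim Z.scheme Y.scheme)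
    (c : T.gp Z M i n) (η : T.ptSum X j M i n) (hη : Val T (ι ≫ e.hom) c η) :
    (P.tot M i n i' n' hi hn).hom η = fj T j e he (ps T ι hi' hn' c) := by
  classical
  have := Fintype.ofFinite (Gpt Z)
  -- the neighbourhoods of the generic points of `Z`
  have hp : ∀ z : Gpt Z, ∃ w : Z.res (nb Z z.1) ⟶ X.ptSub ((ι ≫ e.hom) z.1),
      w.hom ≫ X.ptSubι ((ι ≫ e.hom) z.1) = (nb Z z.1).ι ≫ (ι ≫ e.hom) :=
    fun z => exists_piece (ι ≫ e.hom) z.1 (nb Z z.1) le_rfl (mem_nb Z z.1 z.2)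
  choose w hw using hp
  obtain ⟨O, hO1, hO2⟩ := exists_open_of_closed ι (⨆ z : Gpt Z, nb Z z.1)
  have hle : ∀ z : Gpt Z, nb Z z.1 ≤ ι ⁻¹ᵁ O := fun z => by
    rw [hO2]; exact le_iSup (fun z : Gpt Z => nb Z z.1) z
  have hcov : ∀ y ∈ ι ⁻¹ᵁ O, ∃ z : Gpt Z, y ∈ nb Z z.1 := by
    intro y hy
    rw [hO2] at hy
    exact TopologicalSpace.Opens.mem_iSup.1 hy
  have hmem : ∀ z : Gpt Z, z.1 ∈ nb Z z.1 := fun z => mem_nb Z z.1 z.2
  let C := genCov Z (ι ⁻¹ᵁ O) (fun z => nb Z z.1) hle hcov (fun z => le_rfl) hmem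
  have hF : ContainsFj Z 0 (ι ⁻¹ᵁ O) := fun y hy => hle ⟨y, Nat.le_zero.1 hy⟩ (hmem ⟨y, _⟩)
  have hdZ := dim_res_eq_of_contains Z _ hF
  have hOY : ContainsFj Y j O := by
    intro y hy
    by_contra hyO
    obtain ⟨z, rfl⟩ : y ∈ Set.range ι := by
      by_contra h
      exact hyO (hO1 h)
    refine hyO (hF z ?_)
    have h1 := codim_add (ι ≫ e.hom) j hd z
    have h2 := codim_hom e (ι z)
    have h3 : (ι ≫ e.hom) z = e.hom (ι z) := rfl
    rw [h3] at h1
    omega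
  have hdO := dim_res_eq_of_containsFj Y j O hOY
  have hOX : ContainsFj X j (Y.resι O hdO ≫ e).hom.opensRange := by
    intro y hy
    obtain ⟨y', rfl⟩ := he y hy
    have : y' ∈ O := hOY y' (by rw [codim_hom e]; exact hy)
    exact ⟨lp Y O y' this, rfl⟩
  have hproper : ∀ z, IsProper (C.w z).hom := fun z => by
    have := C.isClosedImmersion z
    infer_instance
  have hr0 : ∀ z : Gpt Z,
      relCodim (Z.res (nb Z z.1)).scheme (Z.res (ι ⁻¹ᵁ O)).scheme = 0 :=
    fun z => relCodim_hom (C.w z)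
  have hrc : relCodim (Z.res (ι ⁻¹ᵁ O)).scheme (Y.res O).scheme = relCodim Z.scheme Y.scheme := by
    unfold relCodim
    rw [show WeilCoh.dim (Y.res O).scheme = WeilCoh.dim Y.scheme from hdO,
      show WeilCoh.dim (Z.res (ι ⁻¹ᵁ O)).scheme = WeilCoh.dim Z.scheme from hdZ]
  have hrz : ∀ z : Gpt Z, relCodim (Z.res (nb Z z.1)).scheme (Y.res O).scheme =
      relCodim Z.scheme Y.scheme := by
    intro z
    have h1 := hr0 z
    rw [← hrc]
    unfold relCodim at h1 ⊢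
    omega
  -- restriction to `O`
  have e1 : fj T j e he (ps T ι hi' hn' c) = fj T j (Y.resι O hdO ≫ e) hOX
      (ps T (X := Z.res (ι ⁻¹ᵁ O)) (Y := Y.res O) (ι ∣_ O) (by rw [hrc]; exact hi')
        (by rw [hrc]; exact hn') (rs T (Z.resι (ι ⁻¹ᵁ O) hdZ) c)) := by
    rw [← fj_rs T (Y.resι O hdO) e _ rfl he hOX]
    congr 1
    refine rs_ps T ι (X' := Z.res (ι ⁻¹ᵁ O)) (Y' := Y.res O) (ι ∣_ O) (Y.resι O hdO)
      (Z.resι (ι ⁻¹ᵁ O) hdZ) (morphismRestrict_ι _ _).symm ?_ hi' hn' _ _ c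
    intro z hz
    have h1 : ι z ∈ Set.range O.ι := hz
    rw [Scheme.Opens.range_ι] at h1
    change z ∈ Set.range (ι ⁻¹ᵁ O).ι
    rw [Scheme.Opens.range_ι]
    exact h1
  -- the sum decomposition
  have e2 := C.sum_eq T (M := M) (i := i) (n := n) (fun z => by rw [hr0 z]; ring)
    (fun z => by rw [hr0 z]; ring) (rs T (Z.resι (ι ⁻¹ᵁ O) hdZ) c)
  rw [e1, e2, ps_sum, fj_sum]
  rw [eq_sum_lof T (ι ≫ e.hom) hd η hη.off, map_sum]
  refine Finset.sum_congr rfl fun z _ => ?_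
  rw [P.tot_lof]
  have h1 := hη.at_pt (gim (ι ≫ e.hom) hd z) (Z.res (nb Z z.1))
    (Z.resι (nb Z z.1) (dim_res_eq Z _ z.1 z.2 (hmem z))) (w z)
    (nonempty_range_of_mem (hmem z) (w z)) (hw z)
  rw [h1]
  have h2 : C.w z ≫ Z.resι (ι ⁻¹ᵁ O) hdZ =
      Z.resι (nb Z z.1) (dim_res_eq Z _ z.1 z.2 (hmem z)) :=
    BMCoh.Hom.ext (Scheme.homOfLE_ι Z.scheme (hle z))
  have : IsProper ((C.w z).hom ≫ (ι ∣_ O)) := inferInstance
  rw [push_spec T P (gim (ι ≫ e.hom) hd z) (Y.resι O hdO ≫ e) hOX (w z)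
    (nonempty_range_of_mem (hmem z) (w z)) ((C.w z).hom ≫ (ι ∣_ O)) ?_ hi hn
    (by rw [hrz z]; exact hi') (by rw [hrz z]; exact hn')]
  · congr 1
    rw [← rs_comp, h2]
    exact (ps_comp T (X := Z.res (nb Z z.1)) (Y := Z.res (ι ⁻¹ᵁ O)) (Z := Y.res O)
      (C.w z).hom (ι ∣_ O) _ rfl _ _ _ _ _ _ _).symm
  · refine Eq.trans ?_ (hw z).symm
    have h3 := congrArg BMCoh.Hom.hom h2
    rw [comp_hom] at h3
    have h4 : (C.w z).hom ≫ (ι ⁻¹ᵁ O).ι = (nb Z z.1).ι := h3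
    rw [← h4, comp_hom, Category.assoc, Category.assoc]
    congr 1
    rw [← Category.assoc, ← Category.assoc]
    exact congrArg (· ≫ e.hom) (morphismRestrict_ι ι O)

end K876.PushTot
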