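import Groth.Agent.BMCoh.K876.Points

/-!
# Representatives for the groups of points; computation of push-forward data
-/

set_option autoImplicit false
set_option linter.unusedSectionVars false
universe u

open TopologicalSpace Topology AlgebraicGeometry CategoryTheory BMCoh Opposite CategoryTheory.Limits

namespace K876.PushUniq

open K876.Dim K876.Geom K876.Colim K876.Gysin K876.Union K876.Restr K876.Points

variable {V : ObjectProperty Scheme.{u}} [IsConstructible V] {R : Type u} [CommRing R] {A : Coefs R}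
variable (T : PreTheory V R A)

theorem pc_nonempty (X : Obj V) (x : X.scheme) (O : X.scheme.Opens) (hx : x ∈ O) :
    ((X.ptSubι x ⁻¹ᵁ O : (X.ptSub x).scheme.Opens) : Set (X.ptSub x).scheme).Nonempty :=
  ⟨gpt X x, by
    change X.ptSubι x (gpt X x) ∈ O
    rw [ptSubι_gpt]; exact hx⟩

/-- The piece of the closure of `x` in an open containing `x`. -/
noncomputable def pc (X : Obj V) (x : X.scheme) (O : X.scheme.Opens) (hx : x ∈ O) :
    (X.ptSub x).res (X.ptSubι x ⁻¹ᵁ O) ⟶ X.ptSub x :=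
  (X.ptSub x).resι (X.ptSubι x ⁻¹ᵁ O) (IsConstructible.dim_open (X.ptSub x).mem inferInstance _
    (pc_nonempty X x O hx))

theorem pc_ne (X : Obj V) (x : X.scheme) (O : X.scheme.Opens) (hx : x ∈ O) :
    ((pc X x O hx).hom.opensRange : Set (X.ptSub x).scheme).Nonempty := by
  unfold pc
  rw [opensRange_resι]
  exact pc_nonempty X x O hx

theorem exists_open_of_closed {X C : Scheme.{u}} (f : C ⟶ X) [IsClosedImmersion f] (N : C.Opens) :
    ∃ O : X.Opens, (Set.range f)ᶜ ⊆ O ∧ f ⁻¹ᵁ O = N := by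
  have hc : IsClosed (f '' (N : Set C)ᶜ) :=
    f.isClosedEmbedding.isClosedMap _ N.isOpen.isClosed_compl
  refine ⟨⟨(f '' (N : Set C)ᶜ)ᶜ, hc.isOpen_compl⟩, ?_, ?_⟩
  · rintro x hx ⟨z, -, rfl⟩
    exact hx ⟨z, rfl⟩
  · apply TopologicalSpace.Opens.ext
    ext z
    change z ∉ f ⁻¹' (f '' (N : Set C)ᶜ) ↔ _
    rw [Set.preimage_image_eq _ f.isClosedEmbedding.injective]
    exact not_not

/-- Representatives for the groups of points. -/
theorem pt_rep (X : Obj V) (x : X.scheme) {M : A.Cat} {i n : ℤ} (ξ : T.ptGp X x M i n) :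
    ∃ (O : X.scheme.Opens) (hx : x ∈ O) (_ : (closure {x})ᶜ ⊆ (O : Set X.scheme))
      (b : T.gp ((X.ptSub x).res (X.ptSubι x ⁻¹ᵁ O)) M i n),
      pt T x (pc X x O hx) (pc_ne X x O hx) b = ξ := by
  obtain ⟨⟨U, hU1, hU2⟩, b, rfl⟩ := oc_rep T (dir_ne (X.ptSub x)) ξ
  obtain ⟨O, hO, rfl⟩ := exists_open_of_closed (X.ptSubι x) U
  refine ⟨O, ?_, ?_, b, rfl⟩
  · have := gpt_mem X x _ hU1
    change X.ptSubι x (gpt X x) ∈ O at this
    rwa [ptSubι_gpt] at this
  · rwa [range_ptSubι] at hO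

theorem containsFj_of_compl (X : Obj V) {j : ℕ} (x : X.scheme)
    (hj : WeilCoh.codim X.scheme x = j) (O : X.scheme.Opens) (hx : x ∈ O)
    (hO : (closure {x})ᶜ ⊆ (O : Set X.scheme)) : ContainsFj X j O := by
  intro y hy
  by_contra hyO
  have h1 : y ∈ closure {x} := by
    by_contra h
    exact hyO (hO h)
  have h2 : x ⤳ y := specializes_iff_mem_closure.2 h1
  have h3 : y = x := eq_of_specializes (fin X) h2 (by
    have := pdim_add_codim X x
    have := pdim_add_codim X y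
    omega)
  exact hyO (h3 ▸ hx)

theorem containsFj_range (X : Obj V) {j : ℕ} (O : X.scheme.Opens) (hO : ContainsFj X j O)
    (hd : WeilCoh.dim (O : Scheme.{u}) = WeilCoh.dim X.scheme) :
    ContainsFj X j (X.resι O hd).hom.opensRange := by
  rw [opensRange_resι]; exact hO

theorem relCodim_pc (X : Obj V) {j : ℕ} (x : X.scheme)
    (hj : WeilCoh.codim X.scheme x = j) (O : X.scheme.Opens) (hx : x ∈ O)
    (hd : WeilCoh.dim (O : Scheme.{u}) = WeilCoh.dim X.scheme) :
    relCodim ((X.ptSub x).res (X.ptSubι x ⁻¹ᵁ O)).scheme (X.res O).scheme = (j : ℤ) := by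
  unfold relCodim
  rw [show WeilCoh.dim (X.res O).scheme = WeilCoh.dim X.scheme from hd, (pc X x O hx).dim_eq,
    dim_ptSub]
  have := pdim_add_codim X x
  omega

/-- The computation of push-forward data on representatives. -/
theorem push_pc {X : Obj V} {j : ℕ} (P : T.PushData X j) (x : X.cdPt j) (O : X.scheme.Opens)
    (hx : x.1 ∈ O) (hO : ContainsFj X j O)
    {M : A.Cat} {i n i' n' : ℤ} (hi : i' = i + 2 * (j : ℤ)) (hn : n' = n + (j : ℤ))
    (hi' : i' = i + 2 * relCodim ((X.ptSub x.1).res (X.ptSubι x.1 ⁻¹ᵁ O)).scheme (X.res O).scheme)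
    (hn' : n' = n + relCodim ((X.ptSub x.1).res (X.ptSubι x.1 ⁻¹ᵁ O)).scheme (X.res O).scheme)
    (b : T.gp ((X.ptSub x.1).res (X.ptSubι x.1 ⁻¹ᵁ O)) M i n) :
    (P.cpt x M i n i' n' hi hn).hom (pt T x.1 (pc X x.1 O hx) (pc_ne X x.1 O hx) b) =
      fj T j (X.resι O (dim_res_eq_of_containsFj X j O hO)) (containsFj_range X O hO _)
        (ps T (X := (X.ptSub x.1).res (X.ptSubι x.1 ⁻¹ᵁ O)) (Y := X.res O) (X.ptSubι x.1 ∣_ O)
          hi' hn' b) :=
  push_spec T P x (X.resι O (dim_res_eq_of_containsFj X j O hO)) (containsFj_range X O hO _)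
    (pc X x.1 O hx) (pc_ne X x.1 O hx) (X.ptSubι x.1 ∣_ O) (morphismRestrict_ι _ _) hi hn hi' hn' b

end K876.PushUniq
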