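import Groth.Agent.BMCoh.K876.ExactPush

/-!
# Representing families of classes at points on a reduced closed piece; exactness at the points
-/

set_option autoImplicit false
set_option linter.unusedSectionVars false
universe u

open TopologicalSpace Topology AlgebraicGeometry CategoryTheory BMCoh Opposite CategoryTheory.Limits

namespace K876.Rep

open K876.Dim K876.Geom K876.Colim K876.Gysin K876.Union K876.Restr K876.Points K876.PushUniq
  K876.ResComp K876.Ext K876.PtVan K876.NegVan K876.FjBij K876.GenClass K876.PushTot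

variable {V : ObjectProperty Scheme.{u}} [IsConstructible V] {R : Type u} [CommRing R] {A : Coefs R}
variable (T : PreTheory V R A)

theorem Val.of' {Z X : Obj V} {j : ℕ} (f : Z.scheme ⟶ X.scheme) [IsImmersion f]
    {M : A.Cat} {i n : ℤ} (c : T.gp Z M i n) (η : T.ptSum X j M i n)
    (h1 : ∀ x : X.cdPt j, x.1 ∈ Set.range f → ∃ (W : Obj V) (k : W ⟶ Z) (w : W ⟶ X.ptSub x.1)
      (hw : (w.hom.opensRange : Set (X.ptSub x.1).scheme).Nonempty),
      w.hom ≫ X.ptSubι x.1 = k.hom ≫ f ∧ η x = pt T x.1 w hw (rs T k c))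
    (h2 : ∀ x : X.cdPt j, x.1 ∉ Set.range f → η x = 0) : Val T f c η where
  off := h2
  at_pt := by
    intro x W k w hw h
    obtain ⟨y, hy⟩ := gpt_mem_range x.1 w hw
    have hx : x.1 ∈ Set.range f := ⟨k.hom y, by
      have h3 : (k.hom ≫ f) y = X.ptSubι x.1 (w.hom y) := by
        rw [← h]; rfl
      rw [hy, ptSubι_gpt] at h3
      exact h3⟩
    obtain ⟨W', k', w', hw', h', h0⟩ := h1 x hx
    exact h0.trans (pt_indep T f x.1 k' k w' w h' h hw' hw c)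

/-- A nonzero finite family of classes at points of codimension `j` is the family of values of a
class on a reduced closed piece of an open containing `F_j X`. -/
theorem exists_rep {X : Obj V} {j : ℕ} {M : A.Cat} {i n : ℤ} (η : T.ptSum X j M i n)
    (hη : η ≠ 0) :
    ∃ (Z Y : Obj V) (_ : IsReduced Z.scheme) (e : Y ⟶ X) (_ : ContainsFj X j e.hom.opensRange)
      (ι : Z.scheme ⟶ Y.scheme) (_ : IsClosedImmersion ι)
      (_ : WeilCoh.dim Z.scheme + j = WeilCoh.dim X.scheme) (c : T.gp Z M i n),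
      Val T (ι ≫ e.hom) c η ∧ ∀ x : X.cdPt j, η x = 0 → x.1 ∉ Set.range (ι ≫ e.hom) := by
  classical
  -- the support
  let s : Finset (X.cdPt j) := DFinsupp.support η
  have hs : ∀ x : X.cdPt j, x ∈ s ↔ η x ≠ 0 := fun x => DFinsupp.mem_support_iff
  obtain ⟨x₀, hx₀⟩ : s.Nonempty := by
    by_contra h
    rw [Finset.not_nonempty_iff_eq_empty] at h
    exact hη (DFinsupp.support_eq_empty.1 h)
  -- the closed subset
  let C : Set X.scheme := ⋃ x ∈ s, closure {x.1}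
  have hC : IsClosed C := s.finite_toSet.isClosed_biUnion fun x _ => isClosed_closure
  have hsC : ∀ x ∈ s, x.1 ∈ C := fun x hx => Set.mem_biUnion (x := x) hx (subset_closure rfl)
  have hall : ∀ y ∈ C, j ≤ WeilCoh.codim X.scheme y := by
    intro y hy
    obtain ⟨x, hx, hy⟩ := Set.mem_iUnion₂.1 hy
    have h2 : x.1 ⤳ y := specializes_iff_mem_closure.2 hy
    have := pdim_le (fin X) h2
    have := pdim_add_codim X x.1
    have := pdim_add_codim X y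
    have := x.2
    omega
  have hCs : ∀ y (hy : WeilCoh.codim X.scheme y = j), y ∈ C → (⟨y, hy⟩ : X.cdPt j) ∈ s := by
    intro y hy hyC
    obtain ⟨x, hx, hyx⟩ := Set.mem_iUnion₂.1 hyC
    have h2 : x.1 ⤳ y := specializes_iff_mem_closure.2 hyx
    have h3 : y = x.1 := eq_of_specializes (fin X) h2 (by
      have := pdim_add_codim X x.1
      have := pdim_add_codim X y
      have := x.2
      omega)
    have h4 : (⟨y, hy⟩ : X.cdPt j) = x := Subtype.ext h3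
    rw [h4]
    exact hx
  let Z₀ := clo X C hC
  let f₀ : Z₀.scheme ⟶ X.scheme := cloι X C hC
  have hf₀ : Set.range f₀ = C := range_cloι X C hC
  have hmemC : ∀ z, f₀ z ∈ C := fun z => hf₀ ▸ ⟨z, rfl⟩
  have hd₀ : WeilCoh.dim Z₀.scheme + j = WeilCoh.dim X.scheme := by
    obtain ⟨z, hz⟩ : x₀.1 ∈ Set.range f₀ := by rw [hf₀]; exact hsC x₀ hx₀
    exact dim_add_eq f₀ j z (by rw [hz]; exact x₀.2) fun t => hall _ (hmemC t)
  have := Fintype.ofFinite (Gpt Z₀)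
  -- representatives
  have hrep : ∀ z : Gpt Z₀, ∃ (O : X.scheme.Opens) (hx : f₀ z.1 ∈ O)
      (b : T.gp ((X.ptSub (f₀ z.1)).res (X.ptSubι (f₀ z.1) ⁻¹ᵁ O)) M i n),
      pt T (f₀ z.1) (pc X (f₀ z.1) O hx) (pc_ne X (f₀ z.1) O hx) b = η (gim f₀ hd₀ z) := by
    intro z
    obtain ⟨O, hx, -, b, hb⟩ := pt_rep T X (f₀ z.1) (η (gim f₀ hd₀ z))
    exact ⟨O, hx, b, hb⟩
  choose O hxO b hb using hrep
  let Nz : Gpt Z₀ → Z₀.scheme.Opens := fun z => nb Z₀ z.1 ⊓ (f₀ ⁻¹ᵁ O z)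
  have hNz : ∀ z, z.1 ∈ Nz z := fun z => ⟨mem_nb Z₀ z.1 z.2, hxO z⟩
  have hp : ∀ z : Gpt Z₀, ∃ w : Z₀.res (Nz z) ⟶ X.ptSub (f₀ z.1),
      w.hom ≫ X.ptSubι (f₀ z.1) = (Nz z).ι ≫ f₀ :=
    fun z => exists_piece f₀ z.1 (Nz z) inf_le_left (hNz z)
  choose w hw using hp
  have hwr : ∀ z, Set.range (w z).hom ⊆ Set.range (pc X (f₀ z.1) (O z) (hxO z)).hom := by
    intro z
    have h1 : Set.range (pc X (f₀ z.1) (O z) (hxO z)).hom =
        (X.ptSubι (f₀ z.1) ⁻¹ᵁ (O z) : (X.ptSub (f₀ z.1)).scheme.Opens) :=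
      Scheme.Opens.range_ι _
    rw [h1]
    rintro _ ⟨y, rfl⟩
    have h2 : X.ptSubι (f₀ z.1) ((w z).hom y) = f₀ ((Nz z).ι y) :=
      congrArg (fun φ => φ y) (hw z)
    change X.ptSubι (f₀ z.1) ((w z).hom y) ∈ O z
    rw [h2]
    exact y.2.2
  let l : ∀ z : Gpt Z₀, Z₀.res (Nz z) ⟶ (X.ptSub (f₀ z.1)).res (X.ptSubι (f₀ z.1) ⁻¹ᵁ O z) :=
    fun z => liftHom (pc X (f₀ z.1) (O z) (hxO z)) (w z) (hwr z)
  -- the open
  obtain ⟨O', hO1, hO2⟩ := exists_open_of_closed f₀ (⨆ z : Gpt Z₀, Nz z)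
  have hle : ∀ z : Gpt Z₀, Nz z ≤ f₀ ⁻¹ᵁ O' := fun z => by
    rw [hO2]; exact le_iSup (fun z : Gpt Z₀ => Nz z) z
  have hcov : ∀ y ∈ f₀ ⁻¹ᵁ O', ∃ z : Gpt Z₀, y ∈ Nz z := by
    intro y hy
    rw [hO2] at hy
    exact TopologicalSpace.Opens.mem_iSup.1 hy
  let K := genCov Z₀ (f₀ ⁻¹ᵁ O') Nz hle hcov (fun z => inf_le_left) hNz
  have hr0 : ∀ z : Gpt Z₀,
      relCodim (Z₀.res (Nz z)).scheme (Z₀.res (f₀ ⁻¹ᵁ O')).scheme = 0 :=
    fun z => relCodim_hom (K.w z)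
  have hproper : ∀ z, IsProper (K.w z).hom := fun z => by
    have := K.isClosedImmersion z
    infer_instance
  have hi0 : ∀ z : Gpt Z₀, i = i + 2 * relCodim (Z₀.res (Nz z)).scheme
      (Z₀.res (f₀ ⁻¹ᵁ O')).scheme := fun z => by rw [hr0 z]; ring
  have hn0 : ∀ z : Gpt Z₀, n = n + relCodim (Z₀.res (Nz z)).scheme
      (Z₀.res (f₀ ⁻¹ᵁ O')).scheme := fun z => by rw [hr0 z]; ring
  have hF : ContainsFj Z₀ 0 (f₀ ⁻¹ᵁ O') :=
    fun y hy => hle ⟨y, Nat.le_zero.1 hy⟩ (hNz ⟨y, _⟩)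
  have hdZ := dim_res_eq_of_contains Z₀ _ hF
  have hOX : ContainsFj X j O' := by
    intro y hy
    by_contra hyO
    obtain ⟨z, rfl⟩ : y ∈ Set.range f₀ := by
      by_contra h
      exact hyO (hO1 h)
    refine hyO (hF z ?_)
    have h1 := codim_add f₀ j hd₀ z
    omega
  have hdO := dim_res_eq_of_containsFj X j O' hOX
  have hcomp : (f₀ ∣_ O') ≫ (X.resι O' hdO).hom = (f₀ ⁻¹ᵁ O').ι ≫ f₀ := morphismRestrict_ι _ _
  have hd : WeilCoh.dim (Z₀.res (f₀ ⁻¹ᵁ O')).scheme + j = WeilCoh.dim X.scheme := by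
    rw [show WeilCoh.dim (Z₀.res (f₀ ⁻¹ᵁ O')).scheme = WeilCoh.dim Z₀.scheme from hdZ]
    exact hd₀
  have hrange : ∀ x : X.cdPt j, x.1 ∈ Set.range ((f₀ ∣_ O') ≫ (X.resι O' hdO).hom) ↔ x ∈ s := by
    intro x
    rw [hcomp]
    constructor
    · rintro ⟨y, hy⟩
      have h1 : x.1 ∈ C := by rw [← hy]; exact hmemC _
      exact hCs x.1 x.2 h1
    · intro hx
      obtain ⟨z, hz⟩ := exists_gpt f₀ hd₀ x (by rw [hf₀]; exact hsC x hx)
      refine ⟨lp Z₀ (f₀ ⁻¹ᵁ O') z.1 (hle z (hNz z)), ?_⟩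
      exact hz
  refine ⟨Z₀.res (f₀ ⁻¹ᵁ O'), X.res O', inferInstance, X.resι O' hdO,
    containsFj_range X O' hOX hdO, f₀ ∣_ O', inferInstanceAs (IsClosedImmersion (f₀ ∣_ O')), hd,
    ∑ z, ps T (K.w z).hom (hi0 z) (hn0 z) (rs T (l z) (b z)), ?_, ?_⟩
  · have : IsImmersion ((f₀ ∣_ O') ≫ (X.resι O' hdO).hom) := by
      rw [hcomp]; infer_instance
    refine Val.of' T _ _ η ?_ ?_
    · intro x hx
      -- the corresponding generic point of `Z₀`
      obtain ⟨z₀, hz₀⟩ := exists_gpt f₀ hd₀ x (by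
        rw [hf₀]; exact hsC x ((hrange x).1 hx))
      obtain rfl : x = gim f₀ hd₀ z₀ := Subtype.ext hz₀.symm
      refine ⟨Z₀.res (Nz z₀), K.w z₀, w z₀, nonempty_range_of_mem (hNz z₀) (w z₀), ?_, ?_⟩
      · refine (hw z₀).trans ?_
        rw [hcomp, ← Category.assoc]
        exact congrArg (· ≫ f₀) (Scheme.homOfLE_ι Z₀.scheme (hle z₀)).symm
      · rw [K.rs_sum_ps T hi0 hn0 (fun z => rs T (l z) (b z)) z₀]
        refine (hb z₀).symm.trans ?_
        exact (pt_rs T (l z₀) (pc X (f₀ z₀.1) (O z₀) (hxO z₀)) (w z₀) (liftHom_comp _ _ _)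
            (pc_ne X (f₀ z₀.1) (O z₀) (hxO z₀)) _ (b z₀)).symm
    · intro x hx
      by_contra h
      exact hx ((hrange x).2 ((hs x).2 h))
  · intro x hx h
    exact (hs x).1 ((hrange x).1 h) hx

end K876.Rep
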