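import Groth.Agent.BMCoh.K876.Union

/-!
# Restriction of decompositions, vanishing near the generic points
-/

set_option autoImplicit false
set_option linter.unusedSectionVars false
universe u

open TopologicalSpace Topology AlgebraicGeometry CategoryTheory BMCoh Opposite CategoryTheory.Limits

namespace K876.Restr

open K876.Dim K876.Geom K876.Colim K876.Gysin K876.Union

variable {V : ObjectProperty Scheme.{u}} [IsConstructible V] {R : Type u} [CommRing R] {A : Coefs R}
variable (T : PreTheory V R A)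

/-- The decomposition of the target of a morphism of objects with open part this morphism. -/
noncomputable def decOf {S Y : Obj V} (k : S ⟶ Y) : Decomp Y where
  Z := clo Y (Set.range k.hom)ᶜ k.hom.isOpenEmbedding.isOpen_range.isClosed_compl
  U := S
  i := cloι Y _ _
  closedImm := inferInstance
  j := k
  range_eq := by rw [range_cloι, compl_compl]

instance {S Y : Obj V} (k : S ⟶ Y) : IsReduced (decOf k).Z.scheme :=
  inferInstanceAs (IsReduced (clo Y (Set.range k.hom)ᶜ _).scheme)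

theorem range_decOf_i {S Y : Obj V} (k : S ⟶ Y) :
    Set.range (decOf k).i = (Set.range k.hom)ᶜ := range_cloι _ _ _

theorem not_mem_range_i {X : Obj V} (D : Decomp X) (x : X.scheme) :
    x ∉ Set.range D.i ↔ x ∈ Set.range D.j.hom := by
  rw [D.range_eq]; rfl

theorem not_mem_range_j {X : Obj V} (D : Decomp X) (x : X.scheme) :
    x ∉ Set.range D.j.hom ↔ x ∈ Set.range D.i := by
  rw [D.range_eq]; exact not_not

/-- Opens of the closed part come from opens containing the open part. -/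
theorem exists_open {X : Obj V} (D : Decomp X) (N : D.Z.scheme.Opens) :
    ∃ O : X.scheme.Opens, Set.range D.j.hom ⊆ O ∧ D.i ⁻¹ᵁ O = N := by
  have hc : IsClosed (D.i '' (N : Set D.Z.scheme)ᶜ) :=
    D.i.isClosedEmbedding.isClosedMap _ N.isOpen.isClosed_compl
  refine ⟨⟨(D.i '' (N : Set D.Z.scheme)ᶜ)ᶜ, hc.isOpen_compl⟩, ?_, ?_⟩
  · rintro x hx ⟨z, -, rfl⟩
    rw [D.range_eq] at hx
    exact hx ⟨z, rfl⟩
  · apply TopologicalSpace.Opens.ext
    ext z
    change z ∉ D.i ⁻¹' (D.i '' (N : Set D.Z.scheme)ᶜ) ↔ _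
    rw [Set.preimage_image_eq _ D.i.isClosedEmbedding.injective]
    exact not_not

/-- Restriction of a decomposition to an open containing the open part. -/
noncomputable abbrev restr {X : Obj V} (D : Decomp X) (O : X.scheme.Opens)
    (hO : Set.range D.j.hom ⊆ O) : Decomp (X.res O) where
  Z := D.Z.res (D.i ⁻¹ᵁ O)
  U := D.U
  i := D.i ∣_ O
  closedImm := inferInstanceAs (IsClosedImmersion (D.i ∣_ O))
  j := liftHom (X.resι O (dim_eq_of_range D.j O hO)) D.j
    (by change _ ⊆ Set.range O.ι; rw [Scheme.Opens.range_ι]; exact hO)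
  range_eq := by
    have h1 : ∀ x, O.ι ((liftHom (X.resι O (dim_eq_of_range D.j O hO)) D.j
        (by change _ ⊆ Set.range O.ι; rw [Scheme.Opens.range_ι]; exact hO)).hom x) = D.j.hom x := by
      intro x
      exact congrArg (fun φ => φ.hom x) (liftHom_comp (X.resι O (dim_eq_of_range D.j O hO)) D.j
        (by change _ ⊆ Set.range O.ι; rw [Scheme.Opens.range_ι]; exact hO))
    have h2 : ∀ z, O.ι ((D.i ∣_ O) z) = D.i ((D.i ⁻¹ᵁ O).ι z) := fun z => by
      rw [← Scheme.Hom.comp_apply, morphismRestrict_ι, Scheme.Hom.comp_apply]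
    ext x
    constructor
    · rintro ⟨y, rfl⟩ ⟨z, hz⟩
      have h3 : D.j.hom y ∈ Set.range D.j.hom := ⟨y, rfl⟩
      rw [D.range_eq] at h3
      refine h3 ⟨(D.i ⁻¹ᵁ O).ι z, ?_⟩
      rw [← h2, hz, h1]
    · intro hx
      have h3 : O.ι x ∈ Set.range D.j.hom := by
        rw [D.range_eq]
        rintro ⟨z, hz⟩
        refine hx ⟨⟨z, ?_⟩, ?_⟩
        · change D.i z ∈ O
          rw [hz]
          exact x.2
        · apply O.ι.isOpenEmbedding.injective
          exact (h2 _).trans hz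
      obtain ⟨y, hy⟩ := h3
      refine ⟨y, O.ι.isOpenEmbedding.injective ?_⟩
      rw [h1, hy]

theorem restr_j {X : Obj V} (D : Decomp X) (O : X.scheme.Opens) (hO : Set.range D.j.hom ⊆ O) :
    (restr D O hO).j ≫ X.resι O (dim_eq_of_range D.j O hO) = D.j := liftHom_comp _ _ _

theorem restr_i {X : Obj V} (D : Decomp X) (O : X.scheme.Opens) (hO : Set.range D.j.hom ⊆ O) :
    (restr D O hO).i ≫ O.ι = (D.i ⁻¹ᵁ O).ι ≫ D.i := morphismRestrict_ι _ _

theorem restr_codim {X : Obj V} (D : Decomp X) (O : X.scheme.Opens) (hO : Set.range D.j.hom ⊆ O)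
    (hZ : WeilCoh.dim ((D.i ⁻¹ᵁ O : D.Z.scheme.Opens) : Scheme.{u}) = WeilCoh.dim D.Z.scheme) :
    (restr D O hO).codim = D.codim := by
  unfold Decomp.codim relCodim
  rw [show WeilCoh.dim (X.res O).scheme = WeilCoh.dim X.scheme from dim_eq_of_range D.j O hO,
    show WeilCoh.dim (restr D O hO).Z.scheme = WeilCoh.dim D.Z.scheme from hZ]

/-- Residues commute with restriction to an open containing the open part. -/
theorem rd_restr {X : Obj V} (D : Decomp X) (O : X.scheme.Opens) (hO : Set.range D.j.hom ⊆ O)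
    (hZ : WeilCoh.dim ((D.i ⁻¹ᵁ O : D.Z.scheme.Opens) : Scheme.{u}) = WeilCoh.dim D.Z.scheme)
    {M : A.Cat} {i n i' n' : ℤ} (hi : i' = i + 1 - 2 * D.codim) (hn : n' = n - D.codim)
    (hi' : i' = i + 1 - 2 * (restr D O hO).codim) (hn' : n' = n - (restr D O hO).codim)
    (a : T.gp D.U M i n) :
    rs T (D.Z.resι (D.i ⁻¹ᵁ O) hZ) (rd T D hi hn a) = rd T (restr D O hO) hi' hn' a := by
  refine (rd_rs T D (restr D O hO) (X.resι O (dim_eq_of_range D.j O hO)) (D.Z.resι (D.i ⁻¹ᵁ O) hZ)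
    (𝟙 D.U) (restr_i D O hO).symm (by rw [restr_j]; exact Category.id_comp _) hi hn hi' hn' a).trans
    ?_
  exact congrArg (rd T (restr D O hO) hi' hn') (rs_id T D.U a)

/-- Push-forwards commute with restriction to an open containing the open part. -/
theorem ps_restr {X : Obj V} (D : Decomp X) (O : X.scheme.Opens) (hO : Set.range D.j.hom ⊆ O)
    (hZ : WeilCoh.dim ((D.i ⁻¹ᵁ O : D.Z.scheme.Opens) : Scheme.{u}) = WeilCoh.dim D.Z.scheme)
    {M : A.Cat} {i n i' n' : ℤ}
    (hi : i' = i + 2 * relCodim D.Z.scheme X.scheme) (hn : n' = n + relCodim D.Z.scheme X.scheme)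
    (hi' : i' = i + 2 * relCodim (restr D O hO).Z.scheme (X.res O).scheme)
    (hn' : n' = n + relCodim (restr D O hO).Z.scheme (X.res O).scheme)
    (b : T.gp D.Z M i n) :
    rs T (X.resι O (dim_eq_of_range D.j O hO)) (ps T D.i hi hn b) =
      ps T (restr D O hO).i hi' hn' (rs T (D.Z.resι (D.i ⁻¹ᵁ O) hZ) b) := by
  refine rs_ps T D.i (restr D O hO).i (X.resι O (dim_eq_of_range D.j O hO))
    (D.Z.resι (D.i ⁻¹ᵁ O) hZ) (restr_i D O hO).symm ?_ hi hn hi' hn' b
  intro z hz
  have h1 : D.i z ∈ Set.range O.ι := hz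
  rw [Scheme.Opens.range_ι] at h1
  change z ∈ Set.range (D.i ⁻¹ᵁ O).ι
  rw [Scheme.Opens.range_ι]
  exact h1

/-- Lifting classes: if the residue of a class on the open part vanishes on an open `D.i ⁻¹ᵁ O`
of the closed part, the class extends to `O`. -/
theorem exists_lift {X : Obj V} (D : Decomp X) (O : X.scheme.Opens) (hO : Set.range D.j.hom ⊆ O)
    (hZ : WeilCoh.dim ((D.i ⁻¹ᵁ O : D.Z.scheme.Opens) : Scheme.{u}) = WeilCoh.dim D.Z.scheme)
    {M : A.Cat} {i n i' n' : ℤ} (hi : i' = i + 1 - 2 * D.codim) (hn : n' = n - D.codim)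
    (a : T.gp D.U M i n)
    (h : rs T (D.Z.resι (D.i ⁻¹ᵁ O) hZ) (rd T D hi hn a) = 0) :
    ∃ b : T.gp (X.res O) M i n, rs T (restr D O hO).j b = a := by
  have hi' : i' = i + 1 - 2 * (restr D O hO).codim := by rw [restr_codim D O hO hZ]; exact hi
  have hn' : n' = n - (restr D O hO).codim := by rw [restr_codim D O hO hZ]; exact hn
  rw [rd_restr T D O hO hZ hi hn hi' hn'] at h
  exact exists_of_rd_eq_zero T (restr D O hO) hi' hn' a h

/-- Vanishing: a class vanishing on the open part is a push-forward; where the pushed class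
vanishes, so does the class. -/
theorem rs_eq_zero {X : Obj V} (D : Decomp X) (O : X.scheme.Opens) (hO : Set.range D.j.hom ⊆ O)
    (hZ : WeilCoh.dim ((D.i ⁻¹ᵁ O : D.Z.scheme.Opens) : Scheme.{u}) = WeilCoh.dim D.Z.scheme)
    {M : A.Cat} {i n i' n' : ℤ}
    (hi : i' = i + 2 * relCodim D.Z.scheme X.scheme) (hn : n' = n + relCodim D.Z.scheme X.scheme)
    (b : T.gp D.Z M i n) (hb : rs T (D.Z.resι (D.i ⁻¹ᵁ O) hZ) b = 0) :
    rs T (X.resι O (dim_eq_of_range D.j O hO)) (ps T D.i hi hn b) = 0 := by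
  have hc := restr_codim D O hO hZ
  unfold Decomp.codim at hc
  rw [ps_restr T D O hO hZ hi hn (by rw [hc]; exact hi) (by rw [hc]; exact hn), hb]
  exact ps_zero T _ _ _

/-! ### Vanishing near the generic points -/

theorem homOfLE_ι_apply {X : Scheme.{u}} {U U' : X.Opens} (h : U ≤ U')
    (x : ((U : Scheme.{u}) : Type u)) : U'.ι (X.homOfLE h x) = U.ι x :=
  congrArg (fun φ : (U : Scheme.{u}) ⟶ X => φ x) (Scheme.homOfLE_ι X h)

/-- A class vanishing near every point of codimension zero vanishes on an open containing all of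
them. -/
theorem exists_vanish (Z : Obj V) {M : A.Cat} {i n : ℤ} (b : T.gp Z M i n)
    (hb : ∀ z : Z.scheme, WeilCoh.codim Z.scheme z = 0 → ∃ (N : Z.scheme.Opens)
      (hN : WeilCoh.dim (N : Scheme.{u}) = WeilCoh.dim Z.scheme), z ∈ N ∧ rs T (Z.resι N hN) b = 0) :
    ∃ (N : Z.scheme.Opens) (hN : ContainsFj Z 0 N),
      rs T (Z.resι N (dim_res_eq_of_contains Z N hN)) b = 0 := by
  let K : Type u := {z : Z.scheme // WeilCoh.codim Z.scheme z = 0}
  have hK : Finite K := (finite_codim_zero Z).to_subtype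
  choose N hN hz h0 using hb
  let N' : K → Z.scheme.Opens := fun z => N z.1 z.2 ⊓ nb Z z.1
  have hN'z : ∀ z : K, z.1 ∈ N' z := fun z => ⟨hz z.1 z.2, mem_nb Z z.1 z.2⟩
  let U : Z.scheme.Opens := ⨆ z, N' z
  have hle : ∀ z, N' z ≤ U := fun z => le_iSup N' z
  have hU : ContainsFj Z 0 U := fun y hy =>
    hle ⟨y, Nat.le_zero.1 hy⟩ (hN'z ⟨y, Nat.le_zero.1 hy⟩)
  have hdU := dim_res_eq_of_contains Z U hU
  have hd : ∀ z, WeilCoh.dim (N' z : Scheme.{u}) = WeilCoh.dim Z.scheme :=
    fun z => dim_res_eq Z _ z.1 z.2 (hN'z z)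
  refine ⟨U, hU, ?_⟩
  let c : Cov (Z.res U) (fun z : K => Z.res (N' z)) :=
    { w := fun z => Z.resLE (hle z) ((hd z).trans hdU.symm)
      disj := ?_
      cov := ?_ }
  · refine c.eq_zero T _ fun z => ?_
    rw [← rs_comp]
    have h1 : c.w z ≫ Z.resι U hdU =
        Z.resLE (show N' z ≤ N z.1 z.2 from inf_le_left) ((hd z).trans (hN z.1 z.2).symm) ≫
          Z.resι (N z.1 z.2) (hN z.1 z.2) := by
      apply BMCoh.Hom.ext
      exact (Scheme.homOfLE_ι Z.scheme (hle z)).trans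
        (Scheme.homOfLE_ι Z.scheme (show N' z ≤ N z.1 z.2 from inf_le_left)).symm
    rw [h1, rs_comp, h0, rs_zero]
  · intro z z' hne
    rw [Set.disjoint_left]
    rintro _ ⟨x, rfl⟩ ⟨x', hx'⟩
    have h1 : U.ι ((Z.scheme.homOfLE (hle z)) x) = (N' z).ι x := by
      rw [← Scheme.Hom.comp_apply, Scheme.homOfLE_ι]
    have h2 : U.ι ((Z.scheme.homOfLE (hle z')) x') = (N' z').ι x' := by
      rw [← Scheme.Hom.comp_apply, Scheme.homOfLE_ι]
    have h3 : (N' z).ι x = (N' z').ι x' := by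
      rw [← h1, ← h2]
      exact congrArg _ hx'.symm
    have h4 : (N' z).ι x ∈ nb Z z.1 := x.2.2
    have h5 : (N' z).ι x ∈ nb Z z'.1 := by rw [h3]; exact x'.2.2
    exact Set.disjoint_left.1 (nb_disjoint Z z.2 z'.2 (fun h => hne (Subtype.ext h))) h4 h5
  · intro x
    obtain ⟨z, hz⟩ := TopologicalSpace.Opens.mem_iSup.1 x.2
    refine ⟨z, ⟨⟨x.1, hz⟩, ?_⟩⟩
    apply U.ι.isOpenEmbedding.injective
    exact homOfLE_ι_apply (hle z) ⟨x.1, hz⟩

end K876.Restr
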