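import Groth.Agent.BMCoh.K876.Gysin

/-!
# Finite disjoint unions, restriction of decompositions, vanishing near the generic points
-/

set_option autoImplicit false
set_option linter.unusedSectionVars false
universe u

open TopologicalSpace Topology AlgebraicGeometry CategoryTheory BMCoh Opposite CategoryTheory.Limits

namespace K876.Union

open K876.Dim K876.Geom K876.Colim K876.Gysin

variable {V : ObjectProperty Scheme.{u}} [IsConstructible V] {R : Type u} [CommRing R] {A : Coefs R}
variable (T : PreTheory V R A)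

theorem rs_zero {X Y : Obj V} (f : X ⟶ Y) {M : A.Cat} {i n : ℤ} :
    rs T f (0 : T.gp Y M i n) = 0 := map_zero _

theorem rs_add {X Y : Obj V} (f : X ⟶ Y) {M : A.Cat} {i n : ℤ} (a b : T.gp Y M i n) :
    rs T f (a + b) = rs T f a + rs T f b := map_add _ _ _

theorem rs_sub {X Y : Obj V} (f : X ⟶ Y) {M : A.Cat} {i n : ℤ} (a b : T.gp Y M i n) :
    rs T f (a - b) = rs T f a - rs T f b := map_sub _ _ _

theorem rs_sum {X Y : Obj V} (f : X ⟶ Y) {M : A.Cat} {i n : ℤ} {K : Type*} (s : Finset K)
    (a : K → T.gp Y M i n) : rs T f (∑ k ∈ s, a k) = ∑ k ∈ s, rs T f (a k) := map_sum _ _ _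

theorem ps_zero {X Y : Obj V} (f : X.scheme ⟶ Y.scheme) [IsProper f] {M : A.Cat} {i n i' n' : ℤ}
    (hi : i' = i + 2 * relCodim X.scheme Y.scheme) (hn : n' = n + relCodim X.scheme Y.scheme) :
    ps T f hi hn (0 : T.gp X M i n) = 0 := map_zero _

theorem ps_sum {X Y : Obj V} (f : X.scheme ⟶ Y.scheme) [IsProper f] {M : A.Cat} {i n i' n' : ℤ}
    (hi : i' = i + 2 * relCodim X.scheme Y.scheme) (hn : n' = n + relCodim X.scheme Y.scheme)
    {K : Type*} (s : Finset K) (a : K → T.gp X M i n) :
    ps T f hi hn (∑ k ∈ s, a k) = ∑ k ∈ s, ps T f hi hn (a k) := map_sum _ _ _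

/-- An open containing the range of a morphism of objects has full dimension. -/
theorem dim_eq_of_range {S X : Obj V} (g : S ⟶ X) (U : X.scheme.Opens)
    (h : Set.range g.hom ⊆ U) : WeilCoh.dim (U : Scheme.{u}) = WeilCoh.dim X.scheme := by
  refine le_antisymm (dim_immersion_le (S := X.res U) (X := X) U.ι) ?_
  rw [← g.dim_eq]
  let l : S.scheme ⟶ U := IsOpenImmersion.lift U.ι g.hom (by rw [Scheme.Opens.range_ι]; exact h)
  have hl : l ≫ U.ι = g.hom := IsOpenImmersion.lift_fac _ _ _
  have h1 : IsOpenImmersion (l ≫ U.ι) := by rw [hl]; infer_instance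
  have h2 : IsOpenImmersion l := IsOpenImmersion.of_comp l U.ι
  exact dim_immersion_le (S := S) (X := X.res U) l

/-- A finite family of pairwise disjoint pieces of full dimension covering an object. -/
structure Cov {K : Type u} (X : Obj V) (W : K → Obj V) where
  /-- The inclusions. -/
  w : ∀ k, W k ⟶ X
  /-- The pieces are disjoint. -/
  disj : ∀ k l, k ≠ l → Disjoint (Set.range (w k).hom) (Set.range (w l).hom)
  /-- The pieces cover. -/
  cov : ∀ x : X.scheme, ∃ k, x ∈ Set.range (w k).hom

theorem eq_zero_on {K : Type u} {X : Obj V} {W : K → Obj V} (c : Cov X W) {M : A.Cat} {i n : ℤ}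
    (a : T.gp X M i n) (ha : ∀ k, rs T (c.w k) a = 0) (s : Finset K) :
    ∀ (S : Obj V) (g : S ⟶ X), Set.range g.hom = ⋃ k ∈ s, Set.range (c.w k).hom →
      rs T g a = 0 := by
  classical
  induction s using Finset.induction_on with
  | empty =>
    intro S g hg
    refine eq_zero_of_isEmpty T ⟨fun x => ?_⟩ _
    have : g.hom x ∈ Set.range g.hom := ⟨x, rfl⟩
    rw [hg] at this
    simp at this
  | insert k s hk ih =>
    intro S g hg
    rcases s.eq_empty_or_nonempty with rfl | ⟨l, hl⟩
    · have h1 : Set.range g.hom ⊆ Set.range (c.w k).hom := by rw [hg]; simp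
      rw [← liftHom_comp (c.w k) g h1, rs_comp, ha k, rs_zero]
    · let U : X.scheme.Opens := ⟨⋃ k ∈ s, Set.range (c.w k).hom,
        isOpen_biUnion fun k _ => (c.w k).hom.isOpenEmbedding.isOpen_range⟩
      have hU : Set.range (c.w l).hom ⊆ U := Set.subset_biUnion_of_mem
        (u := fun k => Set.range (c.w k).hom) hl
      let gU : X.res U ⟶ X := X.resι U (dim_eq_of_range (c.w l) U hU)
      have hgU : Set.range gU.hom = ⋃ k ∈ s, Set.range (c.w k).hom := U.range_ι
      have h1 : Set.range gU.hom ⊆ Set.range g.hom := by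
        rw [hgU, hg]
        exact Set.biUnion_subset_biUnion_left (Finset.subset_insert k s)
      have h2 : Set.range (c.w k).hom ⊆ Set.range g.hom := by
        rw [hg]
        exact Set.subset_biUnion_of_mem (u := fun k => Set.range (c.w k).hom)
          (Finset.mem_insert_self k s)
      refine eq_zero_of_two T (liftHom g (c.w k) h2) (liftHom g gU h1) ?_ _ ?_ ?_
      · have e1 : ∀ x, g.hom ((liftHom g (c.w k) h2).hom x) = (c.w k).hom x := fun x => by
          rw [← Scheme.Hom.comp_apply, ← comp_hom, liftHom_comp]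
        have e2 : ∀ x, g.hom ((liftHom g gU h1).hom x) = gU.hom x := fun x => by
          rw [← Scheme.Hom.comp_apply, ← comp_hom, liftHom_comp]
        have hd : Disjoint (Set.range (c.w k).hom) (Set.range gU.hom) := by
          rw [hgU, Set.disjoint_iUnion₂_right]
          intro l hl
          exact c.disj k l (fun h => hk (h ▸ hl))
        ext x
        constructor
        · rintro ⟨y, rfl⟩ ⟨z, hz⟩
          refine Set.disjoint_left.1 hd ⟨y, rfl⟩ ⟨z, ?_⟩
          rw [← e2, hz, e1]
        · intro hx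
          have h3 : g.hom x ∈ Set.range g.hom := ⟨x, rfl⟩
          rw [hg, Finset.set_biUnion_insert] at h3
          rcases h3 with h3 | h3
          · obtain ⟨y, hy⟩ := h3
            refine ⟨y, g.hom.isOpenEmbedding.injective ?_⟩
            rw [e1, hy]
          · exfalso
            rw [← hgU] at h3
            obtain ⟨y, hy⟩ := h3
            refine hx ⟨y, g.hom.isOpenEmbedding.injective ?_⟩
            rw [e2, hy]
      · rw [← rs_comp, liftHom_comp, ha k]
      · rw [← rs_comp, liftHom_comp]
        exact ih _ gU hgU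

/-- A class vanishing on each piece vanishes. -/
theorem Cov.eq_zero {K : Type u} [Finite K] {X : Obj V} {W : K → Obj V} (c : Cov X W) {M : A.Cat}
    {i n : ℤ} (a : T.gp X M i n) (ha : ∀ k, rs T (c.w k) a = 0) : a = 0 := by
  have := Fintype.ofFinite K
  have h := eq_zero_on T c a ha Finset.univ X (𝟙 X) (by
    ext x
    simp only [id_hom, Finset.mem_univ, Set.iUnion_true, Set.mem_iUnion]
    exact ⟨fun _ => c.cov x, fun _ => ⟨x, rfl⟩⟩)
  rwa [rs_id] at h

theorem Cov.range_eq {K : Type u} {X : Obj V} {W : K → Obj V} (c : Cov X W) (k : K) :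
    Set.range (c.w k).hom = (⋃ l ∈ {l | l ≠ k}, Set.range (c.w l).hom)ᶜ := by
  ext x
  constructor
  · intro hx h
    simp only [Set.mem_iUnion] at h
    obtain ⟨l, hl, h⟩ := h
    exact Set.disjoint_left.1 (c.disj l k hl) h hx
  · intro hx
    obtain ⟨l, hl⟩ := c.cov x
    by_cases h : l = k
    · rwa [h] at hl
    · exact absurd (Set.mem_biUnion (show l ∈ {l | l ≠ k} from h) hl) hx

theorem Cov.isClosedImmersion {K : Type u} {X : Obj V} {W : K → Obj V} (c : Cov X W) (k : K) :
    IsClosedImmersion (c.w k).hom :=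
  isClosedImmersion_of_compl (c.w k) _
    (isOpen_biUnion fun l _ => (c.w l).hom.isOpenEmbedding.isOpen_range) (c.range_eq k)

/-- The push-forward from one piece vanishes on the others. -/
theorem Cov.rs_ps_ne {K : Type u} {X : Obj V} {W : K → Obj V} (c : Cov X W) {k l : K}
    (hkl : k ≠ l) [IsProper (c.w k).hom] {M : A.Cat} {i n : ℤ}
    (hi : i = i + 2 * relCodim (W k).scheme X.scheme) (hn : n = n + relCodim (W k).scheme X.scheme)
    (a : T.gp (W k) M i n) : rs T (c.w l) (ps T (c.w k).hom hi hn a) = 0 := by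
  let U : X.scheme.Opens := ⟨⋃ l ∈ {l | l ≠ k}, Set.range (c.w l).hom,
    isOpen_biUnion fun l _ => (c.w l).hom.isOpenEmbedding.isOpen_range⟩
  have hU : Set.range (c.w l).hom ⊆ U := Set.subset_biUnion_of_mem
    (u := fun k => Set.range (c.w k).hom) (show l ∈ {l | l ≠ k} from hkl.symm)
  let gU : X.res U ⟶ X := X.resι U (dim_eq_of_range (c.w l) U hU)
  have hgU : Set.range gU.hom = U := U.range_ι
  have h : Set.range (c.w k).hom = (Set.range gU.hom)ᶜ := by rw [hgU]; exact c.range_eq k
  have h1 := rs_j_ps T (decTwo (c.w k) gU h) hi hn a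
  have h2 : rs T gU (ps T (c.w k).hom hi hn a) = 0 := h1
  rw [← liftHom_comp gU (c.w l) (by rw [hgU]; exact hU), rs_comp, h2, rs_zero]

/-- A class is the sum of the push-forwards of its restrictions. -/
theorem Cov.sum_eq {K : Type u} [Fintype K] {X : Obj V} {W : K → Obj V} (c : Cov X W)
    [∀ k, IsProper (c.w k).hom] {M : A.Cat} {i n : ℤ}
    (hi : ∀ k, i = i + 2 * relCodim (W k).scheme X.scheme)
    (hn : ∀ k, n = n + relCodim (W k).scheme X.scheme)
    (a : T.gp X M i n) :
    a = ∑ k, ps T (c.w k).hom (hi k) (hn k) (rs T (c.w k) a) := by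
  classical
  rw [← sub_eq_zero]
  refine c.eq_zero T _ fun l => ?_
  rw [rs_sub, rs_sum, Finset.sum_eq_single l, rs_ps_self, sub_self]
  · intro k _ hk
    exact c.rs_ps_ne T hk _ _ _
  · intro h
    exact absurd (Finset.mem_univ l) h

/-- Restricting a sum of push-forwards from the pieces. -/
theorem Cov.rs_sum_ps {K : Type u} [Fintype K] {X : Obj V} {W : K → Obj V} (c : Cov X W)
    [∀ k, IsProper (c.w k).hom] {M : A.Cat} {i n : ℤ}
    (hi : ∀ k, i = i + 2 * relCodim (W k).scheme X.scheme)
    (hn : ∀ k, n = n + relCodim (W k).scheme X.scheme)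
    (b : ∀ k, T.gp (W k) M i n) (l : K) :
    rs T (c.w l) (∑ k, ps T (c.w k).hom (hi k) (hn k) (b k)) = b l := by
  classical
  rw [rs_sum, Finset.sum_eq_single l, rs_ps_self]
  · intro k _ hk
    exact c.rs_ps_ne T hk _ _ _
  · intro h
    exact absurd (Finset.mem_univ l) h

end K876.Union
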